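import Groth.Agent.SyntLib.Mor
import Groth.Agent.KoszulLib.H1

/-!
# Flat quotients of smooth algebras by `H₁`-regular sequences are syntomic
-/

set_option autoImplicit false
set_option linter.style.haveILetI false
universe u

open RingTheory.Sequence TensorProduct IsLocalRing

namespace Groth.Agent.SyntLib

/-- A flat quotient of a smooth algebra by an `H₁`-regular sequence is syntomic. -/
theorem isSyntomic_of_h1 {A P B : Type u} [CommRing A] [CommRing P] [CommRing B] [Algebra A P] [Algebra A B]
    [Algebra.Smooth A P] (φ : P →ₐ[A] B) (hφ : Function.Surjective φ) {r : ℕ} (f : Fin r → P)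
    (hker : RingHom.ker φ.toRingHom = Ideal.span (Set.range f)) (hf : CAlgX.IsH1Regular f) [Module.Flat A B] :
    Synt.IsSyntomic A B := by
  haveI hfp : Algebra.FinitePresentation A B :=
    Algebra.FinitePresentation.of_surjective hφ (by rw [hker]; exact fg_span_range f)
  let eB : (P ⧸ Ideal.span (Set.range f)) ≃ₐ[A] B :=
    (Ideal.quotientEquivAlgOfEq A hker.symm).trans (Ideal.quotientKerAlgEquivOfSurjective hφ)
  haveI : Module.Flat A (P ⧸ Ideal.span (Set.range f)) := Module.Flat.of_linearEquiv eB.toLinearEquiv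
  have hloc : ∀ q : PrimeSpectrum B, ∃ g : B, g ∉ q.asIdeal ∧ Synt.IsSyntomic A (Localization.Away g) := by
    intro q
    let p := q.asIdeal.comap (algebraMap A B)
    let κ := p.ResidueField
    obtain ⟨Q, hQ, hQc⟩ := exists_fiber_prime p q.asIdeal rfl
    let β : p.Fiber P →ₐ[κ] p.Fiber B := Algebra.TensorProduct.map (AlgHom.id κ κ) φ
    have hβ : Function.Surjective β := fun y => by
      induction y using TensorProduct.induction_on with
      | zero => exact ⟨0, map_zero _⟩
      | tmul a b => obtain ⟨c, rfl⟩ := hφ b; exact ⟨a ⊗ₜ c, rfl⟩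
      | add y y' hy hy' => obtain ⟨c, rfl⟩ := hy; obtain ⟨c', rfl⟩ := hy'; exact ⟨c + c', map_add _ _ _⟩
    let f' : Fin r → p.Fiber P := fun i => (1 : κ) ⊗ₜ[A] f i
    have hkerβ : RingHom.ker β.toRingHom = Ideal.span (Set.range f') := by
      have h2 : RingHom.ker (Algebra.TensorProduct.map (AlgHom.id A κ) φ) =
          (RingHom.ker φ).map (Algebra.TensorProduct.includeRight : P →ₐ[A] κ ⊗[A] P) :=
        Algebra.TensorProduct.lTensor_ker φ hφ
      rw [show Set.range f' = (Algebra.TensorProduct.includeRight : P →ₐ[A] κ ⊗[A] P) '' Set.range f from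
        Set.range_comp (Algebra.TensorProduct.includeRight : P →ₐ[A] κ ⊗[A] P) f, ← Ideal.map_span, ← hker]
      exact h2
    haveI : Algebra.Smooth κ (p.Fiber P) := inferInstanceAs (Algebra.Smooth κ (κ ⊗[A] P))
    obtain ⟨ψ, hψ, hψker, -⟩ := exists_local_quot β hβ Q
    let T := Localization.AtPrime (Q.comap β.toRingHom)
    haveI := RegLocus.isRegularRing_of_smooth κ (p.Fiber P)
    haveI : IsRegularLocalRing T := IsRegularRing.isRegularLocalRing_localization _
    haveI : Algebra.EssFiniteType (p.Fiber P) T :=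
      Algebra.EssFiniteType.of_isLocalization _ (Q.comap β.toRingHom).primeCompl
    haveI : Algebra.EssFiniteType κ T := Algebra.EssFiniteType.comp κ (p.Fiber P) T
    let fT : Fin r → T := algebraMap _ T ∘ f'
    have hmem : ∀ i, fT i ∈ maximalIdeal T := fun i => by
      refine (IsLocalization.AtPrime.to_map_mem_maximal_iff T (Q.comap β.toRingHom) _).mpr ?_
      have : f' i ∈ RingHom.ker β.toRingHom := by rw [hkerβ]; exact Ideal.subset_span (Set.mem_range_self i)
      rw [Ideal.mem_comap, RingHom.mem_ker.mp this]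
      exact zero_mem _
    have hw : IsWeaklyRegular T (List.ofFn fT) :=
      KoszulLib.isWeaklyRegular_of_h1 (fun i => IsLocalRing.maximalIdeal_le_jacobson _ (hmem i))
        (KoszulLib.h1_localization (Q.comap β.toRingHom).primeCompl T (KoszulLib.h1_baseChange κ hf))
    have hlist : Ideal.ofList (List.ofFn fT) = Ideal.span (Set.range fT) := by
      rw [Ideal.ofList]
      congr 1
      ext y
      simp [List.mem_ofFn]
    have hne : Ideal.ofList (List.ofFn fT) ≠ ⊤ := by
      rw [hlist]
      exact ne_top_of_le_ne_top (maximalIdeal.isMaximal T).ne_top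
        (Ideal.span_le.mpr (by rintro _ ⟨i, rfl⟩; exact hmem i))
    have hci : Synt.IsCIOver κ (Localization.AtPrime Q) := by
      refine ⟨T, inferInstance, inferInstance, inferInstance, inferInstance, List.ofFn fT, fun x hx => ?_,
        (isRegular_iff_weakly _ hne).mpr hw, ⟨?_⟩⟩
      · obtain ⟨i, rfl⟩ := List.mem_ofFn.mp hx
        exact hmem i
      · refine (Ideal.quotientKerAlgEquivOfSurjective hψ).symm.trans (Ideal.quotientEquivAlgOfEq κ ?_)
        rw [hlist, show Set.range fT = algebraMap _ T '' Set.range f' from Set.range_comp (algebraMap (p.Fiber P) T) f', ← Ideal.map_span, ← hkerβ]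
        exact hψker
    obtain ⟨q1, hq1, hq1c, -, ⟨e⟩⟩ := exists_away_prime (R := A) (1 : B) q.asIdeal
      (fun h => q.isPrime.ne_top ((Ideal.eq_top_iff_one _).mpr h))
    haveI : Algebra.FinitePresentation B (Localization.Away (1 : B)) := IsLocalization.Away.finitePresentation 1
    haveI : Algebra.FinitePresentation A (Localization.Away (1 : B)) := Algebra.FinitePresentation.trans A B _
    haveI : Module.Flat B (Localization.AtPrime q.asIdeal) := IsLocalization.flat _ q.asIdeal.primeCompl
    haveI : Module.Flat A (Localization.AtPrime q.asIdeal) := Module.Flat.trans A B _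
    obtain ⟨g, hg, n, c, F, hF, ⟨e'⟩⟩ := exists_relGCI_nhd (1 : B) q.asIdeal
      (fun h => q.isPrime.ne_top ((Ideal.eq_top_iff_one _).mpr h)) p Q hQc hci
    exact ⟨g, hg, isSyntomic_of_algEquiv e'.symm (isSyntomic_relGCI hF)⟩
  choose g hg hsyn using hloc
  refine isSyntomic_of_cover (Set.range g) ?_ (by rintro _ ⟨q, rfl⟩; exact hsyn q)
  by_contra h
  obtain ⟨m, hm, hle⟩ := Ideal.exists_le_maximal _ h
  exact hg ⟨m, hm.isPrime⟩ (hle (Ideal.subset_span ⟨⟨m, hm.isPrime⟩, rfl⟩))

end Groth.Agent.SyntLib
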