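import Groth.Agent.SyntLib.MorStd
import Groth.Agent.SyntLib.H1Syn
import Groth.Agent.KoszulLib.Iff

/-!
# Koszul morphisms and syntomic morphisms
-/

set_option autoImplicit false
set_option linter.style.haveILetI false
universe u

open RingTheory.Sequence AlgebraicGeometry CategoryTheory Limits

namespace Groth.Agent.SyntLib

theorem h1_of_koszul {R : Type u} [CommRing R] {rs : List R} (h : LCI.IsKoszulRegularSeq R rs) :
    CAlgX.IsH1Regular rs.get :=
  KoszulLib.isH1Regular_of_acyclic (KoszulLib.isKoszulRegularSeq_iff_acyclic.mp (by rw [List.ofFn_get]; exact h))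

theorem isRegularImmersion_h1 {Z X : Scheme.{u}} {i : Z ⟶ X} (h : RegImm.IsRegularImmersion .koszul i) :
    RegImm.IsRegularImmersion .h1 i :=
  ⟨h.1, fun z => by
    obtain ⟨U, hz, hc, rs, hs, hker⟩ := h.2 z
    exact ⟨U, hz, hc, rs, h1_of_koszul hs, hker⟩⟩

/-- A flat morphism factoring as an `H₁`-regular immersion into something smooth is syntomic. -/
theorem synMor_of_regularImmersion {Z P S : Scheme.{u}} (i : Z ⟶ P) (π : P ⟶ S) [Smooth π]
    (h : RegImm.IsRegularImmersion .h1 i) [Flat (i ≫ π)] : SynMor (i ≫ π) := by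
  rw [HasRingHomProperty.iff_exists_appLE (P := SynMor.{u}) syn_awaySource]
  intro z
  obtain ⟨U, hz, hc, rs, hs, hker⟩ := h.2 z
  obtain ⟨_, ⟨V, hV, rfl⟩, hzV, -⟩ :=
    S.isBasis_affineOpens.exists_subset_of_mem_open (Set.mem_univ (π (i z))) isOpen_univ
  obtain ⟨t, htle, hzt⟩ := U.2.exists_basicOpen_le (V := π ⁻¹ᵁ V) ⟨i z, hzV⟩ hz
  let W : P.affineOpens := ⟨P.basicOpen t, U.2.basicOpen t⟩
  have hWU : W.1 ≤ U.1 := P.basicOpen_le t
  have hZU : IsAffineOpen (i ⁻¹ᵁ U.1) := by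
    haveI := hc
    haveI : IsAffine U.1.toScheme := U.2
    exact isAffine_of_isAffineHom (i ∣_ U.1)
  have hsurjU : Function.Surjective (i.app U.1).hom := by
    haveI := hc
    haveI : IsAffine U.1.toScheme := U.2
    have h1 := ((isClosedImmersion_iff_isAffineHom.mp hc).2 ⊤ (isAffineOpen_top U.1.toScheme))
    rw [morphismRestrict_app] at h1
    have h1' : Function.Surjective (⇑(Z.presheaf.map (eqToHom (image_morphismRestrict_preimage i U.1 ⊤)).op).hom ∘
        ⇑(i.app (U.1.ι ''ᵁ ⊤)).hom) := h1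
    have h2 : Function.Surjective (i.app (U.1.ι ''ᵁ ⊤)).hom :=
      Function.Surjective.of_comp_left h1'
        ((ConcreteCategory.isIso_iff_bijective (Z.presheaf.map (eqToHom (image_morphismRestrict_preimage i U.1 ⊤)).op)).mp inferInstance).1
    rw [show U.1.ι ''ᵁ (⊤ : U.1.toScheme.Opens) = U.1 from by simp] at h2
    exact h2
  have hZW : i ⁻¹ᵁ W.1 = Z.basicOpen (i.app U.1 t) := Scheme.preimage_basicOpen i t
  have hW' : IsAffineOpen (i ⁻¹ᵁ W.1) := by rw [hZW]; exact hZU.basicOpen _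
  have eW : i ⁻¹ᵁ W.1 ≤ (i ≫ π) ⁻¹ᵁ V := fun w hw => htle hw
  refine ⟨⟨V, hV⟩, ⟨i ⁻¹ᵁ W.1, hW'⟩, hzt, eW, ?_⟩
  have hflat : ((i ≫ π).appLE V (i ⁻¹ᵁ W.1) eW).hom.Flat :=
    HasRingHomProperty.appLE @Flat (i ≫ π) inferInstance ⟨V, hV⟩ ⟨_, hW'⟩ eW
  have hsm : (π.appLE V W.1 htle).hom.Smooth :=
    HasRingHomProperty.appLE @Smooth π inferInstance ⟨V, hV⟩ W htle
  have hfac : (i ≫ π).appLE V (i ⁻¹ᵁ W.1) eW = π.appLE V W.1 htle ≫ i.app W.1 := by
    rw [Scheme.Hom.app_eq_appLE]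
    exact (Scheme.Hom.appLE_comp_appLE i π V W.1 (i ⁻¹ᵁ W.1) htle le_rfl).symm
  rw [hfac] at hflat ⊢
  letI : Algebra Γ(S, V) Γ(P, W.1) := (π.appLE V W.1 htle).hom.toAlgebra
  letI : Algebra Γ(S, V) Γ(Z, i ⁻¹ᵁ W.1) := (π.appLE V W.1 htle ≫ i.app W.1).hom.toAlgebra
  haveI : Algebra.Smooth Γ(S, V) Γ(P, W.1) := hsm
  haveI : Module.Flat Γ(S, V) Γ(Z, i ⁻¹ᵁ W.1) := hflat
  let φ : Γ(P, W.1) →ₐ[Γ(S, V)] Γ(Z, i ⁻¹ᵁ W.1) := ⟨(i.app W.1).hom, fun _ => rfl⟩
  letI : Algebra Γ(P, U.1) Γ(P, W.1) := (P.presheaf.map (homOfLE hWU).op).hom.toAlgebra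
  letI : Algebra Γ(Z, i ⁻¹ᵁ U.1) Γ(Z, i ⁻¹ᵁ W.1) :=
    (Z.presheaf.map (homOfLE (fun w hw => hWU hw : i ⁻¹ᵁ W.1 ≤ i ⁻¹ᵁ U.1)).op).hom.toAlgebra
  haveI : IsLocalization.Away t Γ(P, W.1) := U.2.isLocalization_basicOpen t
  haveI : IsLocalization.Away ((i.app U.1).hom t) Γ(Z, i ⁻¹ᵁ W.1) :=
    hZU.isLocalization_of_eq_basicOpen _ (homOfLE (fun w hw => hWU hw : i ⁻¹ᵁ W.1 ≤ i ⁻¹ᵁ U.1)) hZW
  have hM : Submonoid.map (i.app U.1).hom (Submonoid.powers t) = Submonoid.powers ((i.app U.1).hom t) :=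
    Submonoid.map_powers _ t
  have hmap : (i.app W.1).hom = IsLocalization.map (M := Submonoid.powers t) (S := Γ(P, W.1))
      (T := Submonoid.powers ((i.app U.1).hom t)) Γ(Z, i ⁻¹ᵁ W.1) (i.app U.1).hom
      (hM ▸ Submonoid.le_comap_map _) := by
    refine IsLocalization.ringHom_ext (Submonoid.powers t) ?_
    rw [IsLocalization.map_comp]
    exact congrArg CommRingCat.Hom.hom (i.naturality (homOfLE hWU).op)
  have hφ : Function.Surjective φ := fun y => by
    obtain ⟨⟨a, ⟨_, k, rfl⟩⟩, he⟩ := IsLocalization.surj (Submonoid.powers ((i.app U.1).hom t)) y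
    obtain ⟨b, hb⟩ := hsurjU a
    refine ⟨IsLocalization.mk' Γ(P, W.1) b (⟨t ^ k, k, rfl⟩ : Submonoid.powers t), ?_⟩
    show (i.app W.1).hom _ = y
    rw [hmap, IsLocalization.map_mk', IsLocalization.mk'_eq_iff_eq_mul]
    simp only [hb, map_pow]
    simpa using he.symm
  refine isSyntomic_of_h1 φ hφ (algebraMap Γ(P, U.1) Γ(P, W.1) ∘ rs.get) ?_
    (KoszulLib.h1_localization (Submonoid.powers t) Γ(P, W.1) hs)
  show RingHom.ker (i.app W.1).hom = _
  rw [hmap, IsLocalization.ker_map (S := Γ(P, W.1)) Γ(Z, i ⁻¹ᵁ W.1) (i.app U.1).hom hM, hker, Set.range_comp,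
    ← Ideal.map_span, Ideal.ofList]
  congr 2
  ext y
  simp [List.mem_iff_getElem, Fin.exists_iff]

/-- A flat morphism that is Koszul at every point is syntomic. -/
theorem synMor_of_flat_of_koszul {X S : Scheme.{u}} (f : X ⟶ S) [Flat f] (h : ∀ x, Synt.IsKoszulAt f x) :
    SynMor f := by
  choose U P i π hx hlft hreg hsm hfac using h
  refine IsZariskiLocalAtSource.of_iSup_eq_top U (eq_top_iff.mpr fun x _ => TopologicalSpace.Opens.mem_iSup.mpr ⟨x, hx x⟩) fun x => ?_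
  rw [← hfac x]
  haveI := hsm x
  haveI : Flat (i x ≫ π x) := by rw [hfac x]; infer_instance
  exact synMor_of_regularImmersion (i x) (π x) (isRegularImmersion_h1 (hreg x))

theorem acyclic_map_equiv {R R' : Type u} [CommRing R] [CommRing R'] (e : R ≃+* R') {n : ℕ} {f : Fin n → R}
    (hf : Wiebe.Acyclic f) : Wiebe.Acyclic (e ∘ f) := by
  intro z hz
  have hid : ∀ (m : ℕ) (y : Wiebe.X R' m), KoszulLib.mapX e.toRingHom (KoszulLib.mapX e.symm.toRingHom y) = y := by
    intro m y; funext s; exact e.apply_symm_apply _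
  have h0 : Wiebe.d f (KoszulLib.mapX e.symm.toRingHom z) = 0 := by
    have := KoszulLib.mapX_d e.symm.toRingHom (e ∘ f) z
    rw [hz] at this
    rw [show e.symm.toRingHom ∘ (e ∘ f) = f from funext fun i => e.symm_apply_apply _] at this
    refine Eq.trans this.symm ?_
    funext s; simp [KoszulLib.mapX]
  obtain ⟨v, r, hv⟩ := hf _ h0
  refine ⟨KoszulLib.mapX e.toRingHom v, e r, ?_⟩
  conv_lhs => rw [← hid n z, hv]
  rw [← KoszulLib.mapX_bot e.toRingHom n,
    show (⇑e ∘ f) = (⇑e.toRingHom ∘ f) from rfl, ← KoszulLib.mapX_d e.toRingHom f v]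
  funext s
  simp [KoszulLib.mapX]

/-- The equations of a relative complete intersection are Koszul regular. -/
theorem acyclic_relGCI {R : Type u} [CommRing R] {n c : ℕ} {F : Fin c → MvPolynomial (Fin n) R}
    (h : Synt.IsRelGCI R n c F) : Wiebe.Acyclic F := by
  refine KoszulLib.acyclic_of_local fun Q hQ => ?_
  by_cases hle : Ideal.span (Set.range F) ≤ Q
  · have := (relGCI_regular h Q hle).1.toIsWeaklyRegular
    rw [List.map_ofFn] at this
    exact KoszulLib.acyclic_of_isWeaklyRegular' this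
  · refine KoszulLib.acyclic_of_span_eq_top ?_
    rw [Set.range_comp, ← Ideal.map_span]
    obtain ⟨x, hxJ, hxQ⟩ := SetLike.not_le_iff_exists.mp hle
    exact Ideal.eq_top_of_isUnit_mem _ (Ideal.mem_map_of_mem _ hxJ)
      (IsLocalization.map_units (Localization.AtPrime Q) (⟨x, hxQ⟩ : Q.primeCompl))

/-- A closed subscheme of an affine scheme cut out by a Koszul-regular sequence. -/
theorem isRegularImmersion_spec {Z : Scheme.{u}} {P B : CommRingCat.{u}} (e : Z ≅ Spec B) (φ : P ⟶ B)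
    (hφ : Function.Surjective φ.hom) {r : ℕ} (f : Fin r → P) (hker : RingHom.ker φ.hom = Ideal.span (Set.range f))
    (hf : Wiebe.Acyclic f) : RegImm.IsRegularImmersion .koszul (e.hom ≫ Spec.map φ) := by
  haveI : IsClosedImmersion (Spec.map φ) := IsClosedImmersion.spec_of_surjective φ hφ
  refine ⟨inferInstance, fun z => ⟨⟨⊤, isAffineOpen_top _⟩, trivial,
    IsZariskiLocalAtTarget.restrict (P := @IsClosedImmersion) inferInstance _,
    List.ofFn fun i => (Scheme.ΓSpecIso P).inv.hom (f i), ?_, ?_⟩⟩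
  · exact KoszulLib.isKoszulRegularSeq_of_acyclic
      (acyclic_map_equiv (Scheme.ΓSpecIso P).symm.commRingCatIsoToRingEquiv hf)
  · have happ : (e.hom ≫ Spec.map φ).appTop = (Scheme.ΓSpecIso P).hom ≫ φ ≫ (Scheme.ΓSpecIso B).inv ≫ e.hom.appTop := by
      rw [Scheme.Hom.comp_appTop, ← Category.assoc (Scheme.ΓSpecIso P).hom, ← Scheme.ΓSpecIso_naturality,
        Category.assoc, Iso.hom_inv_id_assoc]
    have hker' : RingHom.ker ((e.hom ≫ Spec.map φ).appTop).hom =
        (RingHom.ker φ.hom).comap (Scheme.ΓSpecIso P).hom.hom := by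
      rw [happ]
      ext a
      simp only [RingHom.mem_ker, CommRingCat.hom_comp, RingHom.comp_apply, Ideal.mem_comap]
      rw [map_eq_zero_iff _ ((ConcreteCategory.isIso_iff_bijective e.hom.appTop).mp (Scheme.Γ.mapIso e.op).isIso_hom).1,
        map_eq_zero_iff _ ((ConcreteCategory.isIso_iff_bijective (Scheme.ΓSpecIso B).inv).mp inferInstance).1]
    show RingHom.ker ((e.hom ≫ Spec.map φ).appTop).hom = _
    have hcm : ∀ (A B : Type u) [CommRing A] [CommRing B] (ε : A ≃+* B) (I : Ideal B),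
        I.comap (ε : A →+* B) = I.map (ε.symm : B →+* A) := fun A B _ _ ε I => (Ideal.map_symm ε).symm
    rw [hker', hker]
    refine (hcm _ _ (Scheme.ΓSpecIso P).commRingCatIsoToRingEquiv _).trans ?_
    rw [Ideal.map_span, Ideal.ofList]
    congr 1
    ext y
    simp [List.mem_ofFn]
    rfl

/-- Syntomic morphisms are Koszul at every point. -/
theorem isKoszulAt_of_synMor {X S : Scheme.{u}} (f : X ⟶ S) (h : SynMor f) (x : X) : Synt.IsKoszulAt f x := by
  rw [HasRingHomProperty.iff_exists_appLE (P := SynMor.{u}) syn_awaySource] at h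
  obtain ⟨V, U, hx, e, hs⟩ := h x
  obtain ⟨U', e', hx', R, _, n, c, F, hF, e₁, e₂, hcomm⟩ := exists_standard_chart f V U e hs x hx
  let φ : CommRingCat.of (MvPolynomial (Fin n) R) ⟶ CommRingCat.of (Synt.RelGCIRing R n c F) :=
    CommRingCat.ofHom (Ideal.Quotient.mk (Ideal.span (Set.range F)))
  let π₀ : Spec (CommRingCat.of (MvPolynomial (Fin n) R)) ⟶ Spec (CommRingCat.of R) :=
    Spec.map (CommRingCat.ofHom (algebraMap R (MvPolynomial (Fin n) R)))
  have hπ₀ : Smooth π₀ := HasRingHomProperty.Spec_iff.mpr (RingHom.smooth_algebraMap.mpr ⟨inferInstance, inferInstance⟩)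
  haveI : Smooth (π₀ ≫ e₂.inv ≫ V.1.ι) := inferInstance
  have hreg := isRegularImmersion_spec e₁ φ Ideal.Quotient.mk_surjective F Ideal.mk_ker (acyclic_relGCI hF)
  have hfac : (e₁.hom ≫ Spec.map φ) ≫ π₀ ≫ e₂.inv ≫ V.1.ι = U'.1.ι ≫ f := by
    have : Spec.map φ ≫ π₀ = Spec.map (CommRingCat.ofHom (algebraMap R (Synt.RelGCIRing R n c F))) := by
      rw [← Spec.map_comp]; rfl
    rw [Category.assoc, reassoc_of% this, reassoc_of% hcomm, Iso.hom_inv_id_assoc, Scheme.Hom.resLE_comp_ι]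
  haveI : IsClosedImmersion (Spec.map φ) := IsClosedImmersion.spec_of_surjective φ Ideal.Quotient.mk_surjective
  refine ⟨U'.1, _, e₁.hom ≫ Spec.map φ, π₀ ≫ e₂.inv ≫ V.1.ι, hx', ?_, hreg, inferInstance, hfac⟩
  rw [← hfac]
  infer_instance

/-- Syntomic morphisms are flat. -/
theorem flat_of_synMor {X S : Scheme.{u}} (f : X ⟶ S) (h : SynMor f) : Flat f := by
  rw [HasRingHomProperty.eq_affineLocally @Flat]
  rw [SynMor, affineLocally_iff_affineOpens_le] at h
  rw [affineLocally_iff_affineOpens_le]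
  exact fun V U e => (h V U e).1

end Groth.Agent.SyntLib
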