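import Groth.Agent.SyntLib.Field
import Groth.Agent.RegLocus.Smooth

/-!
# Examples and criteria of complete intersections over a field
-/

set_option autoImplicit false
set_option linter.style.haveILetI false
universe u

open IsLocalRing RingTheory.Sequence MvPolynomial

namespace Groth.Agent.SyntLib

variable {k : Type u} [Field k]

/-- A regular local ring is a complete intersection. -/
theorem isCIOver_of_regular {S : Type u} [CommRing S] [IsRegularLocalRing S] [Algebra k S] [Algebra.EssFiniteType k S] :
    Synt.IsCIOver k S :=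
  ⟨S, inferInstance, inferInstance, inferInstance, inferInstance, [], by simp,
    (isRegular_iff_weakly [] (by rw [Ideal.ofList_nil]; exact bot_ne_top)).mpr (IsWeaklyRegular.nil S S),
    ⟨((Ideal.quotientEquivAlgOfEq k (show Ideal.ofList ([] : List S) = ⊥ from Ideal.ofList_nil)).trans
      (AlgEquiv.quotientBot k S)).symm⟩⟩

theorem isLCIOver_of_smooth (S : Type u) [CommRing S] [Algebra k S] [Algebra.Smooth k S] : Synt.IsLCIOver k S := by
  haveI := RegLocus.isRegularRing_of_smooth k S
  refine isLCIOver_iff.mpr fun p => ?_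
  haveI : IsRegularLocalRing (Localization.AtPrime p.asIdeal) := IsRegularRing.isRegularLocalRing_localization _
  haveI : Algebra.EssFiniteType S (Localization.AtPrime p.asIdeal) :=
    Algebra.EssFiniteType.of_isLocalization _ p.asIdeal.primeCompl
  haveI : Algebra.EssFiniteType k (Localization.AtPrime p.asIdeal) := Algebra.EssFiniteType.comp k S _
  exact isCIOver_of_regular

/-- Finitely many elements of a field extension lie in a global complete intersection subalgebra. -/
theorem exists_subalgebra_isGlobalCI (K : Type u) [Field K] [Algebra k K] (E : Finset K) :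
    ∃ A : Subalgebra k K, (↑E : Set K) ⊆ (A : Set K) ∧ Synt.IsGlobalCI k A := by
  let A₀ := Algebra.adjoin k (E : Set K)
  haveI : Algebra.FiniteType k A₀ := (Subalgebra.fg_iff_finiteType A₀).mp ⟨E, rfl⟩
  haveI : IsNoetherianRing A₀ := Algebra.FiniteType.isNoetherianRing k A₀
  let q : Ideal A₀ := ⊥
  haveI : q.IsPrime := Ideal.isPrime_bot
  haveI : IsLocalization q.primeCompl (FractionRing A₀) := by
    rw [show q.primeCompl = nonZeroDivisors A₀ from Submonoid.ext fun a =>
      ⟨fun ha => mem_nonZeroDivisors_of_ne_zero ha, fun ha h0 => nonZeroDivisors.ne_zero ha h0⟩]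
    infer_instance
  haveI : IsRegularLocalRing (Localization.AtPrime q) := IsRegularLocalRing.of_ringEquiv
    (IsLocalization.algEquiv q.primeCompl (FractionRing A₀) (Localization.AtPrime q)).toRingEquiv
  haveI : Algebra.EssFiniteType A₀ (Localization.AtPrime q) := Algebra.EssFiniteType.of_isLocalization _ q.primeCompl
  haveI : Algebra.EssFiniteType k (Localization.AtPrime q) := Algebra.EssFiniteType.comp k A₀ _
  obtain ⟨g, hg, hG⟩ := exists_away_isGlobalCI (k := k) q isCIOver_of_regular
  have hg0 : g ≠ 0 := hg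
  have hu : IsUnit (A₀.val g) := isUnit_iff_ne_zero.mpr fun h => hg0 (Subtype.ext h)
  let ι₀ : Localization.Away g →+* K := IsLocalization.Away.lift (g := A₀.val.toRingHom) g hu
  let ι : Localization.Away g →ₐ[k] K :=
    { ι₀ with
      commutes' := fun x => by
        show ι₀ (algebraMap k (Localization.Away g) x) = algebraMap k K x
        rw [IsScalarTower.algebraMap_apply k A₀ (Localization.Away g), IsLocalization.Away.lift_eq]
        rfl }
  have hinj : Function.Injective ι := by
    rw [injective_iff_map_eq_zero]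
    intro z hz
    obtain ⟨m, a, ha⟩ := IsLocalization.Away.surj g z
    have h1 : ι₀ (algebraMap A₀ (Localization.Away g) a) = 0 := by
      rw [← ha, map_mul, show ι₀ z = 0 from hz, zero_mul]
    rw [IsLocalization.Away.lift_eq] at h1
    have ha0 : a = 0 := Subtype.ext h1
    rw [ha0, map_zero] at ha
    exact (IsUnit.mul_left_eq_zero ((IsLocalization.Away.algebraMap_isUnit g).pow m)).mp ha
  refine ⟨ι.range, fun e he => ?_, isGlobalCI_of_algEquiv (AlgEquiv.ofInjective ι hinj) hG⟩
  exact ⟨algebraMap A₀ _ ⟨e, Algebra.subset_adjoin he⟩, IsLocalization.Away.lift_eq g hu _⟩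

theorem isCIOver_iff_forall (S : Type u) [CommRing S] [IsLocalRing S] [Algebra k S] [Algebra.EssFiniteType k S] :
    Synt.IsCIOver k S ↔ ∀ (R : Type u) [CommRing R] [IsRegularLocalRing R] [Algebra k R], Algebra.EssFiniteType k R →
      ∀ π : R →ₐ[k] S, Function.Surjective π →
        ∃ rs : List R, IsRegular R rs ∧ RingHom.ker π.toRingHom = Ideal.ofList rs := by
  refine ⟨fun h R _ _ _ hR π hπ => haveI := hR; (numCI_iff_regular π.toRingHom hπ).mp ((isCIOver_iff_numCI π hπ).mp h), fun h => ?_⟩
  obtain ⟨n, g, hg⟩ := exists_generates k S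
  let φ : MvPolynomial (Fin n) k →ₐ[k] S := aeval g
  let T := Localization.AtPrime (presPrime φ)
  haveI : IsRegularLocalRing T := IsRegularRing.isRegularLocalRing_localization _
  haveI : Algebra.EssFiniteType (MvPolynomial (Fin n) k) T :=
    Algebra.EssFiniteType.of_isLocalization _ (presPrime φ).primeCompl
  haveI : Algebra.EssFiniteType k T := Algebra.EssFiniteType.comp k (MvPolynomial (Fin n) k) _
  let ψ : T →ₐ[k] S :=
    { presMap φ with
      commutes' := fun x => by
        show presMap φ (algebraMap k T x) = algebraMap k S x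
        rw [IsScalarTower.algebraMap_apply k (MvPolynomial (Fin n) k) T, presMap_algebraMap]
        exact φ.commutes x }
  have hψ : Function.Surjective ψ := presMap_surjective hg
  exact (isCIOver_iff_numCI ψ hψ).mpr ((numCI_iff_regular ψ.toRingHom hψ).mpr (h T inferInstance ψ hψ))

theorem isCIOver_iff_exists_numCI (S : Type u) [CommRing S] [IsLocalRing S] [Algebra k S] :
    Synt.IsCIOver k S ↔
      ∃ (R : Type u) (_ : CommRing R) (_ : IsRegularLocalRing R) (_ : Algebra k R),
        Algebra.EssFiniteType k R ∧ ∃ π : R →ₐ[k] S, Function.Surjective π ∧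
          ∃ rs : List R, RingHom.ker π.toRingHom = Ideal.ofList rs ∧
            ringKrullDim R = ringKrullDim S + (rs.length : WithBot ℕ∞) := by
  constructor
  · rintro ⟨R, i1, i2, i3, hR, rs, hm, hreg, ⟨e⟩⟩
    haveI := hR
    let π : R →ₐ[k] S := e.symm.toAlgHom.comp (Ideal.Quotient.mkₐ k _)
    have hπ : Function.Surjective π := e.symm.surjective.comp Ideal.Quotient.mk_surjective
    exact ⟨R, i1, i2, i3, hR, π, hπ, (numCI_iff_regular π.toRingHom hπ).mpr ⟨rs, hreg, by
      ext a; simp [π, Ideal.Quotient.eq_zero_iff_mem]⟩⟩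
  · rintro ⟨R, i1, i2, i3, hR, π, hπ, h⟩
    haveI := hR
    exact (isCIOver_iff_numCI π hπ).mpr h

theorem exists_gci_localization (S : Type u) [CommRing S] [IsLocalRing S] [Algebra k S] [Algebra.EssFiniteType k S]
    (h : Synt.IsCIOver k S) :
    ∃ (A : Type u) (_ : CommRing A) (_ : Algebra k A) (a : Ideal A) (_ : a.IsPrime),
      Algebra.FiniteType k A ∧ Synt.IsGlobalCI k A ∧ Synt.IsLCIOver k A ∧ Nonempty (S ≃ₐ[k] Localization.AtPrime a) := by
  obtain ⟨n, g, hg⟩ := exists_generates k S
  let φ : MvPolynomial (Fin n) k →ₐ[k] S := aeval g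
  let A₀ := φ.range
  haveI : Algebra.FiniteType k A₀ := Algebra.FiniteType.of_surjective φ.rangeRestrict φ.rangeRestrict_surjective
  let p : Ideal A₀ := (maximalIdeal S).comap A₀.val.toRingHom
  haveI : IsLocalization p.primeCompl S :=
    { map_units := fun y => by
        by_contra hy
        exact y.2 hy
      surj := fun z => by
        obtain ⟨a, b, hb, hab⟩ := hg z
        exact ⟨⟨⟨φ a, a, rfl⟩, ⟨⟨φ b, b, rfl⟩, fun hm => hm hb⟩⟩, hab⟩
      exists_of_eq := fun {x y} hxy => ⟨1, by rw [Subtype.ext hxy]⟩ }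
  let e : Localization.AtPrime p ≃ₐ[k] S := (IsLocalization.algEquiv p.primeCompl (Localization.AtPrime p) S).restrictScalars k
  obtain ⟨g₀, hg₀, hG⟩ := exists_away_isGlobalCI p (isCIOver_of_algEquiv e.symm h)
  let B := Localization.Away g₀
  haveI : Algebra.FiniteType k B :=
    Algebra.FiniteType.trans (S := A₀) inferInstance (IsLocalization.finiteType_of_monoid_fg (Submonoid.powers g₀) _)
  have hd : Disjoint ((Submonoid.powers g₀ : Submonoid A₀) : Set A₀) (p : Set A₀) :=
    (Ideal.disjoint_powers_iff_notMem g₀ (Ideal.IsPrime.isRadical inferInstance)).mpr hg₀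
  haveI := IsLocalization.isPrime_of_isPrime_disjoint (Submonoid.powers g₀) B p inferInstance hd
  let Q := p.map (algebraMap A₀ B)
  have hQ : Q.comap (algebraMap A₀ B) = p :=
    IsLocalization.under_map_of_isPrime_disjoint (Submonoid.powers g₀) B inferInstance hd
  haveI := IsLocalization.isLocalization_isLocalization_atPrime_isLocalization (Submonoid.powers g₀) (Localization.AtPrime Q) Q
  haveI : IsLocalization p.primeCompl (Localization.AtPrime Q) := by
    rw [show p.primeCompl = (Q.comap (algebraMap A₀ B)).primeCompl from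
      Submonoid.ext fun a => (not_congr (SetLike.ext_iff.mp hQ a)).symm]
    infer_instance
  exact ⟨B, inferInstance, inferInstance, Q, inferInstance, inferInstance, hG,
    isLCIOver_iff.mpr fun P => isCIOver_of_isGlobalCI hG P.asIdeal,
    ⟨e.symm.trans ((IsLocalization.algEquiv p.primeCompl (Localization.AtPrime p) (Localization.AtPrime Q)).restrictScalars k)⟩⟩

theorem dim_of_local {R : Type u} [CommRing R] (P : Ideal R) [P.IsPrime] :
    ringKrullDim (Localization.AtPrime P) = (P.height : WithBot ℕ∞) :=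
  IsLocalization.AtPrime.ringKrullDim_eq_height P _

theorem exists_pres_quot {n : ℕ} (I : Ideal (MvPolynomial (Fin n) k)) (q : Ideal (MvPolynomial (Fin n) k ⧸ I)) [q.IsPrime] :
    ∃ ψ : Localization.AtPrime (q.comap (Ideal.Quotient.mk I)) →+* Localization.AtPrime q, Function.Surjective ψ ∧
      RingHom.ker ψ = I.map (algebraMap _ (Localization.AtPrime (q.comap (Ideal.Quotient.mk I)))) := by
  obtain ⟨ψ, hψ, hk⟩ := exists_local_pres (Ideal.Quotient.mkₐ k I) Ideal.Quotient.mk_surjective q
  exact ⟨ψ.toRingHom, hψ, hk.trans (congrArg _ Ideal.mk_ker)⟩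

theorem isRegular_of_generators {n : ℕ} (I : Ideal (MvPolynomial (Fin n) k)) (q : Ideal (MvPolynomial (Fin n) k ⧸ I))
    [q.IsPrime] (c : ℕ) (hc : (c : ℕ∞) + q.height = (q.comap (Ideal.Quotient.mk I)).height)
    (rs : List (Localization.AtPrime (q.comap (Ideal.Quotient.mk I)))) (hlen : rs.length = c)
    (hrs : Ideal.ofList rs = I.map (algebraMap _ (Localization.AtPrime (q.comap (Ideal.Quotient.mk I))))) :
    IsRegular (Localization.AtPrime (q.comap (Ideal.Quotient.mk I))) rs := by
  haveI : IsRegularLocalRing (Localization.AtPrime (q.comap (Ideal.Quotient.mk I))) :=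
    IsRegularRing.isRegularLocalRing_localization _
  obtain ⟨ψ, hψ, hkψ⟩ := exists_pres_quot I q
  have hker : RingHom.ker ψ = Ideal.ofList rs := hkψ.trans hrs.symm
  have hne : Ideal.ofList rs ≠ ⊤ := hker ▸ RingHom.ker_ne_top ψ
  refine (isRegular_iff_weakly rs hne).mpr (CotT.isWeaklyRegular_of_dim rs hne ?_)
  rw [hlen]
  have hq0 : ringKrullDim (Localization.AtPrime (q.comap (Ideal.Quotient.mk I)) ⧸ Ideal.ofList rs) =
      ringKrullDim (Localization.AtPrime q) := by
    rw [← hker]; exact ringKrullDim_eq_of_ringEquiv (RingHom.quotientKerEquivOfSurjective hψ)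
  rw [hq0]
  rw [dim_of_local, dim_of_local, show (c : WithBot ℕ∞) = ((c : ℕ∞) : WithBot ℕ∞) from rfl, ← WithBot.coe_add]
  exact congrArg _ hc

theorem gci_nhd_iff {n : ℕ} (I : Ideal (MvPolynomial (Fin n) k)) (q : Ideal (MvPolynomial (Fin n) k ⧸ I)) [q.IsPrime] :
    (∃ g : MvPolynomial (Fin n) k ⧸ I, g ∉ q ∧ Synt.IsGlobalCI k (Localization.Away g)) ↔
      ∃ rs : List (Localization.AtPrime (q.comap (Ideal.Quotient.mk I))),
        IsRegular (Localization.AtPrime (q.comap (Ideal.Quotient.mk I))) rs ∧
        Ideal.ofList rs = I.map (algebraMap _ (Localization.AtPrime (q.comap (Ideal.Quotient.mk I)))) := by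
  have hiff := isCIOver_atPrime_iff (Ideal.Quotient.mkₐ k I) Ideal.Quotient.mk_surjective q
  have hk : RingHom.ker (Ideal.Quotient.mkₐ k I).toRingHom = I := Ideal.mk_ker
  constructor
  · rintro ⟨g, hg, hG⟩
    obtain ⟨rs, hreg, hrs⟩ := hiff.mp (isCIOver_of_away g q hg fun Q _ => isCIOver_of_isGlobalCI hG Q)
    rw [hk] at hrs
    exact ⟨rs, hreg, hrs.symm⟩
  · rintro ⟨rs, hreg, hrs⟩
    exact exists_away_isGlobalCI q (hiff.mpr ⟨rs, hreg, by rw [hk]; exact hrs.symm⟩)

theorem length_eq {n : ℕ} (I : Ideal (MvPolynomial (Fin n) k)) (q : Ideal (MvPolynomial (Fin n) k ⧸ I))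
    [q.IsPrime] (c : ℕ) (hc : (c : ℕ∞) + q.height = (q.comap (Ideal.Quotient.mk I)).height)
    (rs : List (Localization.AtPrime (q.comap (Ideal.Quotient.mk I))))
    (hreg : IsRegular (Localization.AtPrime (q.comap (Ideal.Quotient.mk I))) rs)
    (hrs : Ideal.ofList rs = I.map (algebraMap _ (Localization.AtPrime (q.comap (Ideal.Quotient.mk I))))) :
    ∃ s : Finset (Localization.AtPrime (q.comap (Ideal.Quotient.mk I))), s.card = c ∧
      Ideal.span (s : Set _) = I.map (algebraMap _ (Localization.AtPrime (q.comap (Ideal.Quotient.mk I)))) := by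
  classical
  haveI : IsRegularLocalRing (Localization.AtPrime (q.comap (Ideal.Quotient.mk I))) :=
    IsRegularRing.isRegularLocalRing_localization _
  obtain ⟨ψ, hψ, hkψ⟩ := exists_pres_quot I q
  have hker : RingHom.ker ψ = Ideal.ofList rs := hkψ.trans hrs.symm
  have hne : Ideal.ofList rs ≠ ⊤ := hker ▸ RingHom.ker_ne_top ψ
  have hspan : Ideal.span (rs.toFinset : Set _) = Ideal.ofList rs := congrArg Ideal.span (by ext; simp)
  have hq0 : ringKrullDim (Localization.AtPrime (q.comap (Ideal.Quotient.mk I)) ⧸ Ideal.ofList rs) =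
      ringKrullDim (Localization.AtPrime q) := by
    rw [← hker]; exact ringKrullDim_eq_of_ringEquiv (RingHom.quotientKerEquivOfSurjective hψ)
  refine ⟨rs.toFinset, le_antisymm ?_ ?_, hspan.trans hrs⟩
  · refine (List.toFinset_card_le rs).trans ?_
    have h1 := CotT.dim_of_isWeaklyRegular rs hne hreg.toIsWeaklyRegular
    rw [hq0, dim_of_local, dim_of_local] at h1
    obtain ⟨a, ha⟩ := ENat.ne_top_iff_exists.mp (Ideal.height_ne_top (I := q) (Ideal.IsPrime.ne_top inferInstance))
    change (rs.length : WithBot ℕ∞) + (q.height : WithBot ℕ∞) = ((q.comap (Ideal.Quotient.mk I)).height : WithBot ℕ∞) at h1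
    rw [← hc, ← ha, WithBot.coe_add] at h1
    have : rs.length + a = c + a := by exact_mod_cast h1
    omega
  · have h1 := ringKrullDim_le_ringKrullDim_quotient_add_card (R := Localization.AtPrime (q.comap (Ideal.Quotient.mk I)))
      rs.toFinset (fun x hx => by
        rw [IsLocalRing.ringJacobson_eq_maximalIdeal]
        exact le_maximalIdeal hne (Ideal.subset_span (List.mem_toFinset.mp hx)))
    rw [hspan, hq0, dim_of_local, dim_of_local] at h1
    obtain ⟨a, ha⟩ := ENat.ne_top_iff_exists.mp (Ideal.height_ne_top (I := q) (Ideal.IsPrime.ne_top inferInstance))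
    change ((q.comap (Ideal.Quotient.mk I)).height : WithBot ℕ∞) ≤ (q.height : WithBot ℕ∞) + _ at h1
    rw [← hc, ← ha, WithBot.coe_add] at h1
    have : c + a ≤ a + rs.toFinset.card := by exact_mod_cast h1
    omega

end Groth.Agent.SyntLib
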