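import Groth.Agent.SyntLib.NumCI
import Groth.Agent.SyntLib.FieldMore
import Groth.Agent.KoszulLib.H1
import Groth.Agent.FlatDepth.Quot
import Groth.Agent.AdicBasics.Dimension
import Groth.Prelude.Def_Pi1

/-!
# Absolute complete intersections
-/

set_option autoImplicit false
set_option linter.style.haveILetI false
universe u

open IsLocalRing RingTheory.Sequence

namespace Groth.Agent.SyntLib

theorem ofList_ofFn {R : Type u} [CommRing R] {n : ℕ} (f : Fin n → R) :
    Ideal.ofList (List.ofFn f) = Ideal.span (Set.range f) := by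
  rw [Ideal.ofList]
  congr 1
  ext y
  simp [List.mem_ofFn]

theorem exists_trivRel_lift {B A : Type u} [CommRing B] [CommRing A] (π : B →+* A) (hπ : Function.Surjective π)
    {n : ℕ} {f : Fin n → B} {a : Fin n → A} (ha : a ∈ KoszulLib.trivRel (π ∘ f)) :
    ∃ b ∈ KoszulLib.trivRel f, π ∘ b = a := by
  induction ha using Submodule.span_induction with
  | mem v hv =>
    obtain ⟨i, j, rfl⟩ := hv
    refine ⟨_, KoszulLib.trivRel_gen f i j, ?_⟩
    funext k
    simp only [Function.comp_apply, Pi.sub_apply, Pi.single_apply, map_sub]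
    split_ifs <;> simp
  | zero => exact ⟨0, zero_mem _, by funext k; simp⟩
  | add x y _ _ hx hy =>
    obtain ⟨b, hb, rfl⟩ := hx
    obtain ⟨c, hc, rfl⟩ := hy
    exact ⟨b + c, add_mem hb hc, by funext k; simp⟩
  | smul r x _ hx =>
    obtain ⟨b, hb, rfl⟩ := hx
    obtain ⟨s, rfl⟩ := hπ r
    exact ⟨s • b, Submodule.smul_mem _ s hb, by funext k; simp⟩

theorem map_maximalIdeal_of_surjective {R A : Type u} [CommRing R] [IsLocalRing R] [CommRing A] [IsLocalRing A]
    (π : R →+* A) (hπ : Function.Surjective π) : (maximalIdeal R).map π = maximalIdeal A := by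
  haveI := IsLocalHom.of_surjective π hπ
  refine le_antisymm (Ideal.map_le_iff_le_comap.mpr fun x hx => ?_) fun y hy => ?_
  · simp only [Ideal.mem_comap, mem_maximalIdeal, mem_nonunits_iff] at hx ⊢
    exact fun h => hx (IsUnit.of_map π x h)
  · obtain ⟨x, rfl⟩ := hπ y
    refine Ideal.mem_map_of_mem _ ?_
    simp only [mem_maximalIdeal, mem_nonunits_iff] at hy ⊢
    exact fun h => hy (h.map π)

/-- A minimal presentation. -/
theorem exists_minimal : ∀ (N : ℕ) {R A : Type u} [CommRing R] [IsRegularLocalRing R] [CommRing A] [Nontrivial A]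
    (π : R →+* A), (maximalIdeal R).spanFinrank ≤ N → Function.Surjective π →
    ∃ (R' : Type u) (_ : CommRing R') (_ : IsRegularLocalRing R') (π' : R' →+* A),
      Function.Surjective π' ∧ RingHom.ker π' ≤ maximalIdeal R' ^ 2 ∧ (NumCI π ↔ NumCI π') := by
  intro N
  induction N with
  | zero =>
    intro R A _ _ _ _ π hN hπ
    have hm : maximalIdeal R = ⊥ :=
      (Submodule.spanFinrank_eq_zero_iff_eq_bot (IsNoetherian.noetherian _)).1 (Nat.le_zero.1 hN)
    exact ⟨R, inferInstance, inferInstance, π, hπ,
      ((le_maximalIdeal (RingHom.ker_ne_top π)).trans hm.le).trans bot_le, Iff.rfl⟩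
  | succ N ih =>
    intro R A _ _ _ _ π hN hπ
    by_cases hle : RingHom.ker π ≤ maximalIdeal R ^ 2
    · exact ⟨R, inferInstance, inferInstance, π, hπ, hle, Iff.rfl⟩
    obtain ⟨x, hx, hx2⟩ := SetLike.not_le_iff_exists.mp hle
    have hxm : x ∈ maximalIdeal R := le_maximalIdeal (RingHom.ker_ne_top π) hx
    obtain ⟨hT', -⟩ := SerreReg.isRegularLocalRing_quot hxm hx2
    have := hT'
    have hdrop := SerreReg.spanFinrank_quot_succ_le hxm hx2
    let π₁ : R ⧸ Ideal.span {x} →+* A := Ideal.Quotient.lift _ π fun y hy =>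
      RingHom.mem_ker.mp ((Ideal.span_singleton_le_iff_mem _).mpr hx hy)
    have hπ₁ : Function.Surjective π₁ := Ideal.Quotient.lift_surjective_of_surjective _ _ hπ
    obtain ⟨R', i1, i2, π', h1, h2, h3⟩ := ih π₁ (by omega) hπ₁
    refine ⟨R', i1, i2, π', h1, h2, ?_⟩
    rw [← h3, numCI_comp_iff _ (Ideal.Quotient.mk (Ideal.span {x})) π₁ le_rfl Ideal.Quotient.mk_surjective hπ₁]
    rfl

/-- Generators of the maximal ideal lift along minimal presentations. -/
theorem lift_generators {R A : Type u} [CommRing R] [IsRegularLocalRing R] [CommRing A] [IsLocalRing A]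
    (π : R →+* A) (hπ : Function.Surjective π) (hker : RingHom.ker π ≤ maximalIdeal R ^ 2) {e : ℕ} (x : Fin e → A)
    (hx : Ideal.span (Set.range x) = maximalIdeal A) (he : e = (maximalIdeal A).spanFinrank) (x' : Fin e → R)
    (hx' : ∀ i, π (x' i) = x i) :
    Ideal.span (Set.range x') = maximalIdeal R ∧ ringKrullDim R = (e : WithBot ℕ∞) ∧
      IsWeaklyRegular R (List.ofFn x') := by
  haveI := IsLocalHom.of_surjective π hπ
  have hm := map_maximalIdeal_of_surjective π hπ
  have hmem : ∀ i, x' i ∈ maximalIdeal R := fun i => by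
    have h1 : π (x' i) ∈ maximalIdeal A := by rw [hx' i, ← hx]; exact Ideal.subset_span (Set.mem_range_self i)
    simp only [mem_maximalIdeal, mem_nonunits_iff] at h1 ⊢
    exact fun h => h1 (h.map π)
  have hspan : Ideal.span (Set.range x') = maximalIdeal R := by
    refine le_antisymm (Ideal.span_le.mpr (by rintro _ ⟨i, rfl⟩; exact hmem i)) ?_
    refine Submodule.le_of_le_smul_of_le_jacobson_bot (IsNoetherian.noetherian _) (maximalIdeal_le_jacobson _) fun y hy => ?_
    have h1 : π y ∈ (Ideal.span (Set.range x')).map π := by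
      rw [Ideal.map_span, ← Set.range_comp, show π ∘ x' = x from funext hx', hx, ← hm]
      exact Ideal.mem_map_of_mem _ hy
    rw [← Ideal.mem_comap, Ideal.comap_map_of_surjective π hπ, ← RingHom.ker_eq_comap_bot] at h1
    obtain ⟨a, ha, b, hb, rfl⟩ := Submodule.mem_sup.mp h1
    refine Submodule.add_mem_sup ha ?_
    have hb2 := hker hb
    rwa [pow_two] at hb2
  have hfr : (maximalIdeal R).spanFinrank = e := by
    refine le_antisymm ?_ ?_
    · rw [← hspan]
      exact (Submodule.spanFinrank_span_le_ncard_of_finite (Set.finite_range x')).trans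
        ((Finite.card_range_le x').trans (le_of_eq (Nat.card_fin e)))
    · rw [he, ← hm]
      exact Ideal.spanFinrank_map_le_of_fg π (IsNoetherian.noetherian _)
  have hdim : ringKrullDim R = (e : WithBot ℕ∞) := by
    rw [← (isRegularLocalRing_iff R).mp inferInstance, hfr]
  refine ⟨hspan, hdim, CotT.isWeaklyRegular_of_dim _ (by rw [ofList_ofFn, hspan]; exact (maximalIdeal.isMaximal R).ne_top) ?_⟩
  rw [ofList_ofFn, hspan, hdim, List.length_ofFn, show ringKrullDim (R ⧸ maximalIdeal R) = 0 from
    ringKrullDim_eq_zero_of_isField ((Ideal.Quotient.maximal_ideal_iff_isField_quotient _).mp inferInstance)]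
  simp

/-- Comparison of two minimal presentations. -/
theorem numCI_of_minimal {R B A : Type u} [CommRing R] [IsRegularLocalRing R] [CommRing B] [IsRegularLocalRing B]
    [CommRing A] [IsLocalRing A] (π : R →+* A) (ρ : B →+* A) (hπ : Function.Surjective π) (hρ : Function.Surjective ρ)
    (hπm : RingHom.ker π ≤ maximalIdeal R ^ 2) (hρm : RingHom.ker ρ ≤ maximalIdeal B ^ 2) (h : NumCI π) :
    NumCI ρ := by
  classical
  obtain ⟨rs, hker, hdim⟩ := h
  haveI : IsNoetherianRing A := isNoetherianRing_of_surjective R A π hπ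
  obtain ⟨s, hs, hspan⟩ := Submodule.FG.exists_span_finset_card_eq_spanFinrank
    (show (maximalIdeal A).FG from IsNoetherian.noetherian _)
  let e := s.card
  let x : Fin e → A := fun i => (s.equivFin.symm i : A)
  have hx : Ideal.span (Set.range x) = maximalIdeal A := by
    rw [← hspan]
    congr 1
    ext y
    exact ⟨fun ⟨i, hi⟩ => hi ▸ (s.equivFin.symm i).2, fun hy => ⟨s.equivFin ⟨y, hy⟩, by simp [x]⟩⟩
  choose xR hxR using fun i => hπ (x i)
  choose xB hxB using fun i => hρ (x i)
  obtain ⟨hmR, hdR, hwR⟩ := lift_generators π hπ hπm x hx hs xR hxR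
  obtain ⟨hmB, hdB, -⟩ := lift_generators ρ hρ hρm x hx hs xB hxB
  have hH : CAlgX.IsH1Regular xR := KoszulLib.isH1Regular_of_acyclic (KoszulLib.acyclic_of_isWeaklyRegular' hwR)
  have hmemI : ∀ i : Fin rs.length, rs.get i ∈ Ideal.span (Set.range xR) := fun i => by
    rw [hmR]
    exact le_maximalIdeal (RingHom.ker_ne_top π) (hker ▸ Ideal.subset_span (List.get_mem rs i))
  choose aR haR using fun i => Ideal.mem_span_range_iff_exists_fun.mp (hmemI i)
  choose bB hbB using fun i j => hρ (π (aR i j))
  let sB : Fin rs.length → B := fun i => ∑ j, bB i j * xB j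
  have hsJ : ∀ i, sB i ∈ RingHom.ker ρ := fun i => by
    rw [RingHom.mem_ker]
    simp only [sB, map_sum, map_mul, hbB, hxB, ← hxR]
    rw [show (∑ j, π (aR i j) * π (xR j)) = π (∑ j, aR i j * xR j) by simp, haR]
    exact RingHom.mem_ker.mp (hker ▸ Ideal.subset_span (List.get_mem rs i))
  refine ⟨List.ofFn sB, ?_, by rw [List.length_ofFn, hdB, ← hdR, hdim]⟩
  rw [ofList_ofFn]
  refine le_antisymm ?_ (Ideal.span_le.mpr (by rintro _ ⟨i, rfl⟩; exact hsJ i))
  refine Submodule.le_of_le_smul_of_le_jacobson_bot (IsNoetherian.noetherian _) (maximalIdeal_le_jacobson _) fun y hy => ?_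
  have hym : y ∈ Ideal.span (Set.range xB) := by
    rw [hmB]; exact le_maximalIdeal (RingHom.ker_ne_top ρ) hy
  obtain ⟨b, hb⟩ := Ideal.mem_span_range_iff_exists_fun.mp hym
  choose a ha using fun j => hπ (ρ (b j))
  have hw : (∑ j, a j * xR j) ∈ Ideal.span (Set.range rs.get) := by
    have h1 : (∑ j, a j * xR j) ∈ RingHom.ker π := by
      rw [RingHom.mem_ker]
      simp only [map_sum, map_mul, ha, hxR, ← hxB]
      rw [show (∑ j, ρ (b j) * ρ (xB j)) = ρ (∑ j, b j * xB j) by simp, hb]
      exact RingHom.mem_ker.mp hy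
    rw [hker, Ideal.ofList] at h1
    rw [show Set.range rs.get = {r | r ∈ rs} from Set.range_list_get rs]
    exact h1
  obtain ⟨c, hc⟩ := Ideal.mem_span_range_iff_exists_fun.mp hw
  have hrel : (fun j => a j - ∑ i, c i * aR i j) ∈ KoszulLib.trivRel xR := by
    refine KoszulLib.h1_iff.mp hH _ ?_
    simp only [sub_mul, Finset.sum_sub_distrib, Finset.sum_mul, mul_assoc]
    rw [Finset.sum_comm]
    simp only [← Finset.mul_sum, haR, hc, sub_self]
  have hrel' := KoszulLib.trivRel_map π hrel
  rw [show π ∘ xR = ρ ∘ xB from funext fun j => (hxR j).trans (hxB j).symm] at hrel'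
  obtain ⟨t, ht, hte⟩ := exists_trivRel_lift ρ hρ hrel'
  choose c' hc' using fun i => hρ (π (c i))
  let j₀ : Fin e → B := fun j => b j - (∑ i, c' i * bB i j) - t j
  have hj₀ : ∀ j, j₀ j ∈ RingHom.ker ρ := fun j => by
    rw [RingHom.mem_ker]
    simp only [j₀, map_sub, map_sum, map_mul, hc', hbB, show ρ (t j) = π (a j - ∑ i, c i * aR i j) from congrFun hte j,
      ha]
    ring
  have ht0 : ∑ j, t j * xB j = 0 := by
    revert ht
    clear hte hj₀ j₀
    generalize t = t'
    intro ht
    induction ht using Submodule.span_induction with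
    | mem v hv => obtain ⟨p, q, rfl⟩ := hv; simp [Pi.single_apply, sub_mul, Finset.sum_sub_distrib]; ring
    | zero => simp
    | add u v _ _ hu hv =>
      simp only [Pi.add_apply, add_mul, Finset.sum_add_distrib]
      rw [hu, hv, add_zero]
    | smul r v _ hv =>
      simp only [Pi.smul_apply, smul_eq_mul, mul_assoc, ← Finset.mul_sum]
      rw [hv, mul_zero]
  have hy' : y = (∑ i, c' i * sB i) + ∑ j, xB j * j₀ j := by
    have hz : ∑ j, xB j * j₀ j = ∑ j, b j * xB j - ∑ i, c' i * sB i - ∑ j, t j * xB j := by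
      simp only [j₀, sB, Finset.mul_sum]
      rw [Finset.sum_comm (f := fun i j => c' i * (bB i j * xB j))]
      rw [← Finset.sum_sub_distrib, ← Finset.sum_sub_distrib]
      refine Finset.sum_congr rfl fun j _ => ?_
      simp only [mul_sub, Finset.mul_sum]
      congr 1
      congr 1
      · ring
      · exact Finset.sum_congr rfl fun i _ => by ring
      · ring
    rw [hz, hb, ht0]
    ring
  rw [hy']
  refine Submodule.add_mem_sup (Ideal.sum_mem _ fun i _ => Ideal.mul_mem_left _ _ (Ideal.subset_span (Set.mem_range_self i)))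
    (Submodule.sum_mem _ fun j _ => ?_)
  exact Submodule.smul_mem_smul (hmB ▸ Ideal.subset_span (Set.mem_range_self j)) (hj₀ j)

/-- The numerical criterion does not depend on the presentation. -/
theorem numCI_indep {R B A : Type u} [CommRing R] [IsRegularLocalRing R] [CommRing B] [IsRegularLocalRing B]
    [CommRing A] [IsLocalRing A] (π : R →+* A) (ρ : B →+* A) (hπ : Function.Surjective π) (hρ : Function.Surjective ρ) :
    NumCI π ↔ NumCI ρ := by
  obtain ⟨R', _, _, π', h1, h2, h3⟩ := exists_minimal _ π le_rfl hπ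
  obtain ⟨B', _, _, ρ', h4, h5, h6⟩ := exists_minimal _ ρ le_rfl hρ
  rw [h3, h6]
  exact ⟨numCI_of_minimal π' ρ' h1 h4 h2 h5, numCI_of_minimal ρ' π' h4 h1 h5 h2⟩

/-- Complete intersection local rings through any regular presentation. -/
theorem isCompleteIntersection_iff_numCI {R A : Type u} [CommRing R] [IsRegularLocalRing R] [CommRing A] [IsLocalRing A]
    (π : R →+* A) (hπ : Function.Surjective π) : Pi1.IsCompleteIntersection A ↔ NumCI π := by
  classical
  haveI : IsNoetherianRing A := isNoetherianRing_of_surjective R A π hπ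
  let R' := AdicCompletion (maximalIdeal R) R
  let A' := AdicCompletion (maximalIdeal A) A
  haveI : IsRegularLocalRing R' := (AdicBasics.isRegularLocalRing_completion_iff (A := R)).mp inferInstance
  obtain ⟨ψ, hψ, -, hψk⟩ := FlatDepth.exists_cpl_quotient π hπ
  have hdR : ringKrullDim R' = ringKrullDim R := AdicBasics.ringKrullDim_completion _
  have hdA : ringKrullDim A' = ringKrullDim A := AdicBasics.ringKrullDim_completion _
  haveI : Module.Flat R R' := inferInstance
  haveI : IsLocalHom (algebraMap R R') := inferInstance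
  haveI : Module.FaithfullyFlat R R' := Module.FaithfullyFlat.of_flat_of_isLocalHom
  constructor
  · rintro ⟨B, _, _, bs, hmem, hreg, ⟨e⟩⟩
    let ρ : B →+* A' := e.symm.toRingHom.comp (Ideal.Quotient.mk _)
    have hρ : Function.Surjective ρ := e.symm.surjective.comp Ideal.Quotient.mk_surjective
    have hρk : RingHom.ker ρ = Ideal.ofList bs := (RingHom.ker_comp_of_injective _ e.symm.injective).trans Ideal.mk_ker
    obtain ⟨rs, hker, hdim⟩ := (numCI_indep ρ ψ hρ hψ).mp ((numCI_iff_regular ρ hρ).mpr ⟨bs, hreg, hρk⟩)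
    -- choose generators among those of the kernel
    obtain ⟨G, hG⟩ := (show (RingHom.ker π).FG from IsNoetherian.noetherian _)
    obtain ⟨f, hfI, hfspan⟩ : ∃ f : Fin rs.length → R, (∀ i, f i ∈ RingHom.ker π) ∧
        (RingHom.ker π).map (algebraMap R R') ≤ Ideal.span (Set.range (algebraMap R R' ∘ f)) := by
      let J := (RingHom.ker π).map (algebraMap R R')
      have hJ : J = Ideal.ofList rs := hψk.symm.trans hker
      have hgen : ∀ i : Fin rs.length, ∃ f : R, f ∈ RingHom.ker π ∧
          rs.get i - algebraMap R R' f ∈ maximalIdeal R' • J := by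
        intro i
        have h1 : rs.get i ∈ Ideal.span (algebraMap R R' '' (G : Set R)) := by
          rw [← Ideal.map_span, show Ideal.span (G : Set R) = RingHom.ker π from hG, show (RingHom.ker π).map _ = J from rfl, hJ]
          exact Ideal.subset_span (List.get_mem rs i)
        have hsurj : ∀ c : R', ∃ c₀ : R, c - algebraMap R R' c₀ ∈ maximalIdeal R' := fun c => by
          obtain ⟨r, hr⟩ := (AdicCompletion.residueField_map_bijective (R := R)).2 (IsLocalRing.residue R' c)
          obtain ⟨c₀, rfl⟩ := IsLocalRing.residue_surjective r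
          refine ⟨c₀, (IsLocalRing.residue_eq_zero_iff _).mp ?_⟩
          rw [map_sub, ← hr]
          exact sub_self _
        revert h1
        generalize rs.get i = z₀
        intro h1
        induction h1 using Submodule.span_induction with
        | mem z hz => obtain ⟨g, hg, rfl⟩ := hz; exact ⟨g, hG ▸ Ideal.subset_span hg, by simp⟩
        | zero => exact ⟨0, zero_mem _, by simp⟩
        | add z z' _ _ h h' =>
          obtain ⟨f, hf, hff⟩ := h
          obtain ⟨f', hf', hff'⟩ := h'
          refine ⟨f + f', add_mem hf hf', ?_⟩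
          convert add_mem hff hff' using 1
          rw [map_add]; ring
        | smul c z hz h =>
          obtain ⟨f, hf, hff⟩ := h
          obtain ⟨c₀, hc₀⟩ := hsurj c
          refine ⟨c₀ * f, Ideal.mul_mem_left _ _ hf, ?_⟩
          have h2 : c • z - algebraMap R R' (c₀ * f) =
              c • (z - algebraMap R R' f) + (c - algebraMap R R' c₀) • algebraMap R R' f := by
            rw [map_mul, smul_eq_mul, smul_eq_mul, smul_eq_mul]; ring
          rw [h2]
          exact add_mem (Submodule.smul_mem _ c hff) (Submodule.smul_mem_smul hc₀ (Ideal.mem_map_of_mem _ hf))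
      choose f hfI hfd using hgen
      refine ⟨f, hfI, ?_⟩
      refine Submodule.le_of_le_smul_of_le_jacobson_bot (IsNoetherian.noetherian _) (maximalIdeal_le_jacobson _) ?_
      conv_lhs => rw [show (RingHom.ker π).map (algebraMap R R') = Ideal.ofList rs from hJ]
      refine Ideal.span_le.mpr fun z hz => ?_
      obtain ⟨i, rfl⟩ := List.get_of_mem hz
      rw [← sub_add_cancel (rs.get i) (algebraMap R R' (f i)), add_comm]
      exact Submodule.add_mem_sup (Ideal.subset_span ⟨i, rfl⟩) (hfd i)
    refine ⟨List.ofFn f, ?_, by rw [List.length_ofFn, ← hdR, ← hdA]; exact hdim⟩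
    rw [ofList_ofFn]
    refine le_antisymm ?_ (Ideal.span_le.mpr (by rintro _ ⟨i, rfl⟩; exact hfI i))
    rw [← Ideal.comap_map_eq_self_of_faithfullyFlat (B := R') (RingHom.ker π),
      ← Ideal.comap_map_eq_self_of_faithfullyFlat (B := R') (Ideal.span (Set.range f))]
    refine Ideal.comap_mono ?_
    rw [Ideal.map_span, ← Set.range_comp]
    exact hfspan
  · rintro ⟨rs, hker, hdim⟩
    have hker' : RingHom.ker ψ = Ideal.ofList (rs.map (algebraMap R R')) := by
      rw [hψk, hker, Ideal.map_ofList]
    obtain ⟨bs, hreg, hbs⟩ := (numCI_iff_regular ψ hψ).mp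
      ⟨_, hker', by rw [List.length_map, hdR, hdA]; exact hdim⟩
    refine ⟨R', inferInstance, inferInstance, bs, fun r hr => le_maximalIdeal (RingHom.ker_ne_top ψ)
      (hbs ▸ Ideal.subset_span hr), hreg, ⟨?_⟩⟩
    exact ((Ideal.quotEquivOfEq (show Ideal.span {r | r ∈ bs} = RingHom.ker ψ from hbs.symm)).trans
      (RingHom.quotientKerEquivOfSurjective hψ)).symm

/-- For algebras essentially of finite type over a field the two notions agree. -/
theorem isCIOver_iff_isCompleteIntersection {k S : Type u} [Field k] [CommRing S] [IsLocalRing S] [Algebra k S]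
    [Algebra.EssFiniteType k S] : Synt.IsCIOver k S ↔ Pi1.IsCompleteIntersection S := by
  obtain ⟨n, g, hg⟩ := exists_generates k S
  let φ : MvPolynomial (Fin n) k →ₐ[k] S := MvPolynomial.aeval g
  let T := Localization.AtPrime (presPrime φ)
  haveI : IsRegularLocalRing T := IsRegularRing.isRegularLocalRing_localization _
  haveI : Algebra.EssFiniteType (MvPolynomial (Fin n) k) T :=
    Algebra.EssFiniteType.of_isLocalization _ (presPrime φ).primeCompl
  haveI : Algebra.EssFiniteType k T := Algebra.EssFiniteType.comp k (MvPolynomial (Fin n) k) _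
  let ψ : T →ₐ[k] S :=
    { presMap φ with
      commutes' := fun x => by
        show presMap φ (algebraMap k T x) = algebraMap k S x
        rw [IsScalarTower.algebraMap_apply k (MvPolynomial (Fin n) k) T, presMap_algebraMap]
        exact φ.commutes x }
  have hψ : Function.Surjective ψ := presMap_surjective hg
  rw [isCIOver_iff_numCI ψ hψ, isCompleteIntersection_iff_numCI ψ.toRingHom hψ]

end Groth.Agent.SyntLib
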