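import Groth.Agent.SyntLib.Koszul
import Groth.Agent.SyntLib.AbsCI
import Groth.Prelude.Def_CInt

/-!
# Complete intersection morphisms are the syntomic ones
-/

set_option autoImplicit false
set_option linter.style.haveILetI false
universe u

open RingTheory.Sequence AlgebraicGeometry CategoryTheory Limits IsLocalRing
open scoped TensorProduct

namespace Groth.Agent.SyntLib

theorem numCI_equiv {R A A' : Type u} [CommRing R] [CommRing A] [CommRing A'] (π : R →+* A) (e : A ≃+* A')
    (h : NumCI π) : NumCI (e.toRingHom.comp π) := by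
  obtain ⟨rs, hker, hdim⟩ := h
  exact ⟨rs, (RingHom.ker_comp_of_injective π e.injective).trans hker, by rw [← ringKrullDim_eq_of_ringEquiv e]; exact hdim⟩

theorem exists_regular_cover (k S : Type u) [Field k] [CommRing S] [IsLocalRing S] [Algebra k S]
    [Algebra.EssFiniteType k S] :
    ∃ (R : Type u) (_ : CommRing R) (_ : IsRegularLocalRing R) (π : R →+* S), Function.Surjective π := by
  obtain ⟨n, g, hg⟩ := exists_generates k S
  let φ : MvPolynomial (Fin n) k →ₐ[k] S := MvPolynomial.aeval g
  haveI : IsRegularLocalRing (Localization.AtPrime (presPrime φ)) := IsRegularRing.isRegularLocalRing_localization _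
  exact ⟨_, inferInstance, inferInstance, presMap φ, presMap_surjective hg⟩

theorem isCompleteIntersection_ringEquiv (k : Type u) [Field k] {S S' : Type u} [CommRing S] [IsLocalRing S]
    [Algebra k S] [Algebra.EssFiniteType k S] [CommRing S'] [IsLocalRing S'] (e : S ≃+* S') :
    Pi1.IsCompleteIntersection S' ↔ Pi1.IsCompleteIntersection S := by
  obtain ⟨R, _, _, π, hπ⟩ := exists_regular_cover k S
  rw [isCompleteIntersection_iff_numCI (e.toRingHom.comp π) (e.surjective.comp hπ),
    isCompleteIntersection_iff_numCI π hπ]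
  refine ⟨fun h => ?_, numCI_equiv π e⟩
  have h1 := numCI_equiv _ e.symm h
  rwa [← RingHom.comp_assoc, RingEquiv.toRingHom_eq_coe, RingEquiv.toRingHom_eq_coe, RingEquiv.symm_comp,
    RingHom.id_comp] at h1

theorem isSyntomic_iff_forall_isCompleteIntersection (k T : Type u) [Field k] [CommRing T] [Algebra k T]
    [Algebra.FiniteType k T] :
    Synt.IsSyntomic k T ↔ ∀ q : PrimeSpectrum T, Pi1.IsCompleteIntersection (Localization.AtPrime q.asIdeal) := by
  have hess : ∀ (T' : Type u) [CommRing T'] [Algebra k T'] [Algebra.FiniteType k T'] (q : Ideal T') [q.IsPrime],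
      Algebra.EssFiniteType k (Localization.AtPrime q) := fun T' _ _ _ q _ => by
    haveI : Algebra.EssFiniteType T' (Localization.AtPrime q) := Algebra.EssFiniteType.of_isLocalization _ q.primeCompl
    exact Algebra.EssFiniteType.comp k T' _
  constructor
  · intro h q
    haveI := hess T q.asIdeal
    exact isCIOver_iff_isCompleteIntersection.mp (isCIOver_of_isLCIOver (isLCIOver_of_isSyntomic h) q.asIdeal)
  · intro h
    haveI : Algebra.FinitePresentation k T := Algebra.FinitePresentation.of_finiteType.mp inferInstance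
    refine ⟨inferInstance, inferInstance, fun p => ?_⟩
    haveI : Algebra.FiniteType p.asIdeal.ResidueField (p.asIdeal.Fiber T) :=
      inferInstanceAs (Algebra.FiniteType p.asIdeal.ResidueField (p.asIdeal.ResidueField ⊗[k] T))
    refine isLCIOver_iff.mpr fun Q => ?_
    haveI := hess T
    have hp : p.asIdeal = ⊥ := (Ideal.eq_bot_or_top p.asIdeal).resolve_right p.isPrime.ne_top
    haveI : p.asIdeal.IsMaximal := hp ▸ Ideal.bot_isMaximal
    let e₀ : k ≃ₐ[k] p.asIdeal.ResidueField := AlgEquiv.ofBijective (Algebra.ofId k _)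
      ⟨(algebraMap k p.asIdeal.ResidueField).injective, Ideal.algebraMap_residueField_surjective p.asIdeal⟩
    let e : T ≃ₐ[k] p.asIdeal.Fiber T :=
      (Algebra.TensorProduct.lid k T).symm.trans (Algebra.TensorProduct.congr e₀ AlgEquiv.refl)
    let q : PrimeSpectrum T := ⟨Q.asIdeal.comap e.toRingEquiv.toRingHom, Ideal.IsPrime.comap _⟩
    let el : Localization.AtPrime q.asIdeal ≃+* Localization.AtPrime Q.asIdeal :=
      IsLocalization.ringEquivOfRingEquiv _ _ e.toRingEquiv
        (show Submonoid.map e.toRingEquiv.toMonoidHom q.asIdeal.primeCompl = Q.asIdeal.primeCompl by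
          ext y
          exact ⟨fun ⟨x, hx, hxy⟩ hy => hx (by show e x ∈ Q.asIdeal; rw [show e x = y from hxy]; exact hy),
            fun hy => ⟨e.symm y, fun hmem => hy (by simpa [q] using hmem), e.apply_symm_apply y⟩⟩)
    haveI : Algebra.EssFiniteType (p.asIdeal.Fiber T) (Localization.AtPrime Q.asIdeal) :=
      Algebra.EssFiniteType.of_isLocalization _ Q.asIdeal.primeCompl
    haveI : Algebra.EssFiniteType p.asIdeal.ResidueField (Localization.AtPrime Q.asIdeal) :=
      Algebra.EssFiniteType.comp _ (p.asIdeal.Fiber T) _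
    exact isCIOver_iff_isCompleteIntersection.mpr ((isCompleteIntersection_ringEquiv k el).mpr (h q))

/-- Over a field a morphism is syntomic when its local rings are complete intersections. -/
theorem synMor_field_iff {K : CommRingCat.{u}} (hK : IsField K) {X : Scheme.{u}} (p : X ⟶ Spec K)
    [LocallyOfFiniteType p] : SynMor p ↔ ∀ x : X, Pi1.IsCompleteIntersection (X.presheaf.stalk x) := by
  letI : Field K := hK.toField
  have key : ∀ (R : CommRingCat.{u}) (φ : K ⟶ R), φ.hom.FiniteType →
      (Syn φ.hom ↔ ∀ w : PrimeSpectrum R, Pi1.IsCompleteIntersection (Localization.AtPrime w.asIdeal)) := by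
    intro R φ hφ
    letI : Algebra K R := φ.hom.toAlgebra
    haveI : Algebra.FiniteType K R := hφ
    exact isSyntomic_iff_forall_isCompleteIntersection K R
  have hst : ∀ (R : CommRingCat.{u}) (φ : K ⟶ R), φ.hom.FiniteType → ∀ (i : Spec R ⟶ X) [IsOpenImmersion i]
      (w : Spec R), Pi1.IsCompleteIntersection (X.presheaf.stalk (i w)) ↔
        Pi1.IsCompleteIntersection (Localization.AtPrime (w : PrimeSpectrum R).asIdeal) := by
    intro R φ hφ i _ w
    letI : Algebra K R := φ.hom.toAlgebra
    haveI : Algebra.FiniteType K R := hφ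
    let w' : PrimeSpectrum R := w
    haveI : Algebra.EssFiniteType R (Localization.AtPrime w'.asIdeal) :=
      Algebra.EssFiniteType.of_isLocalization _ w'.asIdeal.primeCompl
    haveI : Algebra.EssFiniteType K (Localization.AtPrime w'.asIdeal) := Algebra.EssFiniteType.comp K R _
    let e₁ : Localization.AtPrime w'.asIdeal ≃+* (Spec R).presheaf.stalk w :=
      (AlgebraicGeometry.StructureSheaf.stalkIso R w').toRingEquiv
    let e₂ : X.presheaf.stalk (i w) ≃+* (Spec R).presheaf.stalk w := (asIso (i.stalkMap w)).commRingCatIsoToRingEquiv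
    exact isCompleteIntersection_ringEquiv K (e₁.trans e₂.symm)
  have hchart : ∀ (R : CommRingCat.{u}) (i : Spec R ⟶ X) [IsOpenImmersion i],
      SynMor (i ≫ p) ↔ ∀ w, Pi1.IsCompleteIntersection (X.presheaf.stalk (i w)) := by
    intro R i _
    obtain ⟨φ, hφ⟩ : ∃ φ, Spec.map φ = i ≫ p := ⟨_, Spec.map_preimage _⟩
    have hf : φ.hom.FiniteType := (HasRingHomProperty.Spec_iff (P := @LocallyOfFiniteType)).mp (by rw [hφ]; infer_instance)
    rw [← hφ, HasRingHomProperty.Spec_iff (P := SynMor.{u}), key R φ hf]
    exact ⟨fun h w => (hst R φ hf i w).mpr (h _), fun h w => (hst R φ hf i w).mp (h w)⟩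
  rw [IsZariskiLocalAtSource.iff_of_openCover (P := SynMor.{u}) X.affineCover]
  constructor
  · intro h x
    obtain ⟨w, hw⟩ := X.affineCover.covers x
    rw [← hw]
    exact (@hchart _ (X.affineCover.f (X.affineCover.idx x)) (X.affineCover.map_prop _)).mp (h _) w
  · exact fun h i => (@hchart _ (X.affineCover.f i) (X.affineCover.map_prop i)).mpr fun w => h _

theorem lfp_of_synMor {X S : Scheme.{u}} (f : X ⟶ S) (h : SynMor f) : LocallyOfFinitePresentation f := by
  rw [HasRingHomProperty.eq_affineLocally @LocallyOfFinitePresentation]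
  rw [SynMor, affineLocally_iff_affineOpens_le] at h
  rw [affineLocally_iff_affineOpens_le]
  exact fun V U e => (h V U e).2.1

/-- Complete intersection morphisms are exactly the syntomic ones. -/
theorem synMor_iff_isCIMorphism {X S : Scheme.{u}} (f : X ⟶ S) : SynMor f ↔ CInt.IsCIMorphism f := by
  have hfld : ∀ s : S, IsField (S.residueField s) := fun s => Field.toIsField (S.residueField s)
  constructor
  · intro h
    haveI := lfp_of_synMor f h
    haveI := flat_of_synMor f h
    refine ⟨inferInstance, inferInstance, fun x => ?_⟩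
    have hfib : SynMor (f.fiberToSpecResidueField (f x)) :=
      MorphismProperty.of_isPullback (IsPullback.of_hasPullback f (S.fromSpecResidueField (f x))) h
    haveI : LocallyOfFiniteType (f.fiberToSpecResidueField (f x)) :=
      MorphismProperty.pullback_snd _ _ inferInstance
    exact (synMor_field_iff (hfld _) _).mp hfib (f.asFiber x)
  · rintro ⟨hflat, hlfp, hci⟩
    haveI := hflat
    haveI := hlfp
    refine synMor_of_fibres f fun s => ?_
    haveI : LocallyOfFiniteType (f.fiberToSpecResidueField s) := MorphismProperty.pullback_snd _ _ inferInstance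
    refine (synMor_field_iff (hfld _) _).mpr fun w => ?_
    obtain ⟨x, hx⟩ : ∃ x, (f.fiberι s) w = x := ⟨_, rfl⟩
    have hs : f x = s := by
      rw [← hx]
      exact (Scheme.Hom.range_fiberι f s).le ⟨w, rfl⟩
    subst hs
    have hw : w = f.asFiber x := (Scheme.Hom.fiberι f (f x)).isEmbedding.injective (hx.trans (f.fiberι_asFiber x).symm)
    rw [hw]
    exact hci x

end Groth.Agent.SyntLib
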