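import Groth.Agent.SyntLib.Hom
import Groth.Agent.SyntLib.FieldMore
import Mathlib.RingTheory.Smooth.Flat
import Mathlib.AlgebraicGeometry.Morphisms.Flat
import Mathlib.AlgebraicGeometry.Morphisms.Smooth
import Mathlib.AlgebraicGeometry.Morphisms.FinitePresentation

/-!
# Syntomic morphisms
-/

set_option autoImplicit false
set_option linter.style.haveILetI false
universe u

open IsLocalRing RingTheory.Sequence CategoryTheory AlgebraicGeometry Limits
open scoped TensorProduct

namespace Groth.Agent.SyntLib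

instance : MorphismProperty.IsStableUnderBaseChange SynMor.{u} :=
  HasRingHomProperty.isStableUnderBaseChange syn_stableUnderBaseChange

instance : IsZariskiLocalAtSource SynMor.{u} := inferInstance

theorem isSyntomic_of_smooth (R S : Type u) [CommRing R] [CommRing S] [Algebra R S] [Algebra.Smooth R S] :
    Synt.IsSyntomic R S :=
  ⟨inferInstance, inferInstance, fun p => isLCIOver_of_smooth (p.asIdeal.Fiber S)⟩

theorem syn_of_smooth {R S : Type u} [CommRing R] [CommRing S] (φ : R →+* S) (h : φ.Smooth) : Syn φ := by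
  letI := φ.toAlgebra
  haveI : Algebra.Smooth R S := h
  exact isSyntomic_of_smooth R S

/-- A relative complete intersection over a field is a global complete intersection. -/
theorem isGlobalCI_relGCI_field {k : Type u} [Field k] {n c : ℕ} {F : Fin c → MvPolynomial (Fin n) k}
    (h : Synt.IsRelGCI k n c F) : Synt.IsGlobalCI k (Synt.RelGCIRing k n c F) := by
  let T := Synt.RelGCIRing k n c F
  by_cases hs : Subsingleton T
  · exact Or.inl hs
  haveI := not_subsingleton_iff_nontrivial.mp hs
  let p : PrimeSpectrum k := ⟨⊥, Ideal.isPrime_bot⟩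
  haveI : p.asIdeal.IsMaximal := Ideal.bot_isMaximal
  let e₀ : k ≃ₐ[k] p.asIdeal.ResidueField := AlgEquiv.ofBijective (Algebra.ofId k _)
    ⟨(algebraMap k p.asIdeal.ResidueField).injective, Ideal.algebraMap_residueField_surjective p.asIdeal⟩
  let e : T ≃ₐ[k] p.asIdeal.Fiber T :=
    (Algebra.TensorProduct.lid k T).symm.trans (Algebra.TensorProduct.congr e₀ AlgEquiv.refl)
  obtain ⟨hcn, hd⟩ := h p e.injective.nontrivial
  refine Or.inr ⟨n, c, hcn, Ideal.Quotient.mkₐ k _, F, Ideal.Quotient.mk_surjective, Ideal.mk_ker, ?_⟩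
  rw [← hd]
  exact ringKrullDim_eq_of_ringEquiv e.toRingEquiv

/-- Over a field, syntomic means local complete intersection. -/
theorem isLCIOver_of_isSyntomic {k T : Type u} [Field k] [CommRing T] [Algebra k T] (h : Synt.IsSyntomic k T) :
    Synt.IsLCIOver k T := by
  haveI := h.2.1
  refine ⟨inferInstance, fun q => ?_⟩
  obtain ⟨g, hg, n, c, F, hF, ⟨e⟩⟩ := exists_relGCI_of_isSyntomic h q.asIdeal
  exact ⟨g, hg, isGlobalCI_of_algEquiv e.symm (isGlobalCI_relGCI_field hF)⟩

/-- A morphism to the spectrum of a field factors through the residue field. -/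
theorem exists_fac_fromSpecResidueField {K : Type u} [Field K] {S : Scheme.{u}} (t : Spec (CommRingCat.of K) ⟶ S) :
    ∃ (s : S) (τ : Spec (CommRingCat.of K) ⟶ Spec (S.residueField s)), τ ≫ S.fromSpecResidueField s = t := by
  let w := Scheme.SpecToEquivOfField K S t
  exact ⟨w.1, Spec.map w.2, (Scheme.SpecToEquivOfField K S).symm_apply_apply t⟩

/-- Flat, finitely presented morphisms with syntomic fibres. -/
theorem synMor_of_fibres {X S : Scheme.{u}} (f : X ⟶ S) [Flat f] [LocallyOfFinitePresentation f]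
    (hfib : ∀ s : S, SynMor (f.fiberToSpecResidueField s)) : SynMor f := by
  rw [SynMor, affineLocally_iff_affineOpens_le]
  intro V U e
  have hflat := HasRingHomProperty.appLE @Flat f inferInstance V U e
  have hfp := HasRingHomProperty.appLE @LocallyOfFinitePresentation f inferInstance V U e
  generalize hφ : f.appLE V.1 U.1 e = φ at hflat hfp
  letI := φ.hom.toAlgebra
  refine ⟨hflat, hfp, fun p => isLCIOver_of_isSyntomic ?_⟩
  let κ := p.asIdeal.ResidueField
  let τ₀ : Spec (CommRingCat.of κ) ⟶ Spec Γ(S, V.1) := Spec.map (CommRingCat.ofHom (algebraMap Γ(S, V.1) κ))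
  let t := τ₀ ≫ V.2.fromSpec
  obtain ⟨s, τ, hτ⟩ := exists_fac_fromSpecResidueField t
  have hsnd : SynMor (pullback.snd f t) := by
    let m : pullback f t ⟶ f.fiber s :=
      pullback.lift (pullback.fst f t) (pullback.snd f t ≫ τ) (by rw [Category.assoc, hτ, pullback.condition])
    have hsq : IsPullback m (pullback.snd f t) (f.fiberToSpecResidueField s) τ := by
      refine IsPullback.of_right ?_ (pullback.lift_snd _ _ _) (IsPullback.of_hasPullback f (S.fromSpecResidueField s))
      have heq : m ≫ pullback.fst f (S.fromSpecResidueField s) = pullback.fst f t := pullback.lift_fst _ _ _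
      rw [hτ]
      exact heq.symm ▸ IsPullback.of_hasPullback f t
    exact MorphismProperty.of_isPullback hsq (hfib s)
  have hUV : U.2.fromSpec ≫ f = Spec.map φ ≫ V.2.fromSpec := by
    rw [← hφ]; exact (IsAffineOpen.SpecMap_appLE_fromSpec f V.2 U.2 e).symm
  have sq := (isPullback_SpecMap_of_isPushout _ _ _ _ (CommRingCat.isPushout_tensorProduct Γ(S, V.1) κ Γ(X, U.1))).flip
  have sq2 : IsPullback
      (Spec.map (CommRingCat.ofHom (Algebra.TensorProduct.includeRight : Γ(X, U.1) →ₐ[Γ(S, V.1)] κ ⊗[Γ(S, V.1)] Γ(X, U.1)).toRingHom))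
      (Spec.map (CommRingCat.ofHom (algebraMap κ (κ ⊗[Γ(S, V.1)] Γ(X, U.1))))) (U.2.fromSpec ≫ f) t := by
    rw [hUV]
    have sq' : IsPullback
        (Spec.map (CommRingCat.ofHom (Algebra.TensorProduct.includeRight : Γ(X, U.1) →ₐ[Γ(S, V.1)] κ ⊗[Γ(S, V.1)] Γ(X, U.1)).toRingHom))
        (Spec.map (CommRingCat.ofHom (algebraMap κ (κ ⊗[Γ(S, V.1)] Γ(X, U.1))))) (Spec.map φ) τ₀ := sq
    exact ⟨⟨by simp only [t, reassoc_of% sq'.w]⟩, ⟨PullbackCone.isLimitOfCompMono _ _ V.2.fromSpec _ sq'.isLimit⟩⟩
  have hsq := IsPullback.of_right' sq2.flip (IsPullback.of_hasPullback f t).flip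
  have hopen : IsOpenImmersion ((IsPullback.of_hasPullback f t).flip.lift _ _ (by rw [sq2.flip.w, Category.assoc])) :=
    MorphismProperty.of_isPullback hsq.flip (inferInstanceAs (IsOpenImmersion U.2.fromSpec))
  have h1 := IsZariskiLocalAtSource.comp (P := SynMor.{u}) hsnd
    ((IsPullback.of_hasPullback f t).flip.lift _ _ (by rw [sq2.flip.w, Category.assoc]))
  rw [IsPullback.lift_fst] at h1
  exact syn_algebraMap.mp ((HasRingHomProperty.Spec_iff (P := SynMor.{u})).mp h1)

end Groth.Agent.SyntLib
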