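import Groth.Agent.SyntLib.Regular
import Groth.Agent.KoszulLib.H1
import Groth.Agent.SyntLib.Mor

/-!
# Regular equations in a smooth algebra
-/

set_option autoImplicit false
set_option linter.style.haveILetI false
universe u

open IsLocalRing RingTheory.Sequence MvPolynomial CategoryTheory AlgebraicGeometry
open scoped TensorProduct

namespace Groth.Agent.SyntLib

variable {R : Type u} [CommRing R] {n : ℕ}

/-- Local equations at a point where the algebra is flat with complete intersection fibre. -/
theorem exists_local_eqs_of_fibre {S : Type u} [CommRing S] [Algebra R S] (φ : MvPolynomial (Fin n) R →ₐ[R] S)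
    (hφ : Function.Surjective φ) (hI : (RingHom.ker φ.toRingHom).FG) (p : Ideal R) [p.IsPrime]
    (Q : Ideal (p.Fiber S)) [Q.IsPrime] (q : Ideal S) [q.IsPrime]
    (hQ : Q.comap (Algebra.TensorProduct.includeRight : S →ₐ[R] p.Fiber S).toRingHom = q)
    [Module.Flat R (Localization.AtPrime q)] {c : ℕ} (F : Fin c → MvPolynomial (Fin n) R)
    (hFI : ∀ i, F i ∈ RingHom.ker φ.toRingHom)
    (hgen : (RingHom.ker (fibrePresOf p.ResidueField φ).toRingHom).map
        (algebraMap _ (Localization.AtPrime (Q.comap (fibrePresOf p.ResidueField φ).toRingHom))) =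
      Ideal.span (Set.range fun i => algebraMap _ (Localization.AtPrime (Q.comap (fibrePresOf p.ResidueField φ).toRingHom))
        (red (R := R) p.ResidueField n (F i))))
    (hreg : IsWeaklyRegular (Localization.AtPrime (Q.comap (fibrePresOf p.ResidueField φ).toRingHom))
      (List.ofFn fun i => algebraMap _ (Localization.AtPrime (Q.comap (fibrePresOf p.ResidueField φ).toRingHom))
        (red (R := R) p.ResidueField n (F i)))) :
    ∃ g : MvPolynomial (Fin n) R, φ g ∉ q ∧
      (∀ i ∈ RingHom.ker φ.toRingHom, g * i ∈ Ideal.span (Set.range F)) ∧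
      c ≤ n ∧ ∀ (i : ℕ) (hi : i ≤ c), ∃ z : PrimeSpectrum (Synt.RelGCIRing R n i (F ∘ Fin.castLE hi)),
        z.asIdeal.comap (Ideal.Quotient.mk (Ideal.span (Set.range (F ∘ Fin.castLE hi)))) = q.comap φ.toRingHom ∧
        z ∈ fibreDimLE R (Synt.RelGCIRing R n i (F ∘ Fin.castLE hi)) (n - i) := by
  let I := RingHom.ker φ.toRingHom
  let φI := fibrePresOf p.ResidueField φ
  let Qx := Q.comap φI.toRingHom
  have hQx : Qx.comap (red (R := R) p.ResidueField n) = q.comap φ.toRingHom := by
    rw [← hQ]
    ext x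
    show φI (red (R := R) p.ResidueField n x) ∈ Q ↔ _
    rw [fibrePresOf_map]
    rfl
  let A := Localization.AtPrime (Qx.comap (red (R := R) p.ResidueField n))
  let B := Localization.AtPrime Qx
  obtain ⟨ψ, hψ, hker, hψx⟩ := exists_fibre_local p Qx
  let IA := I.map (algebraMap (MvPolynomial (Fin n) R) A)
  have hFle : Ideal.span (Set.range F) ≤ I := Ideal.span_le.mpr (by rintro _ ⟨i, rfl⟩; exact hFI i)
  let JA := (Ideal.span (Set.range F)).map (algebraMap (MvPolynomial (Fin n) R) A)
  have hψI : IA.map ψ = Ideal.span (Set.range fun i => algebraMap _ B (red (R := R) p.ResidueField n (F i))) := by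
    rw [← hgen, ker_fibrePresOf _ φ hφ, Ideal.map_map, Ideal.map_map]
    congr 1
    exact RingHom.ext hψx
  have hJψ : JA.map ψ = Ideal.span (Set.range fun i => algebraMap _ B (red (R := R) p.ResidueField n (F i))) := by
    rw [Ideal.map_map, Ideal.map_span, ← Set.range_comp]
    exact congrArg (fun w => Ideal.span (Set.range w)) (funext fun i => hψx (F i))
  -- flatness of the quotient
  haveI hflat : Module.Flat R (A ⧸ IA) := by
    obtain ⟨χ, hχ, hkχ, -⟩ := exists_local_quot (R := R) φ hφ q
    let A' := Localization.AtPrime (q.comap φ.toRingHom)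
    haveI : Module.Flat R (A' ⧸ I.map (algebraMap (MvPolynomial (Fin n) R) A')) := by
      have heq : I.map (algebraMap (MvPolynomial (Fin n) R) A') = RingHom.ker χ.toRingHom := hkχ.symm
      exact Module.Flat.of_linearEquiv
        ((Ideal.quotientEquivAlgOfEq R heq).trans (Ideal.quotientKerAlgEquivOfSurjective hχ)).toLinearEquiv
    have key : ∀ (P₁ P₂ : Ideal (MvPolynomial (Fin n) R)) (_ : P₁.IsPrime) (_ : P₂.IsPrime), P₁ = P₂ →
        Module.Flat R (Localization.AtPrime P₂ ⧸ I.map (algebraMap (MvPolynomial (Fin n) R) (Localization.AtPrime P₂))) →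
        Module.Flat R (Localization.AtPrime P₁ ⧸ I.map (algebraMap (MvPolynomial (Fin n) R) (Localization.AtPrime P₁))) := by
      intro P₁ P₂ h₁ h₂ heq hf
      subst heq
      exact hf
    exact key _ _ inferInstance inferInstance hQx ‹_›
  -- Nakayama
  have hIJ : IA ≤ JA := by
    refine Submodule.le_of_le_smul_of_le_jacobson_bot (I := maximalIdeal A) (hI.map _)
      (IsLocalRing.jacobson_eq_maximalIdeal ⊥ bot_ne_top).ge fun x hx => ?_
    have h1 : x ∈ (JA.map ψ).comap ψ := by
      rw [Ideal.mem_comap, hJψ, ← hψI]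
      exact Ideal.mem_map_of_mem _ hx
    rw [Ideal.comap_map_of_surjective ψ hψ, ← RingHom.ker_eq_comap_bot, hker] at h1
    obtain ⟨j, hj, k, hk, rfl⟩ := Submodule.mem_sup.mp h1
    refine Submodule.add_mem_sup hj ?_
    have hkI : k ∈ IA := (Submodule.add_mem_iff_right IA (Ideal.map_mono hFle hj)).mp hx
    have hkp : k ∈ p • (⊤ : Submodule R A) := (InjFibre.mem_smul_top_iff p k).mp (by
      rw [smul_eq_mul, Ideal.mul_top]; exact hk)
    have hex : Function.Exact ((Submodule.subtype IA).restrictScalars R) (Ideal.Quotient.mkₐ R IA).toLinearMap := by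
      intro a
      constructor
      · intro ha
        exact ⟨⟨a, Ideal.Quotient.eq_zero_iff_mem.mp ha⟩, rfl⟩
      · rintro ⟨b, rfl⟩
        exact Ideal.Quotient.eq_zero_iff_mem.mpr b.2
    have h2 := LocalCrit.mem_smul_of_map_mem_of_mulMap_injective ((Submodule.subtype IA).restrictScalars R)
      Subtype.val_injective (Ideal.Quotient.mkₐ R IA).toLinearMap Ideal.Quotient.mk_surjective hex p
      (LocalCrit.mulMap_injective p) (x := (⟨k, hkI⟩ : IA)) hkp
    have h3 := (Submodule.mem_smul_top_iff (p.map (algebraMap R A)) IA ⟨k, hkI⟩).mp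
      ((InjFibre.mem_smul_top_iff (B := A) p (⟨k, hkI⟩ : IA)).mpr h2)
    refine Submodule.smul_mono_left ?_ h3
    refine Ideal.map_le_iff_le_comap.mpr fun r hr => ?_
    rw [Ideal.mem_comap]
    refine le_maximalIdeal (RingHom.ker_ne_top ψ) ?_
    rw [hker]
    exact Ideal.mem_map_of_mem _ hr
  obtain ⟨g, hg, hgI⟩ := exists_mul_mem (Qx.comap (red (R := R) p.ResidueField n)) hI hIJ
  -- the fibre dimensions of the prefixes
  haveI : IsNoetherianRing B := IsLocalization.isNoetherianRing Qx.primeCompl B inferInstance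
  have hpre : ∀ (i : ℕ) (hi : i ≤ c), i ≤ n ∧
      ∃ z : PrimeSpectrum (Synt.RelGCIRing R n i (F ∘ Fin.castLE hi)),
        z.asIdeal.comap (Ideal.Quotient.mk (Ideal.span (Set.range (F ∘ Fin.castLE hi)))) =
          Qx.comap (red (R := R) p.ResidueField n) ∧
        z ∈ fibreDimLE R (Synt.RelGCIRing R n i (F ∘ Fin.castLE hi)) (n - i) := by
    intro i hi
    have hkmk : RingHom.ker (Ideal.Quotient.mkₐ R (Ideal.span (Set.range (F ∘ Fin.castLE hi)))).toRingHom =
        Ideal.span (Set.range (F ∘ Fin.castLE hi)) := Ideal.mk_ker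
    refine exists_point_fibreDimLE (c := i) (Ideal.Quotient.mkₐ R (Ideal.span (Set.range (F ∘ Fin.castLE hi))))
      Ideal.Quotient.mk_surjective p Qx
      (by
        rw [hkmk, hQx]
        intro x hx
        have hx' : x ∈ RingHom.ker φ.toRingHom :=
          hFle (Ideal.span_mono (Set.range_comp_subset_range _ F) hx)
        rw [Ideal.mem_comap, show φ.toRingHom x = 0 from hx']
        exact q.zero_mem)
      fun P hP hPw => by
        haveI := hP.1.1
        rw [hkmk] at hP
        have hd : Disjoint (Qx.primeCompl : Set (MvPolynomial (Fin n) p.ResidueField)) (P : Set _) :=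
          Set.disjoint_left.mpr fun x hx hxP => hx (hPw hxP)
        haveI := IsLocalization.isPrime_of_isPrime_disjoint Qx.primeCompl B P inferInstance hd
        let rs := List.ofFn fun i => algebraMap _ B (red (R := R) p.ResidueField n (F i))
        have hw : IsWeaklyRegular B (rs.take i) := by
          have h : IsWeaklyRegular B rs := hreg
          rw [← List.take_append_drop i rs, isWeaklyRegular_append_iff] at h
          exact h.1
        have h1 := Catenary.length_le_height hw (P.map (algebraMap _ B)) fun x hx => by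
          obtain ⟨j, hj, rfl⟩ := List.mem_iff_getElem.mp hx
          simp only [rs, List.getElem_take, List.getElem_ofFn]
          simp only [rs, List.length_take, List.length_ofFn] at hj
          have hj' : j < i := lt_of_lt_of_le hj (min_le_left _ _)
          exact Ideal.mem_map_of_mem _ (hP.1.2 (Ideal.mem_map_of_mem _ (Ideal.subset_span ⟨⟨j, hj'⟩, rfl⟩)))
        simp only [rs, List.length_take, List.length_ofFn, min_eq_left hi] at h1
        refine h1.trans (le_of_eq ?_)
        rw [← IsLocalization.height_under Qx.primeCompl (P.map (algebraMap _ B))]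
        exact congrArg _ (IsLocalization.under_map_of_isPrime_disjoint Qx.primeCompl B inferInstance hd)
  refine ⟨g, fun hgq => hg (hQx.symm ▸ hgq), hgI, (hpre _ le_rfl).1, fun i hi => ?_⟩
  rw [← hQx]
  exact (hpre i hi).2

/-- Regular equations near a syntomic point. -/
theorem exists_regular_nhd_of_fibre {S : Type u} [CommRing S] [Algebra R S] (φ : MvPolynomial (Fin n) R →ₐ[R] S)
    (hφ : Function.Surjective φ) (hI : (RingHom.ker φ.toRingHom).FG) (p : Ideal R) [p.IsPrime]
    (Q : Ideal (p.Fiber S)) [Q.IsPrime] (q : Ideal S) [q.IsPrime]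
    (hQ : Q.comap (Algebra.TensorProduct.includeRight : S →ₐ[R] p.Fiber S).toRingHom = q)
    [Module.Flat R (Localization.AtPrime q)] {c : ℕ} (F : Fin c → MvPolynomial (Fin n) R)
    (hFI : ∀ i, F i ∈ RingHom.ker φ.toRingHom)
    (hgen : (RingHom.ker (fibrePresOf p.ResidueField φ).toRingHom).map
        (algebraMap _ (Localization.AtPrime (Q.comap (fibrePresOf p.ResidueField φ).toRingHom))) =
      Ideal.span (Set.range fun i => algebraMap _ (Localization.AtPrime (Q.comap (fibrePresOf p.ResidueField φ).toRingHom))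
        (red (R := R) p.ResidueField n (F i))))
    (hreg : IsWeaklyRegular (Localization.AtPrime (Q.comap (fibrePresOf p.ResidueField φ).toRingHom))
      (List.ofFn fun i => algebraMap _ (Localization.AtPrime (Q.comap (fibrePresOf p.ResidueField φ).toRingHom))
        (red (R := R) p.ResidueField n (F i)))) :
    ∃ (a : MvPolynomial (Fin n) R), φ a ∉ q ∧
      (∀ i ∈ RingHom.ker φ.toRingHom, a * i ∈ Ideal.span (Set.range F)) ∧
      ∀ b, a ∣ b → ∀ (j : Fin c) (x : MvPolynomial (Fin n) R),
        F j * x ∈ Ideal.span (F '' {k | k < j}) → ∃ m : ℕ, b ^ m * x ∈ Ideal.span (F '' {k | k < j}) := by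
  obtain ⟨g, hgq, hkill, hcn, hz⟩ := exists_local_eqs_of_fibre φ hφ hI p Q q hQ F hFI hgen hreg
  have hh : ∀ i : Fin (c + 1), ∃ h : MvPolynomial (Fin n) R, φ h ∉ q ∧
      ∀ a, h ∣ a → Synt.IsRelGCI R (n + 1) ((i : ℕ) + 1) (snocPres (F ∘ Fin.castLE (Nat.le_of_lt_succ i.2)) a) := by
    intro i
    have hi : (i : ℕ) ≤ c := Nat.le_of_lt_succ i.2
    obtain ⟨z, hzc, hzW⟩ := hz i hi
    haveI : Algebra.FiniteType R (Synt.RelGCIRing R n i (F ∘ Fin.castLE hi)) :=
      Algebra.FiniteType.of_surjective (Ideal.Quotient.mkₐ R _) Ideal.Quotient.mk_surjective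
    obtain ⟨_, ⟨w, rfl⟩, hzw, hwW⟩ := PrimeSpectrum.isTopologicalBasis_basic_opens.exists_subset_of_mem_open hzW
      (isOpen_fibreDimLE R (Synt.RelGCIRing R n i (F ∘ Fin.castLE hi)) (n - i))
    obtain ⟨h, rfl⟩ := Ideal.Quotient.mk_surjective w
    refine ⟨h, fun hmem => hzw ((SetLike.ext_iff.mp hzc h).mpr hmem), fun a ha => ?_⟩
    obtain ⟨b, rfl⟩ := ha
    refine isRelGCI_snoc (le_trans hi hcn) _ (h * b) fun z' hz' => hwW ?_
    exact fun hmem => hz' (by rw [map_mul]; exact Ideal.mul_mem_right _ _ hmem)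
  choose h hhq hhrel using hh
  let a := g * ∏ i, h i
  have haq : φ a ∉ q := by
    rw [map_mul, map_prod]
    exact fun hmem => ((inferInstance : q.IsPrime).mem_or_mem hmem).elim hgq
      (fun hp => by obtain ⟨i, -, hi⟩ := (Ideal.IsPrime.prod_mem_iff (p := q)).mp hp; exact hhq i hi)
  have hdvd : ∀ i, h i ∣ a := fun i => (Finset.dvd_prod_of_mem h (Finset.mem_univ i)).mul_left g
  refine ⟨a, haq, fun i hi => ?_, fun b hb j x hx => ?_⟩
  · show g * (∏ i, h i) * i ∈ _
    rw [mul_comm g, mul_assoc]
    exact Ideal.mul_mem_left _ _ (hkill i hi)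
  let J := Ideal.span (F '' {k | k < j})
  let K := J.colon {x}
  suffices ha : b ∈ K.radical by
    obtain ⟨m, hm⟩ := ha
    exact ⟨m, Submodule.mem_colon_singleton.mp hm⟩
  rw [Ideal.radical_eq_sInf, Submodule.mem_sInf]
  rintro (P : Ideal (MvPolynomial (Fin n) R)) ⟨hKP, hP⟩
  by_contra haP
  haveI := hP
  let A := Localization.AtPrime P
  suffices hxA : algebraMap _ A x ∈ J.map (algebraMap _ A) by
    obtain ⟨s, hs, hsx⟩ := (IsLocalization.algebraMap_mem_map_algebraMap_iff P.primeCompl A _ x).mp hxA
    exact hs (hKP (Submodule.mem_colon_singleton.mpr hsx))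
  have hxA : algebraMap _ A (F j) * algebraMap _ A x ∈ J.map (algebraMap _ A) := by
    rw [← map_mul]; exact Ideal.mem_map_of_mem _ hx
  by_cases hJP : J ≤ P
  · by_cases hjP : F j ∈ P
    · let G : Fin ((j : ℕ) + 1) → MvPolynomial (Fin n) R := F ∘ Fin.castLE j.2
      have hG : Ideal.span (Set.range G) ≤ P := Ideal.span_le.mpr (by
        rintro _ ⟨k, rfl⟩
        induction k using Fin.lastCases with
        | last => exact hjP
        | cast k => exact hJP (Ideal.subset_span ⟨Fin.castLE j.2 k.castSucc, k.2, rfl⟩))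
      have hJeq : J.map (algebraMap _ A) = Ideal.span (Set.range fun k : Fin (j : ℕ) => algebraMap _ A (G k.castSucc)) := by
        rw [Ideal.map_span]
        congr 1
        ext y
        constructor
        · rintro ⟨_, ⟨k, hk, rfl⟩, rfl⟩
          exact ⟨⟨k, hk⟩, rfl⟩
        · rintro ⟨k, rfl⟩
          exact ⟨_, ⟨Fin.castLE j.2 k.castSucc, k.2, rfl⟩, rfl⟩
      rw [hJeq] at hxA ⊢
      exact mul_mem_cancel G b (hhrel ⟨(j : ℕ) + 1, Nat.succ_lt_succ j.2⟩ b ((hdvd _).trans hb)) P haP hG _ hxA
    · exact (Ideal.unit_mul_mem_iff_mem _ (IsLocalization.map_units A (⟨F j, hjP⟩ : P.primeCompl))).mp hxA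
  · obtain ⟨y, hyJ, hyP⟩ := SetLike.not_le_iff_exists.mp hJP
    rw [Ideal.eq_top_of_isUnit_mem _ (Ideal.mem_map_of_mem _ hyJ) (IsLocalization.map_units A (⟨y, hyP⟩ : P.primeCompl))]
    trivial

end Groth.Agent.SyntLib

namespace Groth.Agent.SyntLib

open IsLocalRing

/-- Regular equations of a syntomic algebra inside a smooth algebra. -/
theorem exists_regular_smooth {R P B : Type u} [CommRing R] [CommRing P] [CommRing B] [Algebra R P] [Algebra R B]
    [Algebra.Smooth R P] (φ : P →ₐ[R] B) (hφ : Function.Surjective φ) (h : Synt.IsSyntomic R B) (q : Ideal B)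
    [q.IsPrime] :
    ∃ (g : P) (c : ℕ) (f : Fin c → P), φ g ∉ q ∧
      (RingHom.ker φ.toRingHom).map (algebraMap P (Localization.Away g)) =
        Ideal.span (Set.range (algebraMap P (Localization.Away g) ∘ f)) ∧
      IsWeaklyRegular (Localization.Away g) (List.ofFn (algebraMap P (Localization.Away g) ∘ f)) := by
  classical
  haveI := h.1
  haveI := h.2.1
  obtain ⟨n, χ, hχ, -⟩ := (Algebra.FinitePresentation.out (R := R) (A := P))
  let X := MvPolynomial (Fin n) R
  let qP := q.comap φ.toRingHom
  obtain ⟨c₀, G, a₀, -, ha₀, hGT, hGreg, -, hGI, hGkill⟩ :=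
    exists_regular_away χ hχ (isSyntomic_of_smooth R P) qP
  let p := q.comap (algebraMap R B)
  let κ := p.ResidueField
  obtain ⟨Q, hQ, hQc⟩ := exists_fiber_prime p q rfl
  let ψ := φ.comp χ
  have hψ : Function.Surjective ψ := hφ.comp hχ
  let β : p.Fiber P →ₐ[κ] p.Fiber B := Algebra.TensorProduct.map (AlgHom.id κ κ) φ
  have hβ : Function.Surjective β := fun y => by
    induction y using TensorProduct.induction_on with
    | zero => exact ⟨0, map_zero _⟩
    | tmul a b => obtain ⟨c, rfl⟩ := hφ b; exact ⟨a ⊗ₜ c, rfl⟩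
    | add y y' hy hy' => obtain ⟨c, rfl⟩ := hy; obtain ⟨c', rfl⟩ := hy'; exact ⟨c + c', map_add _ _ _⟩
  let π := fibrePresOf κ χ
  have hπ : Function.Surjective π := fibrePresOf_surjective _ χ hχ
  let π' := fibrePresOf κ ψ
  have hcomp : π' = β.comp π := by
    refine MvPolynomial.algHom_ext fun i => ?_
    have h1 := fibrePresOf_map (κ := κ) ψ (MvPolynomial.X i : MvPolynomial (Fin n) R)
    have h2 := fibrePresOf_map (κ := κ) χ (MvPolynomial.X i : MvPolynomial (Fin n) R)
    simp only [red, MvPolynomial.map_X] at h1 h2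
    rw [h1]
    show _ = β (π (MvPolynomial.X i))
    rw [h2]
    rfl
  let Qx := Q.comap π'.toRingHom
  let Q₀ := Q.comap β.toRingHom
  have hQx : Qx = Q₀.comap π.toRingHom := by
    show Q.comap π'.toRingHom = _
    rw [hcomp]; exact (Ideal.comap_comap _ _).symm
  let Bl := Localization.AtPrime Qx
  let α : MvPolynomial (Fin n) κ →+* Bl := algebraMap _ Bl
  -- the equations of the smooth algebra
  have hG₁ : ∀ i, χ (G i) = 0 := fun i => RingHom.mem_ker.mp (hGI (Ideal.subset_span (Set.mem_range_self i)))
  have hGker : (RingHom.ker π.toRingHom).map α = Ideal.span (Set.range fun i => α (red (R := R) κ n (G i))) := by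
    rw [ker_fibrePresOf κ χ hχ, Ideal.map_map]
    refine le_antisymm (Ideal.map_le_iff_le_comap.mpr fun x hx => ?_) (Ideal.span_le.mpr ?_)
    · rw [Ideal.mem_comap]
      have hu : IsUnit (α (red (R := R) κ n a₀)) := by
        refine IsLocalization.map_units Bl (⟨_, fun hh => ha₀ ?_⟩ : Qx.primeCompl)
        have h1 : π' (red (R := R) κ n a₀) ∈ Q := hh
        rw [fibrePresOf_map] at h1
        show φ (χ a₀) ∈ q
        rw [← hQc]
        exact h1
      refine (Ideal.unit_mul_mem_iff_mem _ hu).mp ?_
      rw [RingHom.comp_apply, ← map_mul, ← map_mul]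
      have h2 := Ideal.mem_map_of_mem (α.comp (red (R := R) κ n)) (hGkill x hx)
      rw [Ideal.map_span, ← Set.range_comp] at h2
      exact h2
    · rintro _ ⟨i, rfl⟩
      exact Ideal.mem_map_of_mem (α.comp (red (R := R) κ n)) (RingHom.mem_ker.mpr (hG₁ i))
  have hGw : IsWeaklyRegular Bl (List.ofFn fun i => α (red (R := R) κ n (G i))) := by
    refine KoszulLib.isWeaklyRegular_of_h1 (fun i => IsLocalRing.maximalIdeal_le_jacobson _ ?_) ?_
    · refine (IsLocalization.AtPrime.to_map_mem_maximal_iff Bl Qx _).mpr ?_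
      show π' (red (R := R) κ n (G i)) ∈ Q
      rw [fibrePresOf_map, show ψ (G i) = φ (χ (G i)) from rfl, hG₁, map_zero, TensorProduct.tmul_zero]
      exact zero_mem _
    · let T := Localization.Away a₀
      let G' : Fin c₀ → T := algebraMap X T ∘ G
      have hH : CAlgX.IsH1Regular G' := KoszulLib.isH1Regular_of_acyclic (KoszulLib.acyclic_of_isWeaklyRegular' hGreg)
      have hM : Submonoid.map χ.toRingHom (Submonoid.powers a₀) = Submonoid.powers (χ a₀) := Submonoid.map_powers _ a₀
      haveI : Module.Flat P (Localization.Away (χ a₀)) := IsLocalization.flat _ (Submonoid.powers (χ a₀))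
      haveI : Module.Flat R (Localization.Away (χ a₀)) := Module.Flat.trans R P _
      let θ₀ : T →+* Localization.Away (χ a₀) := IsLocalization.map (M := Submonoid.powers a₀) (S := T)
        (T := Submonoid.powers (χ a₀)) _ χ.toRingHom (hM ▸ Submonoid.le_comap_map _)
      let θ : T →ₐ[R] Localization.Away (χ a₀) :=
        { θ₀ with
          commutes' := fun r => by
            show θ₀ (algebraMap R _ r) = _
            rw [IsScalarTower.algebraMap_apply R X T, IsLocalization.map_eq,
              IsScalarTower.algebraMap_apply R P (Localization.Away (χ a₀))]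
            exact congrArg _ (χ.commutes r) }
      have hθ : Function.Surjective θ := fun y => by
        obtain ⟨b, ⟨_, k, rfl⟩, rfl⟩ := IsLocalization.exists_mk'_eq (Submonoid.powers (χ a₀)) y
        obtain ⟨a, rfl⟩ := hχ b
        refine ⟨IsLocalization.mk' T a (⟨a₀ ^ k, k, rfl⟩ : Submonoid.powers a₀), ?_⟩
        refine (IsLocalization.map_mk' (hM ▸ Submonoid.le_comap_map _) a _).trans ?_
        congr 1
        exact Subtype.ext (map_pow χ a₀ k)
      have hθk : RingHom.ker θ.toRingHom = Ideal.span (Set.range G') := by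
        rw [show θ.toRingHom = IsLocalization.map (M := Submonoid.powers a₀) (S := T) (T := Submonoid.powers (χ a₀))
            (Localization.Away (χ a₀)) χ.toRingHom (hM ▸ Submonoid.le_comap_map _) from rfl,
          IsLocalization.ker_map (S := T) (Localization.Away (χ a₀)) χ.toRingHom hM, hGT]
      haveI : Module.Flat R (T ⧸ Ideal.span (Set.range G')) := Module.Flat.of_linearEquiv
        ((Ideal.quotientEquivAlgOfEq R hθk.symm).trans (Ideal.quotientKerAlgEquivOfSurjective hθ)).toLinearEquiv
      have hH' := KoszulLib.h1_baseChange (A := R) κ hH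
      have hu : IsUnit ((α.comp (red (R := R) κ n)) a₀) := by
        refine IsLocalization.map_units Bl (⟨_, fun hh => ha₀ ?_⟩ : Qx.primeCompl)
        have h1 : π' (red (R := R) κ n a₀) ∈ Q := hh
        rw [fibrePresOf_map] at h1
        show φ (χ a₀) ∈ q
        rw [← hQc]
        exact h1
      letI : Algebra X Bl := (α.comp (red (R := R) κ n)).toAlgebra
      haveI : IsScalarTower R X Bl := IsScalarTower.of_algebraMap_eq fun r => by
        show algebraMap R Bl r = α (red (R := R) κ n (algebraMap R X r))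
        rw [IsScalarTower.algebraMap_apply R κ Bl, IsScalarTower.algebraMap_apply κ (MvPolynomial (Fin n) κ) Bl,
          MvPolynomial.algebraMap_eq, MvPolynomial.algebraMap_eq, red, MvPolynomial.map_C]
      let ω₀ : T →+* Bl := IsLocalization.Away.lift a₀ (g := algebraMap X Bl) hu
      let ω₁ : T →ₐ[R] Bl :=
        { ω₀ with
          commutes' := fun r => by
            show ω₀ (algebraMap R _ r) = _
            rw [IsScalarTower.algebraMap_apply R X T, IsLocalization.Away.lift_eq,
              ← IsScalarTower.algebraMap_apply R X Bl] }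
      let ω : κ ⊗[R] T →ₐ[κ] Bl := Algebra.TensorProduct.lift (Algebra.ofId κ Bl) ω₁ fun _ _ => Commute.all _ _
      let ν : MvPolynomial (Fin n) κ →ₐ[κ] κ ⊗[R] T :=
        MvPolynomial.aeval fun i => (1 : κ) ⊗ₜ[R] algebraMap X T (MvPolynomial.X i)
      have hνred : ∀ x : X, ν (red (R := R) κ n x) = (1 : κ) ⊗ₜ[R] algebraMap X T x := by
        have : ν.toRingHom.comp (red (R := R) κ n) =
            (Algebra.TensorProduct.includeRight : T →ₐ[R] κ ⊗[R] T).toRingHom.comp (algebraMap X T) := by
          refine MvPolynomial.ringHom_ext (fun r => ?_) fun i => ?_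
          · simp only [RingHom.comp_apply, red, MvPolynomial.map_C, AlgHom.toRingHom_eq_coe, RingHom.coe_coe]
            rw [← MvPolynomial.algebraMap_eq, AlgHom.commutes, ← MvPolynomial.algebraMap_eq,
              ← IsScalarTower.algebraMap_apply R X T, AlgHom.commutes, ← IsScalarTower.algebraMap_apply]
          · simp [ν, red]
        exact fun x => RingHom.congr_fun this x
      have hων : ω.comp ν = IsScalarTower.toAlgHom κ (MvPolynomial (Fin n) κ) Bl := by
        refine MvPolynomial.algHom_ext fun i => ?_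
        simp only [AlgHom.comp_apply, ν, MvPolynomial.aeval_X, ω, Algebra.TensorProduct.lift_tmul, map_one, one_mul]
        show ω₀ (algebraMap X T (MvPolynomial.X i)) = _
        rw [IsLocalization.Away.lift_eq]
        show α (red (R := R) κ n (MvPolynomial.X i)) = α (MvPolynomial.X i)
        simp [red]
      have hH'' : CAlgX.IsH1Regular (fun i => ν (red (R := R) κ n (G i))) := by
        simp only [hνred]
        exact hH'
      rw [KoszulLib.h1_iff]
      intro b hb
      obtain ⟨d, hd⟩ := IsLocalization.exist_integer_multiples_of_finite Qx.primeCompl b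
      choose b' hb' using hd
      obtain ⟨s, hs⟩ := (IsLocalization.map_eq_zero_iff Qx.primeCompl Bl _).mp (show α (∑ i, b' i * red (R := R) κ n (G i)) = 0 by
        rw [map_sum]
        have : ∀ i, α (b' i * red (R := R) κ n (G i)) = α d * (b i * α (red (R := R) κ n (G i))) := fun i => by
          rw [map_mul, show α (b' i) = α d * b i from (hb' i).trans (Algebra.smul_def _ _), mul_assoc]
        simp only [this, ← Finset.mul_sum, show (∑ i, b i * α (red (R := R) κ n (G i))) = 0 from hb, mul_zero])
      have h1 := KoszulLib.trivRel_map ω.toRingHom (KoszulLib.h1_iff.mp hH'' (fun i => ν ((s : MvPolynomial (Fin n) κ) * b' i)) (by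
        simp only [← map_mul, ← map_sum, mul_assoc, ← Finset.mul_sum, hs, map_zero]))
      have he : ∀ y, ω (ν y) = α y := fun y => DFunLike.congr_fun hων y
      rw [show (ω.toRingHom ∘ fun i => ν (red (R := R) κ n (G i))) = fun i => α (red (R := R) κ n (G i)) from
        funext fun i => he _] at h1
      have h2 : (ω.toRingHom ∘ fun i => ν ((s : MvPolynomial (Fin n) κ) * b' i)) = α ((s * d : Qx.primeCompl) : MvPolynomial (Fin n) κ) • b := by
        funext i
        show ω (ν _) = _
        rw [he, map_mul, Pi.smul_apply, smul_eq_mul, Submonoid.coe_mul, map_mul,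
          show α (b' i) = α d * b i from (hb' i).trans (Algebra.smul_def _ _), mul_assoc]
      rw [h2] at h1
      obtain ⟨u, hu⟩ := IsLocalization.map_units Bl (s * d)
      have := Submodule.smul_mem _ (↑u⁻¹ : Bl) h1
      rwa [← hu, smul_smul, Units.inv_mul, one_smul] at this
  -- the fibre of the smooth algebra
  haveI : Algebra.Smooth κ (p.Fiber P) := inferInstanceAs (Algebra.Smooth κ (κ ⊗[R] P))
  haveI := RegLocus.isRegularRing_of_smooth κ (p.Fiber P)
  let T₀ := Localization.AtPrime Q₀
  haveI : IsRegularLocalRing T₀ := IsRegularRing.isRegularLocalRing_localization _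
  haveI : Algebra.EssFiniteType (p.Fiber P) T₀ := Algebra.EssFiniteType.of_isLocalization _ Q₀.primeCompl
  haveI : Algebra.EssFiniteType κ T₀ := Algebra.EssFiniteType.comp κ (p.Fiber P) T₀
  haveI : Algebra.EssFiniteType (p.Fiber B) (Localization.AtPrime Q) :=
    Algebra.EssFiniteType.of_isLocalization _ Q.primeCompl
  haveI : Algebra.EssFiniteType κ (Localization.AtPrime Q) := Algebra.EssFiniteType.comp κ (p.Fiber B) _
  obtain ⟨ψB, hψB, hψBk, -⟩ := exists_local_quot β hβ Q
  obtain ⟨rs, hrsreg, hrsker⟩ := (isCIOver_iff_forall (Localization.AtPrime Q)).mp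
    (isCIOver_of_isLCIOver (h.2.2 ⟨p, inferInstance⟩) Q) T₀ inferInstance ψB hψB
  -- from the presentation to the fibre of the smooth algebra
  obtain ⟨ρ, hρ, hρk, hρx⟩ : ∃ ρ : Bl →+* T₀, Function.Surjective ρ ∧
      RingHom.ker ρ = Ideal.span (Set.range fun i => α (red (R := R) κ n (G i))) ∧
      ∀ x, ρ (α x) = algebraMap (p.Fiber P) T₀ (π x) := by
    obtain ⟨ρ, hρ, hρk, hρx⟩ := exists_local_quot π hπ Q₀
    let e : Bl ≃+* Localization.AtPrime (Q₀.comap π.toRingHom) :=
      IsLocalization.ringEquivOfRingEquiv Bl (Localization.AtPrime (Q₀.comap π.toRingHom)) (RingEquiv.refl _)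
        (show Submonoid.map (MonoidHom.id _) Qx.primeCompl = (Q₀.comap π.toRingHom).primeCompl from (Submonoid.map_id _).trans (Submonoid.ext fun z => not_congr (SetLike.ext_iff.mp hQx z)))
    have he : ∀ x, e (α x) = algebraMap _ _ x := fun x => IsLocalization.ringEquivOfRingEquiv_eq _ x
    refine ⟨ρ.toRingHom.comp e.toRingHom, hρ.comp e.surjective, ?_, fun x => by
      show ρ (e (α x)) = _
      rw [he, hρx]⟩
    rw [← RingHom.comap_ker, hρk, ← hGker]
    have hmap : ((RingHom.ker π.toRingHom).map α).map e.toRingHom =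
        (RingHom.ker π.toRingHom).map (algebraMap _ (Localization.AtPrime (Q₀.comap π.toRingHom))) := by
      rw [Ideal.map_map]
      exact congrArg (fun w => Ideal.map w _) (RingHom.ext he)
    rw [← hmap]
    exact Ideal.comap_map_of_bijective _ e.bijective
  -- lifting the equations
  have hlift : ∀ i : Fin rs.length, ∃ f : P, φ f = 0 ∧ ∃ u : T₀, IsUnit u ∧
      algebraMap (p.Fiber P) T₀ ((1 : κ) ⊗ₜ[R] f) = u * rs.get i := by
    intro i
    have h1 : rs.get i ∈ (RingHom.ker β.toRingHom).map (algebraMap _ T₀) := by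
      rw [← hψBk, hrsker]; exact Ideal.subset_span (List.get_mem rs i)
    obtain ⟨⟨⟨y, hy⟩, s⟩, hys⟩ := (IsLocalization.mem_map_algebraMap_iff Q₀.primeCompl T₀).mp h1
    have hy' : y ∈ (RingHom.ker φ).map (Algebra.TensorProduct.includeRight : P →ₐ[R] κ ⊗[R] P) :=
      le_of_eq (Algebra.TensorProduct.lTensor_ker (A := κ) φ hφ) hy
    obtain ⟨r, hr, f, hfk, hrf⟩ : ∃ r ∉ p, ∃ f : P, φ f = 0 ∧ r • y = ((1 : κ) ⊗ₜ[R] f : p.Fiber P) := by
      clear hys
      revert hy'
      generalize y = y₀
      intro hy'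
      induction hy' using Submodule.span_induction with
      | mem z hz =>
        obtain ⟨f, hf, rfl⟩ := hz
        exact ⟨1, p.one_notMem, f, hf, one_smul _ _⟩
      | zero => exact ⟨1, p.one_notMem, 0, map_zero φ, by rw [smul_zero, TensorProduct.tmul_zero]⟩
      | add z z' _ _ hz hz' =>
        obtain ⟨r, hr, f, hf, hrf⟩ := hz
        obtain ⟨r', hr', f', hf', hrf'⟩ := hz'
        refine ⟨r * r', fun hh => (Ideal.IsPrime.mem_or_mem inferInstance hh).elim hr hr', r' • f + r • f',
          by rw [map_add, map_smul, map_smul, hf, hf', smul_zero, smul_zero, add_zero], ?_⟩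
        rw [TensorProduct.tmul_add, TensorProduct.tmul_smul, TensorProduct.tmul_smul, ← hrf, ← hrf', smul_add,
          smul_smul, smul_smul, mul_comm r' r]
      | smul c z _ hz =>
        obtain ⟨r, hr, f, hf, hrf⟩ := hz
        obtain ⟨r', hr', t, ht⟩ := Ideal.Fiber.exists_smul_eq_one_tmul p c
        refine ⟨r' * r, fun hh => (Ideal.IsPrime.mem_or_mem inferInstance hh).elim hr' hr, t * f,
          by rw [map_mul, hf, mul_zero], ?_⟩
        rw [smul_eq_mul, mul_smul, ← mul_smul_comm, ← smul_mul_assoc, ht, hrf, Algebra.TensorProduct.tmul_mul_tmul,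
          mul_one]
    have hu0 : IsUnit (algebraMap R T₀ r) := by
      rw [IsScalarTower.algebraMap_apply R κ T₀]
      exact (isUnit_iff_ne_zero.mpr fun hh => hr (Ideal.algebraMap_residueField_eq_zero.mp hh)).map _
    refine ⟨f, hfk, algebraMap R T₀ r * algebraMap (p.Fiber P) T₀ s, hu0.mul (IsLocalization.map_units T₀ s), ?_⟩
    rw [← hrf, Algebra.smul_def, map_mul, ← IsScalarTower.algebraMap_apply R (p.Fiber P) T₀,
      show algebraMap (p.Fiber P) T₀ y = rs.get i * algebraMap (p.Fiber P) T₀ s from hys.symm]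
    ring
  choose f hf u hu hfu using hlift
  choose f' hf' using fun i => hχ (f i)
  let F : Fin (c₀ + rs.length) → X := Fin.append G f'
  have hFI : ∀ i, F i ∈ RingHom.ker ψ.toRingHom := fun i => by
    induction i using Fin.addCases with
    | left i =>
      show φ (χ (F _)) = 0
      simp only [F, Fin.append_left, hG₁, map_zero]
    | right i =>
      show φ (χ (F _)) = 0
      simp only [F, Fin.append_right, hf', hf]
  have hρf : ∀ i, ρ (α (red (R := R) κ n (f' i))) = u i * rs.get i := fun i => by
    rw [hρx, show π (red (R := R) κ n (f' i)) = (1 : κ) ⊗ₜ[R] χ (f' i) from fibrePresOf_map χ _, hf', hfu]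
  have hlist : (List.ofFn fun i => α (red (R := R) κ n (F i))) =
      (List.ofFn fun i => α (red (R := R) κ n (G i))) ++ List.ofFn fun i => α (red (R := R) κ n (f' i)) := by
    rw [← List.ofFn_fin_append]
    congr 1
    funext i
    induction i using Fin.addCases <;> simp [F]
  have hrange : Set.range (fun i => α (red (R := R) κ n (F i))) =
      Set.range (fun i => α (red (R := R) κ n (G i))) ∪ Set.range (fun i => α (red (R := R) κ n (f' i))) := by
    ext y
    constructor
    · rintro ⟨i, rfl⟩
      induction i using Fin.addCases with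
      | left i => exact Or.inl ⟨i, by simp [F]⟩
      | right i => exact Or.inr ⟨i, by simp [F]⟩
    · rintro (⟨i, rfl⟩ | ⟨i, rfl⟩)
      · exact ⟨Fin.castAdd _ i, by simp [F]⟩
      · exact ⟨Fin.natAdd _ i, by simp [F]⟩
  have hspanf : Ideal.span (Set.range fun i => ρ (α (red (R := R) κ n (f' i)))) = Ideal.ofList rs := by
    simp only [hρf]
    refine le_antisymm (Ideal.span_le.mpr ?_) (Ideal.span_le.mpr fun y hy => ?_)
    · rintro _ ⟨i, rfl⟩
      exact Ideal.mul_mem_left _ _ (Ideal.subset_span (List.get_mem rs i))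
    · obtain ⟨i, rfl⟩ := List.get_of_mem hy
      exact (Ideal.unit_mul_mem_iff_mem _ (hu i)).mp (Ideal.subset_span ⟨i, rfl⟩)
  have hgen : (RingHom.ker π'.toRingHom).map α = Ideal.span (Set.range fun i => α (red (R := R) κ n (F i))) := by
    have h1 : RingHom.ker π'.toRingHom = (RingHom.ker β.toRingHom).comap π.toRingHom := by
      rw [hcomp]; exact (RingHom.comap_ker β.toRingHom π.toRingHom).symm
    have h2 : ((RingHom.ker π'.toRingHom).map α).map ρ = (Ideal.span (Set.range fun i => α (red (R := R) κ n (F i)))).map ρ := by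
      rw [Ideal.map_map, show ρ.comp α = (algebraMap (p.Fiber P) T₀).comp π.toRingHom from RingHom.ext hρx,
        ← Ideal.map_map, h1, Ideal.map_comap_of_surjective π.toRingHom hπ, ← hψBk, hrsker, ← hspanf, hrange,
        Ideal.span_union, Ideal.map_sup, Ideal.map_span, Ideal.map_span, ← Set.range_comp, ← Set.range_comp]
      refine (sup_eq_right.mpr ?_).symm
      refine Ideal.span_le.mpr ?_
      rintro _ ⟨i, rfl⟩
      rw [SetLike.mem_coe, Function.comp_apply, RingHom.mem_ker.mp (hρk ▸ Ideal.subset_span (Set.mem_range_self i))]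
      exact zero_mem _
    have hle1 : RingHom.ker ρ ≤ (RingHom.ker π'.toRingHom).map α := by
      rw [hρk, ← hGker]
      refine Ideal.map_mono ?_
      rw [h1]
      intro x hx
      rw [Ideal.mem_comap, RingHom.mem_ker.mp hx]
      exact zero_mem _
    have hle2 : RingHom.ker ρ ≤ Ideal.span (Set.range fun i => α (red (R := R) κ n (F i))) := by
      rw [hρk, hrange, Ideal.span_union]; exact le_sup_left
    have h3 := congrArg (Ideal.comap ρ) h2
    rwa [Ideal.comap_map_of_surjective ρ hρ, Ideal.comap_map_of_surjective ρ hρ, ← RingHom.ker_eq_comap_bot,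
      sup_eq_left.mpr hle1, sup_eq_left.mpr hle2] at h3
  have hFw : IsWeaklyRegular Bl (List.ofFn fun i => α (red (R := R) κ n (F i))) := by
    rw [hlist, isWeaklyRegular_append_iff]
    refine ⟨hGw, ?_⟩
    letI := ρ.toAlgebra
    have hk : LinearMap.ker (Algebra.linearMap Bl T₀) =
        Ideal.ofList (List.ofFn fun i => α (red (R := R) κ n (G i))) • (⊤ : Submodule Bl Bl) := by
      rw [smul_eq_mul, Ideal.mul_top, Ideal.ofList]
      refine Eq.trans (show LinearMap.ker (Algebra.linearMap Bl T₀) = RingHom.ker ρ from rfl) (hρk.trans ?_)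
      congr 1
      ext y
      simp [List.mem_ofFn]
    refine (((Submodule.quotEquivOfEq _ _ hk.symm).trans
      (LinearMap.quotKerEquivOfSurjective (Algebra.linearMap Bl T₀) hρ)).isWeaklyRegular_congr _).mpr ?_
    refine (isWeaklyRegular_map_algebraMap_iff T₀ T₀ _).mp ?_
    rw [List.map_ofFn, show (algebraMap Bl T₀ ∘ fun i => α (red (R := R) κ n (f' i))) = fun i => u i * rs.get i from
      funext hρf]
    have hrw : IsWeaklyRegular T₀ (List.ofFn rs.get) := by rw [List.ofFn_get]; exact hrsreg.toIsWeaklyRegular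
    rw [isWeaklyRegular_ofFn_iff] at hrw ⊢
    intro j x hx
    have hset : Ideal.span ((fun i => u i * rs.get i) '' {k | k < j}) = Ideal.span (rs.get '' {k | k < j}) := by
      refine le_antisymm (Ideal.span_le.mpr ?_) (Ideal.span_le.mpr ?_)
      · rintro _ ⟨k, hk, rfl⟩; exact Ideal.mul_mem_left _ _ (Ideal.subset_span ⟨k, hk, rfl⟩)
      · rintro _ ⟨k, hk, rfl⟩
        exact (Ideal.unit_mul_mem_iff_mem _ (hu k)).mp (Ideal.subset_span ⟨k, hk, rfl⟩)
    rw [hset, mul_assoc, Ideal.unit_mul_mem_iff_mem _ (hu j)] at hx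
    rw [hset]
    exact hrw j x hx
  -- spreading out
  have hI : (RingHom.ker ψ.toRingHom).FG := Algebra.FinitePresentation.ker_fG_of_surjective ψ hψ
  haveI : Module.Flat B (Localization.AtPrime q) := IsLocalization.flat _ q.primeCompl
  haveI : Module.Flat R (Localization.AtPrime q) := Module.Flat.trans R B _
  obtain ⟨a, haq, hkill, hregF⟩ := exists_regular_nhd_of_fibre ψ hψ hI p Q q hQc F hFI hgen hFw
  let b := a * a₀
  let g := χ b
  have hgq : φ g ∉ q := fun hh => by
    rw [show φ g = φ (χ a) * φ (χ a₀) by simp [g, b]] at hh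
    exact ((inferInstance : q.IsPrime).mem_or_mem hh).elim haq ha₀
  let W := Localization.Away g
  have hug : IsUnit (algebraMap P W g) := IsLocalization.Away.algebraMap_isUnit g
  have hχF : χ '' Set.range F ⊆ insert 0 (Set.range f) := by
    rintro _ ⟨_, ⟨i, rfl⟩, rfl⟩
    induction i using Fin.addCases with
    | left i => exact Or.inl (by simp [F, hG₁])
    | right i => exact Or.inr ⟨i, by simp [F, hf']⟩
  refine ⟨g, rs.length, f, hgq, le_antisymm ?_ ?_, ?_⟩
  · refine Ideal.map_le_iff_le_comap.mpr fun x hx => ?_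
    rw [Ideal.mem_comap, Set.range_comp, ← Ideal.map_span]
    refine (Ideal.unit_mul_mem_iff_mem _ hug).mp ?_
    rw [← map_mul]
    refine Ideal.mem_map_of_mem _ ?_
    obtain ⟨x', rfl⟩ := hχ x
    have h1 := Ideal.mem_map_of_mem χ.toRingHom (hkill x' hx)
    rw [Ideal.map_span] at h1
    have h2 := Ideal.mul_mem_left _ (χ a₀) (Ideal.span_le.mpr
      (fun y hy => (hχF hy).elim (fun h0 => h0 ▸ zero_mem _) fun hy => Ideal.subset_span hy) h1)
    convert h2 using 1
    simp [g, b]; ring
  · rw [Set.range_comp, ← Ideal.map_span]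
    refine Ideal.map_mono (Ideal.span_le.mpr ?_)
    rintro _ ⟨i, rfl⟩
    exact hf i
  · rw [isWeaklyRegular_ofFn_iff]
    intro j x hx
    obtain ⟨⟨y, s⟩, hy⟩ := IsLocalization.surj (Submonoid.powers g) x
    refine (Ideal.mul_unit_mem_iff_mem _ (IsLocalization.map_units W s)).mp ?_
    rw [hy, Set.image_comp, ← Ideal.map_span, IsLocalization.algebraMap_mem_map_algebraMap_iff (Submonoid.powers g) W]
    have h1 : algebraMap P W (f j * y) ∈ (Ideal.span (f '' {k | k < j})).map (algebraMap P W) := by
      rw [map_mul, ← hy, Ideal.map_span, ← Set.image_comp, ← mul_assoc]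
      exact Ideal.mul_mem_right _ _ hx
    obtain ⟨_, ⟨k, rfl⟩, ht⟩ := (IsLocalization.algebraMap_mem_map_algebraMap_iff (Submonoid.powers g) W _ _).mp h1
    obtain ⟨y', rfl⟩ := hχ y
    let jj : Fin (c₀ + rs.length) := Fin.natAdd c₀ j
    let J : Ideal X := Ideal.span (F '' {k | k < jj})
    have hJmap : J.map χ.toRingHom = Ideal.span (f '' {k | k < j}) := by
      rw [Ideal.map_span]
      refine le_antisymm (Ideal.span_le.mpr ?_) (Ideal.span_le.mpr ?_)
      · rintro _ ⟨_, ⟨i, hi, rfl⟩, rfl⟩
        induction i using Fin.addCases with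
        | left i => simp [F, hG₁]
        | right i =>
          refine Ideal.subset_span ⟨i, ?_, by simp [F, hf']⟩
          simpa [jj] using hi
      · rintro _ ⟨i, hi, rfl⟩
        exact Ideal.subset_span ⟨_, ⟨Fin.natAdd c₀ i, by simpa [jj] using hi, rfl⟩, by simp [F, hf']⟩
    -- lift the relation to the presentation
    have hkerJ : ∀ z ∈ RingHom.ker χ.toRingHom, a₀ * z ∈ J := fun z hz => by
      refine Ideal.span_mono ?_ (hGkill z hz)
      rintro _ ⟨i, rfl⟩
      refine ⟨Fin.castAdd _ i, ?_, by simp [F]⟩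
      show Fin.castAdd rs.length i < Fin.natAdd c₀ j
      rw [Fin.lt_def]; simp; omega
    have hcomapJ : ∀ z, χ z ∈ J.map χ.toRingHom → a₀ * z ∈ J := fun z hz => by
      obtain ⟨w, hw, hwz⟩ := (Ideal.mem_map_iff_of_surjective χ.toRingHom hχ).mp hz
      have := hkerJ (z - w) (by rw [RingHom.mem_ker, map_sub, hwz]; exact sub_self _)
      rw [mul_sub] at this
      simpa using add_mem this (J.mul_mem_left a₀ hw)
    have h2 : F jj * (a₀ * (b ^ k * y')) ∈ J := by
      have h3 : χ (b ^ k * (F jj * y')) ∈ J.map χ.toRingHom := by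
        rw [hJmap, map_mul χ (b ^ k), map_pow, map_mul χ (F jj), show χ (F jj) = f j by simp [F, jj, hf']]
        exact ht
      have := hcomapJ _ h3
      convert this using 1
      ring
    obtain ⟨m, hm⟩ := hregF b (dvd_mul_right a a₀) jj _ h2
    refine ⟨g ^ (m + k + 1), ⟨m + k + 1, rfl⟩, ?_⟩
    rw [← hJmap]
    have h4 := Ideal.mem_map_of_mem χ.toRingHom (J.mul_mem_left a hm)
    convert h4 using 1
    simp [g, b]; ring

end Groth.Agent.SyntLib
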