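import Groth.Agent.SyntLib.Rel
import Groth.Agent.LocalDimBC.Smooth
import Groth.Agent.S0402

/-!
# Spreading out relative complete intersections
-/

set_option autoImplicit false
set_option linter.style.haveILetI false
universe u

open IsLocalRing RingTheory.Sequence MvPolynomial CategoryTheory AlgebraicGeometry
open scoped TensorProduct

namespace Groth.Agent.SyntLib

/-- Points with small fibre dimension. -/
def fibreDimLE (R A : Type u) [CommRing R] [CommRing A] [Algebra R A] (d : ℕ) : Set (PrimeSpectrum A) :=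
  {z | FlatMor.fibreDimAt (Spec.map (CommRingCat.ofHom (algebraMap R A))) z ≤ (d : WithBot ℕ∞)}

theorem isOpen_fibreDimLE (R A : Type u) [CommRing R] [CommRing A] [Algebra R A] [Algebra.FiniteType R A] (d : ℕ) :
    IsOpen (fibreDimLE R A d) := by
  haveI : LocallyOfFiniteType (Spec.map (CommRingCat.ofHom (algebraMap R A))) :=
    (HasRingHomProperty.Spec_iff (P := @LocallyOfFiniteType)).mpr (RingHom.finiteType_algebraMap.mpr inferInstance)
  exact Groth.Agent.S0402.result (Spec.map (CommRingCat.ofHom (algebraMap R A))) d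

theorem fibreDimAt_eq_localDim_aux {R A : Type u} [CommRing R] [CommRing A] [Algebra R A] [Algebra.FiniteType R A]
    (p : Ideal R) [p.IsPrime] (z : Spec (CommRingCat.of (p.ResidueField ⊗[R] A))) :
    FlatMor.fibreDimAt (Spec.map (CommRingCat.ofHom (algebraMap R A)))
        (Spec.map (CommRingCat.ofHom (Algebra.TensorProduct.includeRight : A →ₐ[R] p.ResidueField ⊗[R] A).toRingHom) z) =
      FlatMor.localDim (Spec (CommRingCat.of (p.ResidueField ⊗[R] A))) z := by
  let f := Spec.map (CommRingCat.ofHom (algebraMap R A))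
  haveI : LocallyOfFiniteType f :=
    (HasRingHomProperty.Spec_iff (P := @LocallyOfFiniteType)).mpr (RingHom.finiteType_algebraMap.mpr inferInstance)
  have sq := (isPullback_SpecMap_of_isPushout _ _ _ _ (CommRingCat.isPushout_tensorProduct R p.ResidueField A)).flip
  have h1 := LocalDimBC.fibreDimAt_of_isPullback f _ _ _ sq z
  exact h1.symm.trans (CMChart.fibreDimAt_eq_localDim _ z)

theorem fibreDimAt_eq_localDim {R A : Type u} [CommRing R] [CommRing A] [Algebra R A] [Algebra.FiniteType R A]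
    (p : Ideal R) [p.IsPrime] (z : PrimeSpectrum (p.Fiber A)) :
    FlatMor.fibreDimAt (Spec.map (CommRingCat.ofHom (algebraMap R A)))
        (PrimeSpectrum.comap (Algebra.TensorProduct.includeRight : A →ₐ[R] p.Fiber A).toRingHom z) =
      FlatMor.localDim (PrimeSpectrum (p.Fiber A)) z := fibreDimAt_eq_localDim_aux p z

theorem localDim_le_ringKrullDim {k T : Type u} [Field k] [CommRing T] [Algebra k T] [Algebra.FiniteType k T]
    (z : PrimeSpectrum T) : FlatMor.localDim (PrimeSpectrum T) z ≤ ringKrullDim T := by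
  obtain ⟨⟨P, -, -, h⟩, -⟩ := LocalDimBC.localDim_spec (k := k) z
  exact h.trans (ringKrullDim_le_of_surjective _ Ideal.Quotient.mk_surjective)

section Field

variable {k : Type u} [Field k] {n : ℕ} {T : Type u} [CommRing T] [Algebra k T]

theorem ringKrullDim_quotient_map (φ : MvPolynomial (Fin n) k →ₐ[k] T) (hφ : Function.Surjective φ) (Q : Ideal T) :
    ringKrullDim (T ⧸ Q) = ringKrullDim (MvPolynomial (Fin n) k ⧸ Q.comap φ.toRingHom) := by
  symm
  exact ringKrullDim_eq_of_ringEquiv (RingEquiv.ofBijective (Ideal.quotientMap Q φ.toRingHom le_rfl)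
    ⟨Ideal.quotientMap_injective, Ideal.quotientMap_surjective hφ⟩)

theorem map_mem_minimalPrimes (φ : MvPolynomial (Fin n) k →ₐ[k] T) (hφ : Function.Surjective φ)
    {P : Ideal (MvPolynomial (Fin n) k)} (hP : P ∈ (RingHom.ker φ.toRingHom).minimalPrimes) :
    P.map φ.toRingHom ∈ minimalPrimes T ∧ (P.map φ.toRingHom).comap φ.toRingHom = P := by
  haveI := hP.1.1
  have hc : (P.map φ.toRingHom).comap φ.toRingHom = P := by
    rw [Ideal.comap_map_of_surjective φ.toRingHom hφ, ← RingHom.ker_eq_comap_bot, sup_eq_left.mpr hP.1.2]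
  haveI : (P.map φ.toRingHom).IsPrime := Ideal.map_isPrime_of_surjective hφ hP.1.2
  refine ⟨⟨⟨inferInstance, bot_le⟩, fun J hJ hJP => ?_⟩, hc⟩
  haveI := hJ.1
  have h1 : J.comap φ.toRingHom ≤ P := hc ▸ Ideal.comap_mono hJP
  refine Ideal.map_le_iff_le_comap.mpr (hP.2 ⟨inferInstance, fun x hx => ?_⟩ h1)
  show φ.toRingHom x ∈ J
  rw [show φ.toRingHom x = 0 from hx]
  exact J.zero_mem

/-- A bound on the local dimension bounds the codimension of the components. -/
theorem le_height_of_localDim_le [Algebra.FiniteType k T] {c : ℕ} (hcn : c ≤ n) (φ : MvPolynomial (Fin n) k →ₐ[k] T)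
    (hφ : Function.Surjective φ) {P : Ideal (MvPolynomial (Fin n) k)} [P.IsPrime]
    (hP : P ∈ (RingHom.ker φ.toRingHom).minimalPrimes) (z : PrimeSpectrum T) (hz : P.map φ.toRingHom ≤ z.asIdeal)
    (h : FlatMor.localDim (PrimeSpectrum T) z ≤ ((n - c : ℕ) : WithBot ℕ∞)) : (c : ℕ∞) ≤ P.height := by
  obtain ⟨hmin, hc⟩ := map_mem_minimalPrimes φ hφ hP
  have h1 := ((LocalDimBC.localDim_spec (k := k) z).2 _ hmin hz).trans h
  rw [ringKrullDim_quotient_map φ hφ, hc] at h1
  obtain ⟨a, b, ha, hb, hab⟩ := height_add_dim_poly P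
  rw [hb, Nat.cast_le] at h1
  rw [ha, Nat.cast_le]
  omega

/-- Codimensions of components bound the local dimension. -/
theorem localDim_le_of_height [Algebra.FiniteType k T] {c : ℕ} (φ : MvPolynomial (Fin n) k →ₐ[k] T)
    (hφ : Function.Surjective φ) (z : PrimeSpectrum T)
    (h : ∀ P ∈ (RingHom.ker φ.toRingHom).minimalPrimes, P ≤ z.asIdeal.comap φ.toRingHom → (c : ℕ∞) ≤ P.height) :
    c ≤ n ∧ FlatMor.localDim (PrimeSpectrum T) z ≤ ((n - c : ℕ) : WithBot ℕ∞) := by
  obtain ⟨⟨Q, hQ, hQz, hle⟩, -⟩ := LocalDimBC.localDim_spec (k := k) z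
  haveI := hQ.1.1
  have hmin : Q.comap φ.toRingHom ∈ (RingHom.ker φ.toRingHom).minimalPrimes := by
    refine ⟨⟨inferInstance, Ideal.comap_mono bot_le⟩, fun J hJ hJQ => ?_⟩
    haveI := hJ.1
    haveI : (J.map φ.toRingHom).IsPrime := Ideal.map_isPrime_of_surjective hφ hJ.2
    have h2 := Ideal.comap_mono (f := φ.toRingHom) (hQ.2 ⟨this, bot_le⟩ (Ideal.map_le_iff_le_comap.mpr hJQ))
    rwa [Ideal.comap_map_of_surjective φ.toRingHom hφ, ← RingHom.ker_eq_comap_bot, sup_eq_left.mpr hJ.2] at h2
  obtain ⟨a, b, ha, hb, hab⟩ := height_add_dim_poly (Q.comap φ.toRingHom)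
  have h1 := h _ hmin (Ideal.comap_mono hQz)
  rw [ha, Nat.cast_le] at h1
  rw [ringKrullDim_quotient_map φ hφ, hb] at hle
  exact ⟨by omega, hle.trans (by exact_mod_cast (show b ≤ n - c by omega))⟩

/-- The dimension of a ring presented as a principal localisation. -/
theorem dim_of_snoc {T' : Type u} [CommRing T'] [Algebra k T'] [Nontrivial T'] {c : ℕ}
    (φ : MvPolynomial (Fin (n + 1)) k →ₐ[k] T') (hφ : Function.Surjective φ)
    (f : Fin c → MvPolynomial (Fin n) k) (g : MvPolynomial (Fin n) k)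
    (hker : RingHom.ker φ.toRingHom = Ideal.span (Set.range
      (Fin.snoc (fun i => rename Fin.castSucc (f i)) (rename Fin.castSucc g * X (Fin.last n) - 1) :
        Fin (c + 1) → MvPolynomial (Fin (n + 1)) k)))
    (hmin : ∀ P ∈ (Ideal.span (Set.range f)).minimalPrimes, g ∉ P → (c : ℕ∞) ≤ P.height) :
    c ≤ n ∧ ringKrullDim T' = ((n - c : ℕ) : WithBot ℕ∞) := by
  let I := Ideal.span (Set.range f)
  have hk : RingHom.ker φ.toRingHom = RingHom.ker (awayPres I g).toRingHom := by
    rw [hker, ker_awayPres, awayIdeal_span]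
  let e : T' ≃+* Localization.Away (Ideal.Quotient.mk I g) :=
    ((RingHom.quotientKerEquivOfSurjective (f := φ.toRingHom) hφ).symm.trans
      (Ideal.quotEquivOfEq hk)).trans (RingHom.quotientKerEquivOfSurjective (f := (awayPres I g).toRingHom) (awayPres_surjective I g))
  haveI : Nontrivial (Localization.Away (Ideal.Quotient.mk I g)) := e.injective.nontrivial
  obtain ⟨hcn, -, hdim⟩ := dim_away_of_components f I g le_rfl (fun i hi => ⟨0, by simpa using hi⟩) hmin
  exact ⟨hcn, by rw [ringKrullDim_eq_of_ringEquiv e, hdim]⟩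

end Field

/-- The presentation of the fibre of a presented algebra. -/
noncomputable def fibrePresOf {R : Type u} [CommRing R] (κ : Type u) [CommRing κ] [Algebra R κ] {n : ℕ} {S : Type u}
    [CommRing S] [Algebra R S] (φ : MvPolynomial (Fin n) R →ₐ[R] S) : MvPolynomial (Fin n) κ →ₐ[κ] κ ⊗[R] S :=
  (Algebra.TensorProduct.map (AlgHom.id κ κ) φ).comp (MvPolynomial.algebraTensorAlgEquiv R κ).symm.toAlgHom

theorem fibrePresOf_map {R : Type u} [CommRing R] {κ : Type u} [CommRing κ] [Algebra R κ] {n : ℕ} {S : Type u}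
    [CommRing S] [Algebra R S] (φ : MvPolynomial (Fin n) R →ₐ[R] S) (x : MvPolynomial (Fin n) R) :
    fibrePresOf κ φ (red κ n x) = (1 : κ) ⊗ₜ[R] φ x := by
  simp [fibrePresOf, red]

theorem fibrePresOf_surjective {R : Type u} [CommRing R] (κ : Type u) [CommRing κ] [Algebra R κ] {n : ℕ} {S : Type u}
    [CommRing S] [Algebra R S] (φ : MvPolynomial (Fin n) R →ₐ[R] S) (hφ : Function.Surjective φ) :
    Function.Surjective (fibrePresOf κ φ) := by
  have h : Function.Surjective (Algebra.TensorProduct.map (AlgHom.id κ κ) φ) :=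
    LinearMap.lTensor_surjective κ (g := φ.toLinearMap) hφ
  exact h.comp (MvPolynomial.algebraTensorAlgEquiv R κ).symm.surjective

theorem ker_fibrePresOf {R : Type u} [CommRing R] (κ : Type u) [CommRing κ] [Algebra R κ] {n : ℕ} {S : Type u}
    [CommRing S] [Algebra R S] (φ : MvPolynomial (Fin n) R →ₐ[R] S) (hφ : Function.Surjective φ) :
    RingHom.ker (fibrePresOf κ φ).toRingHom = (RingHom.ker φ.toRingHom).map (red κ n) := by
  let e := MvPolynomial.algebraTensorAlgEquiv (σ := Fin n) R κ
  have hk : RingHom.ker (Algebra.TensorProduct.map (AlgHom.id κ κ) φ).toRingHom =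
      (RingHom.ker φ.toRingHom).map (Algebra.TensorProduct.includeRight (R := R) (A := κ) (B := MvPolynomial (Fin n) R)).toRingHom := by
    refine (Algebra.TensorProduct.lTensor_ker (A := κ) φ hφ).trans ?_
    rfl
  have h1 : RingHom.ker (fibrePresOf κ φ).toRingHom =
      (RingHom.ker (Algebra.TensorProduct.map (AlgHom.id κ κ) φ).toRingHom).comap e.symm.toRingEquiv.toRingHom := rfl
  have h2 : ∀ K : Ideal (κ ⊗[R] MvPolynomial (Fin n) R),
      K.comap e.symm.toRingEquiv.toRingHom = K.map e.toRingEquiv.toRingHom := fun K =>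
    Ideal.comap_symm e.toRingEquiv
  rw [h1, hk, h2, Ideal.map_map]
  congr 1
  refine RingHom.ext fun x => ?_
  show e ((1 : κ) ⊗ₜ[R] x) = _
  simp [e, red]

variable {R : Type u} [CommRing R] {n c : ℕ}

/-- The presentation of a principal localisation. -/
noncomputable def snocPres (F : Fin c → MvPolynomial (Fin n) R) (h : MvPolynomial (Fin n) R) :
    Fin (c + 1) → MvPolynomial (Fin (n + 1)) R :=
  Fin.snoc (fun i => rename Fin.castSucc (F i)) (rename Fin.castSucc h * X (Fin.last n) - 1)

noncomputable def snocEquiv (F : Fin c → MvPolynomial (Fin n) R) (h : MvPolynomial (Fin n) R) :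
    Localization.Away (Ideal.Quotient.mk (Ideal.span (Set.range F)) h) ≃ₐ[R]
      Synt.RelGCIRing R (n + 1) (c + 1) (snocPres F h) :=
  (awayEquiv (Ideal.span (Set.range F)) h).trans (Ideal.quotientEquivAlgOfEq R (awayIdeal_span F h))

/-- Components of the fibres meeting the good locus. -/
theorem le_height_of_fibreDim {S : Type u} [CommRing S] [Algebra R S] [Algebra.FiniteType R S]
    (φ : MvPolynomial (Fin n) R →ₐ[R] S) (hφ : Function.Surjective φ) (hcn : c ≤ n) (h : MvPolynomial (Fin n) R)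
    (hW : ∀ z : PrimeSpectrum S, φ h ∉ z.asIdeal → z ∈ fibreDimLE R S (n - c)) (p : Ideal R) [p.IsPrime]
    (P : Ideal (MvPolynomial (Fin n) p.ResidueField))
    (hP : P ∈ ((RingHom.ker φ.toRingHom).map (red (R := R) p.ResidueField n)).minimalPrimes)
    (hgP : red (R := R) p.ResidueField n h ∉ P) : (c : ℕ∞) ≤ P.height := by
  haveI := hP.1.1
  have hs := fibrePresOf_surjective p.ResidueField φ hφ
  rw [← ker_fibrePresOf _ φ hφ] at hP
  obtain ⟨hmin, hc⟩ := map_mem_minimalPrimes (fibrePresOf p.ResidueField φ) hs hP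
  haveI := hmin.1.1
  let z : PrimeSpectrum (p.Fiber S) := ⟨P.map (fibrePresOf p.ResidueField φ).toRingHom, inferInstance⟩
  refine le_height_of_localDim_le (T := p.Fiber S) hcn (fibrePresOf p.ResidueField φ) hs hP z le_rfl ?_
  rw [← fibreDimAt_eq_localDim p z]
  refine hW (PrimeSpectrum.comap (Algebra.TensorProduct.includeRight : S →ₐ[R] p.Fiber S).toRingHom z) fun hmem => hgP ?_
  rw [← hc, Ideal.mem_comap]
  show fibrePresOf p.ResidueField φ (red (R := R) p.ResidueField n h) ∈ z.asIdeal
  rw [fibrePresOf_map]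
  exact hmem

/-- Away from the big fibres we have a relative complete intersection. -/
theorem isRelGCI_snoc (hcn : c ≤ n) (F : Fin c → MvPolynomial (Fin n) R) (h : MvPolynomial (Fin n) R)
    (hW : ∀ z : PrimeSpectrum (Synt.RelGCIRing R n c F), Ideal.Quotient.mk (Ideal.span (Set.range F)) h ∉ z.asIdeal →
      z ∈ fibreDimLE R (Synt.RelGCIRing R n c F) (n - c)) :
    Synt.IsRelGCI R (n + 1) (c + 1) (snocPres F h) := by
  intro p hp
  let κ := p.asIdeal.ResidueField
  let f : Fin c → MvPolynomial (Fin n) κ := fun i => red κ n (F i)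
  let I := Ideal.span (Set.range f)
  let g := red κ n h
  have hG : (fun i => red κ (n + 1) (snocPres F h i)) =
      Fin.snoc (fun i => rename Fin.castSucc (f i)) (rename Fin.castSucc g * X (Fin.last n) - 1) := by
    funext i
    induction i using Fin.lastCases with
    | last => simp [snocPres, g, red, map_rename]
    | cast i => simp [snocPres, f, red, map_rename]
  haveI := hp
  have hmin : ∀ P ∈ I.minimalPrimes, g ∉ P → (c : ℕ∞) ≤ P.height := by
    intro P hP hgP
    refine le_height_of_fibreDim (Ideal.Quotient.mkₐ R (Ideal.span (Set.range F))) Ideal.Quotient.mk_surjective hcn h hW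
      p.asIdeal P ?_ hgP
    rw [show RingHom.ker (Ideal.Quotient.mkₐ R (Ideal.span (Set.range F))).toRingHom = Ideal.span (Set.range F)
      from Ideal.mk_ker, Ideal.map_span, ← Set.range_comp]
    exact hP
  let φ' : MvPolynomial (Fin (n + 1)) κ →ₐ[κ] p.asIdeal.Fiber (Synt.RelGCIRing R (n + 1) (c + 1) (snocPres F h)) :=
    fibrePres κ (Ideal.span (Set.range (snocPres F h)))
  have hker' : RingHom.ker φ'.toRingHom = Ideal.span (Set.range fun i => red κ (n + 1) (snocPres F h i)) :=
    ker_fibrePres_span κ (snocPres F h)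
  rw [hG] at hker'
  obtain ⟨hcn', hdim⟩ := dim_of_snoc (T' := p.asIdeal.Fiber (Synt.RelGCIRing R (n + 1) (c + 1) (snocPres F h))) φ' (fibrePres_surjective κ _) f g hker' hmin
  refine ⟨by omega, ?_⟩
  rw [hdim, show n + 1 - (c + 1) = n - c by omega]

/-- Points in fibres of small dimension. -/
theorem mem_fibreDimLE_of_dim {S : Type u} [CommRing S] [Algebra R S] [Algebra.FiniteType R S] (d : ℕ)
    (z : PrimeSpectrum S)
    (h : ∀ (p : Ideal R) [p.IsPrime], z.asIdeal.comap (algebraMap R S) = p →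
      ringKrullDim (p.Fiber S) ≤ (d : WithBot ℕ∞)) :
    z ∈ fibreDimLE R S d := by
  let p := z.asIdeal.comap (algebraMap R S)
  let x : (PrimeSpectrum.comap (algebraMap R S)) ⁻¹' {(⟨p, inferInstance⟩ : PrimeSpectrum R)} := ⟨z, rfl⟩
  let w := PrimeSpectrum.preimageEquivFiber R S ⟨p, inferInstance⟩ x
  have hw := congrArg Subtype.val ((PrimeSpectrum.preimageEquivFiber R S ⟨p, inferInstance⟩).symm_apply_apply x)
  have hwz : PrimeSpectrum.comap (Algebra.TensorProduct.includeRight : S →ₐ[R] p.Fiber S).toRingHom w = z := hw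
  show FlatMor.fibreDimAt (Spec.map (CommRingCat.ofHom (algebraMap R S))) z ≤ (d : WithBot ℕ∞)
  rw [← hwz, fibreDimAt_eq_localDim p w]
  exact (localDim_le_ringKrullDim (T := p.Fiber S) (k := p.ResidueField) w).trans (h p rfl)

/-- A point with small fibre dimension from the codimensions of the components through it. -/
theorem exists_point_fibreDimLE {S : Type u} [CommRing S] [Algebra R S] [Algebra.FiniteType R S]
    (φ : MvPolynomial (Fin n) R →ₐ[R] S) (hφ : Function.Surjective φ) (p : Ideal R) [p.IsPrime]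
    (Qx : Ideal (MvPolynomial (Fin n) p.ResidueField)) [Qx.IsPrime]
    (hle : RingHom.ker φ.toRingHom ≤ Qx.comap (red (R := R) p.ResidueField n))
    (h : ∀ P ∈ ((RingHom.ker φ.toRingHom).map (red (R := R) p.ResidueField n)).minimalPrimes, P ≤ Qx → (c : ℕ∞) ≤ P.height) :
    c ≤ n ∧ ∃ z : PrimeSpectrum S, z.asIdeal.comap φ.toRingHom = Qx.comap (red (R := R) p.ResidueField n) ∧
      z ∈ fibreDimLE R S (n - c) := by
  let φF := fibrePresOf p.ResidueField φ
  have hs : Function.Surjective φF := fibrePresOf_surjective _ φ hφ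
  have hkF : RingHom.ker φF.toRingHom = (RingHom.ker φ.toRingHom).map (red (R := R) p.ResidueField n) :=
    ker_fibrePresOf _ φ hφ
  have hle' : RingHom.ker φF.toRingHom ≤ Qx := by rw [hkF, Ideal.map_le_iff_le_comap]; exact hle
  haveI : (Qx.map φF.toRingHom).IsPrime := Ideal.map_isPrime_of_surjective hs hle'
  let w : PrimeSpectrum (p.Fiber S) := ⟨Qx.map φF.toRingHom, inferInstance⟩
  have hw : w.asIdeal.comap φF.toRingHom = Qx := by
    show (Qx.map φF.toRingHom).comap φF.toRingHom = Qx
    rw [Ideal.comap_map_of_surjective φF.toRingHom hs, ← RingHom.ker_eq_comap_bot, sup_eq_left.mpr hle']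
  obtain ⟨hcn, hdim⟩ := localDim_le_of_height (T := p.Fiber S) (c := c) φF hs w fun P hP hPw =>
    h P (hkF ▸ hP) (hw ▸ hPw)
  refine ⟨hcn, PrimeSpectrum.comap (Algebra.TensorProduct.includeRight : S →ₐ[R] p.Fiber S).toRingHom w, ?_, ?_⟩
  · rw [← hw]
    ext x
    show (1 : p.ResidueField) ⊗ₜ[R] φ x ∈ w.asIdeal ↔ φF (red (R := R) p.ResidueField n x) ∈ w.asIdeal
    rw [fibrePresOf_map]
  · show FlatMor.fibreDimAt (Spec.map (CommRingCat.ofHom (algebraMap R S))) _ ≤ _
    rw [fibreDimAt_eq_localDim p w]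
    exact hdim

/-- Local equations at a point where the algebra is flat with complete intersection fibre. -/
theorem exists_local_eqs {S : Type u} [CommRing S] [Algebra R S] (φ : MvPolynomial (Fin n) R →ₐ[R] S)
    (hφ : Function.Surjective φ) (hI : (RingHom.ker φ.toRingHom).FG) (p : Ideal R) [p.IsPrime]
    (Q : Ideal (p.Fiber S)) [Q.IsPrime] (q : Ideal S) [q.IsPrime]
    (hQ : Q.comap (Algebra.TensorProduct.includeRight : S →ₐ[R] p.Fiber S).toRingHom = q)
    [Module.Flat R (Localization.AtPrime q)] (hci : Synt.IsCIOver p.ResidueField (Localization.AtPrime Q)) :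
    ∃ (c : ℕ) (F : Fin c → MvPolynomial (Fin n) R) (g : MvPolynomial (Fin n) R),
      Ideal.span (Set.range F) ≤ RingHom.ker φ.toRingHom ∧ φ g ∉ q ∧
      (∀ i ∈ RingHom.ker φ.toRingHom, g * i ∈ Ideal.span (Set.range F)) ∧
      c ≤ n ∧ ∃ z : PrimeSpectrum (Synt.RelGCIRing R n c F),
        z.asIdeal.comap (Ideal.Quotient.mk (Ideal.span (Set.range F))) = q.comap φ.toRingHom ∧
        z ∈ fibreDimLE R (Synt.RelGCIRing R n c F) (n - c) := by
  let I := RingHom.ker φ.toRingHom
  let φI := fibrePresOf p.ResidueField φ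
  let Qx := Q.comap φI.toRingHom
  have hQx : Qx.comap (red (R := R) p.ResidueField n) = q.comap φ.toRingHom := by
    rw [← hQ]
    ext x
    show φI (red (R := R) p.ResidueField n x) ∈ Q ↔ _
    rw [fibrePresOf_map]
    rfl
  obtain ⟨rs, hreg, hrs⟩ := (isCIOver_atPrime_iff φI (fibrePresOf_surjective _ φ hφ) Q).mp hci
  rw [ker_fibrePresOf _ φ hφ] at hrs
  let A := Localization.AtPrime (Qx.comap (red (R := R) p.ResidueField n))
  let B := Localization.AtPrime Qx
  obtain ⟨ψ, hψ, hker, hψx⟩ := exists_fibre_local p Qx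
  let IA := I.map (algebraMap (MvPolynomial (Fin n) R) A)
  have hψI : IA.map ψ = Ideal.ofList rs := by
    rw [← hrs, Ideal.map_map, Ideal.map_map]
    congr 1
    exact RingHom.ext hψx
  -- lifting the equations
  have hlift : ∀ i : Fin rs.length, ∃ (a : MvPolynomial (Fin n) R) (u y : A), a ∈ I ∧ IsUnit u ∧
      algebraMap _ A a = u * y ∧ ψ y = rs.get i := by
    intro i
    obtain ⟨y, hy, hyi⟩ := (Ideal.mem_map_iff_of_surjective ψ hψ).mp (hψI ▸ Ideal.subset_span (List.get_mem rs i) : rs.get i ∈ IA.map ψ)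
    obtain ⟨⟨⟨a, ha⟩, s⟩, hs⟩ := (IsLocalization.mem_map_algebraMap_iff (Qx.comap (red (R := R) p.ResidueField n)).primeCompl A).mp hy
    exact ⟨a, algebraMap (MvPolynomial (Fin n) R) A s, y, ha, IsLocalization.map_units A s,
      by rw [mul_comm]; exact hs.symm, hyi⟩
  choose F u y hFI hu hFy hyi using hlift
  have hFle : Ideal.span (Set.range F) ≤ I := Ideal.span_le.mpr (by rintro _ ⟨i, rfl⟩; exact hFI i)
  let JA := (Ideal.span (Set.range F)).map (algebraMap (MvPolynomial (Fin n) R) A)
  have hJψ : JA.map ψ = Ideal.ofList rs := by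
    refine le_antisymm (hψI ▸ Ideal.map_mono (Ideal.map_mono hFle)) (Ideal.span_le.mpr fun x hx => ?_)
    obtain ⟨i, rfl⟩ := List.get_of_mem hx
    rw [SetLike.mem_coe, ← hyi i]
    refine Ideal.mem_map_of_mem _ ((Ideal.unit_mul_mem_iff_mem _ (hu i)).mp ?_)
    rw [← hFy i]
    exact Ideal.mem_map_of_mem _ (Ideal.subset_span (Set.mem_range_self i))
  -- flatness of the quotient
  haveI hflat : Module.Flat R (A ⧸ IA) := by
    obtain ⟨χ, hχ, hkχ, -⟩ := exists_local_quot (R := R) φ hφ q
    let A' := Localization.AtPrime (q.comap φ.toRingHom)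
    haveI : Module.Flat R (A' ⧸ I.map (algebraMap (MvPolynomial (Fin n) R) A')) := by
      have heq : I.map (algebraMap (MvPolynomial (Fin n) R) A') = RingHom.ker χ.toRingHom := hkχ.symm
      exact Module.Flat.of_linearEquiv
        ((Ideal.quotientEquivAlgOfEq R heq).trans (Ideal.quotientKerAlgEquivOfSurjective hχ)).toLinearEquiv
    have key : ∀ (P₁ P₂ : Ideal (MvPolynomial (Fin n) R)) (_ : P₁.IsPrime) (_ : P₂.IsPrime), P₁ = P₂ →
        Module.Flat R (Localization.AtPrime P₂ ⧸ I.map (algebraMap (MvPolynomial (Fin n) R) (Localization.AtPrime P₂))) →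
        Module.Flat R (Localization.AtPrime P₁ ⧸ I.map (algebraMap (MvPolynomial (Fin n) R) (Localization.AtPrime P₁))) := by
      intro P₁ P₂ h₁ h₂ heq hf
      subst heq
      exact hf
    exact key _ _ inferInstance inferInstance hQx ‹_›
  -- Nakayama
  have hIJ : IA ≤ JA := by
    refine Submodule.le_of_le_smul_of_le_jacobson_bot (I := maximalIdeal A) (hI.map _)
      (IsLocalRing.jacobson_eq_maximalIdeal ⊥ bot_ne_top).ge fun x hx => ?_
    have h1 : x ∈ (JA.map ψ).comap ψ := by
      rw [Ideal.mem_comap, hJψ, ← hψI]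
      exact Ideal.mem_map_of_mem _ hx
    rw [Ideal.comap_map_of_surjective ψ hψ, ← RingHom.ker_eq_comap_bot, hker] at h1
    obtain ⟨j, hj, k, hk, rfl⟩ := Submodule.mem_sup.mp h1
    refine Submodule.add_mem_sup hj ?_
    have hkI : k ∈ IA := (Submodule.add_mem_iff_right IA (Ideal.map_mono hFle hj)).mp hx
    have hkp : k ∈ p • (⊤ : Submodule R A) := (InjFibre.mem_smul_top_iff p k).mp (by
      rw [smul_eq_mul, Ideal.mul_top]; exact hk)
    have hex : Function.Exact ((Submodule.subtype IA).restrictScalars R) (Ideal.Quotient.mkₐ R IA).toLinearMap := by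
      intro a
      constructor
      · intro ha
        exact ⟨⟨a, Ideal.Quotient.eq_zero_iff_mem.mp ha⟩, rfl⟩
      · rintro ⟨b, rfl⟩
        exact Ideal.Quotient.eq_zero_iff_mem.mpr b.2
    have h2 := LocalCrit.mem_smul_of_map_mem_of_mulMap_injective ((Submodule.subtype IA).restrictScalars R)
      Subtype.val_injective (Ideal.Quotient.mkₐ R IA).toLinearMap Ideal.Quotient.mk_surjective hex p
      (LocalCrit.mulMap_injective p) (x := (⟨k, hkI⟩ : IA)) hkp
    have h3 := (Submodule.mem_smul_top_iff (p.map (algebraMap R A)) IA ⟨k, hkI⟩).mp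
      ((InjFibre.mem_smul_top_iff (B := A) p (⟨k, hkI⟩ : IA)).mpr h2)
    refine Submodule.smul_mono_left ?_ h3
    refine Ideal.map_le_iff_le_comap.mpr fun r hr => ?_
    rw [Ideal.mem_comap]
    refine le_maximalIdeal (RingHom.ker_ne_top ψ) ?_
    rw [hker]
    exact Ideal.mem_map_of_mem _ hr
  obtain ⟨g, hg, hgI⟩ := exists_mul_mem (Qx.comap (red (R := R) p.ResidueField n)) hI hIJ
  -- the fibre dimension
  haveI : IsNoetherianRing B := IsLocalization.isNoetherianRing Qx.primeCompl B inferInstance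
  have hkmk : RingHom.ker (Ideal.Quotient.mkₐ R (Ideal.span (Set.range F))).toRingHom = Ideal.span (Set.range F) :=
    Ideal.mk_ker
  obtain ⟨hcn, z, hz, hzd⟩ := exists_point_fibreDimLE (c := rs.length) (Ideal.Quotient.mkₐ R (Ideal.span (Set.range F)))
    Ideal.Quotient.mk_surjective p Qx
    (by
      rw [hkmk, hQx]
      intro x hx
      rw [Ideal.mem_comap, show φ.toRingHom x = 0 from hFle hx]
      exact q.zero_mem)
    fun P hP hPw => by
      haveI := hP.1.1
      rw [hkmk] at hP
      have hd : Disjoint (Qx.primeCompl : Set (MvPolynomial (Fin n) p.ResidueField)) (P : Set _) :=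
        Set.disjoint_left.mpr fun x hx hxP => hx (hPw hxP)
      haveI := IsLocalization.isPrime_of_isPrime_disjoint Qx.primeCompl B P inferInstance hd
      have h1 := Catenary.length_le_height hreg.toIsWeaklyRegular (P.map (algebraMap _ B)) fun x hx => by
        have h2 : x ∈ ((Ideal.span (Set.range F)).map (red (R := R) p.ResidueField n)).map (algebraMap _ B) := by
          have h3 : x ∈ JA.map ψ := hJψ ▸ Ideal.subset_span hx
          rw [Ideal.map_map]
          rw [Ideal.map_map] at h3
          rwa [show (algebraMap _ B).comp (red (R := R) p.ResidueField n) = ψ.comp (algebraMap (MvPolynomial (Fin n) R) A) from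
            (RingHom.ext hψx).symm]
        exact Ideal.map_mono hP.1.2 h2
      refine h1.trans (le_of_eq ?_)
      rw [← IsLocalization.height_under Qx.primeCompl (P.map (algebraMap _ B))]
      exact congrArg _ (IsLocalization.under_map_of_isPrime_disjoint Qx.primeCompl B inferInstance hd)
  refine ⟨rs.length, F, g, hFle, fun hgq => hg (hQx.symm ▸ hgq), hgI, hcn, z, ?_, hzd⟩
  rw [← hQx, ← hz]
  rfl

end Groth.Agent.SyntLib
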