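import Groth.Agent.SyntLib.Open

/-!
# Criteria for syntomic algebras
-/

set_option autoImplicit false
set_option linter.style.haveILetI false
universe u

open IsLocalRing RingTheory.Sequence MvPolynomial
open scoped TensorProduct

namespace Groth.Agent.SyntLib

theorem isRelGCI_of_subsingleton {R : Type u} [CommRing R] {n c : ℕ} (F : Fin c → MvPolynomial (Fin n) R)
    [Subsingleton (Synt.RelGCIRing R n c F)] : Synt.IsRelGCI R n c F := fun p hp =>
  absurd hp (not_nontrivial_iff_subsingleton.mpr (subsingleton_of_forall_eq 0 fun x => by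
    induction x using TensorProduct.induction_on with
    | zero => rfl
    | tmul a b => rw [Subsingleton.elim b 0, TensorProduct.tmul_zero]
    | add x y hx hy => rw [hx, hy, add_zero]))

theorem exists_fiber_prime {R S : Type u} [CommRing R] [CommRing S] [Algebra R S] (p : Ideal R) [p.IsPrime]
    (q : Ideal S) [q.IsPrime] (hqp : q.comap (algebraMap R S) = p) :
    ∃ Q : Ideal (p.Fiber S), Q.IsPrime ∧
      Q.comap (Algebra.TensorProduct.includeRight : S →ₐ[R] p.Fiber S).toRingHom = q := by
  let x : (PrimeSpectrum.comap (algebraMap R S)) ⁻¹' {(⟨p, inferInstance⟩ : PrimeSpectrum R)} :=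
    ⟨⟨q, inferInstance⟩, PrimeSpectrum.ext hqp⟩
  refine ⟨(PrimeSpectrum.preimageEquivFiber R S ⟨p, inferInstance⟩ x).asIdeal, inferInstance, ?_⟩
  exact congrArg (fun w => (w.1.asIdeal : Ideal S))
    ((PrimeSpectrum.preimageEquivFiber R S ⟨p, inferInstance⟩).symm_apply_apply x)

theorem comap_fiber_prime {R S : Type u} [CommRing R] [CommRing S] [Algebra R S] (p : Ideal R) [p.IsPrime]
    (Q : Ideal (p.Fiber S)) [Q.IsPrime] :
    (Q.comap (Algebra.TensorProduct.includeRight : S →ₐ[R] p.Fiber S).toRingHom).comap (algebraMap R S) = p := by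
  rw [Ideal.comap_comap, AlgHom.toRingHom_eq_coe, AlgHom.comp_algebraMap]
  exact (Ideal.over_def Q p).symm

theorem isCIOver_fibre_congr' {R S T : Type u} [CommRing R] [CommRing S] [CommRing T] [Algebra R S] [Algebra R T]
    (p : Ideal R) [p.IsPrime] (Q : Ideal (p.Fiber S)) [Q.IsPrime] (Q' : Ideal (p.Fiber T)) [Q'.IsPrime]
    (q : Ideal S) [q.IsPrime] (q' : Ideal T) [q'.IsPrime]
    (hQ : Q.comap (Algebra.TensorProduct.includeRight : S →ₐ[R] p.Fiber S).toRingHom = q)
    (hQ' : Q'.comap (Algebra.TensorProduct.includeRight : T →ₐ[R] p.Fiber T).toRingHom = q')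
    (e : Localization.AtPrime q ≃ₐ[R] Localization.AtPrime q')
    (h : Synt.IsCIOver p.ResidueField (Localization.AtPrime Q)) :
    Synt.IsCIOver p.ResidueField (Localization.AtPrime Q') := by
  subst hQ hQ'
  exact isCIOver_fibre_congr p Q Q' e h

/-- A prime of a principal localisation. -/
theorem exists_away_prime {R S : Type u} [CommRing R] [CommRing S] [Algebra R S] (g : S) (q : Ideal S) [q.IsPrime]
    (hg : g ∉ q) :
    ∃ (q' : Ideal (Localization.Away g)) (_ : q'.IsPrime), q'.comap (algebraMap S (Localization.Away g)) = q ∧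
      q'.comap (algebraMap R (Localization.Away g)) = q.comap (algebraMap R S) ∧
      Nonempty (Localization.AtPrime q ≃ₐ[R] Localization.AtPrime q') := by
  have hd : Disjoint ((Submonoid.powers g : Submonoid S) : Set S) (q : Set S) :=
    (Ideal.disjoint_powers_iff_notMem g (Ideal.IsPrime.isRadical inferInstance)).mpr hg
  haveI := IsLocalization.isPrime_of_isPrime_disjoint (Submonoid.powers g) (Localization.Away g) q ‹_› hd
  let q' := q.map (algebraMap S (Localization.Away g))
  have hq : q'.comap (algebraMap S (Localization.Away g)) = q :=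
    IsLocalization.under_map_of_isPrime_disjoint (Submonoid.powers g) (Localization.Away g) ‹_› hd
  haveI := IsLocalization.isLocalization_isLocalization_atPrime_isLocalization (Submonoid.powers g)
    (Localization.AtPrime q') q'
  haveI : IsLocalization q.primeCompl (Localization.AtPrime q') := by
    rw [show q.primeCompl = (q'.comap (algebraMap S (Localization.Away g))).primeCompl from
      Submonoid.ext fun a => (not_congr (SetLike.ext_iff.mp hq a)).symm]
    infer_instance
  refine ⟨q', inferInstance, hq, ?_,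
    ⟨(IsLocalization.algEquiv q.primeCompl (Localization.AtPrime q) (Localization.AtPrime q')).restrictScalars R⟩⟩
  rw [IsScalarTower.algebraMap_eq R S (Localization.Away g), ← Ideal.comap_comap, hq]

/-- Neighbourhoods in neighbourhoods. -/
theorem exists_away_away {R S : Type u} [CommRing R] [CommRing S] [Algebra R S] (g : S) (q : Ideal S) [q.IsPrime]
    (hg : g ∉ q) (q' : Ideal (Localization.Away g)) [q'.IsPrime] (hq : q'.comap (algebraMap S (Localization.Away g)) = q)
    (b : Localization.Away g) (hb : b ∉ q') :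
    ∃ g' : S, g' ∉ q ∧ Nonempty (Localization.Away g' ≃ₐ[R] Localization.Away b) := by
  obtain ⟨m, a, ha⟩ := IsLocalization.Away.surj g b
  have hu : IsUnit ((algebraMap S (Localization.Away g) g) ^ m) := (IsLocalization.Away.algebraMap_isUnit g).pow m
  have hass : Associated (algebraMap S (Localization.Away g) a) b := ⟨hu.unit⁻¹, by rw [← ha, mul_assoc, hu.mul_val_inv, mul_one]⟩
  haveI : IsLocalization.Away (g * a) (Localization.Away b) :=
    IsLocalization.Away.mul_of_associated (S := Localization.Away g) g a b hass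
  refine ⟨g * a, fun h => ?_,
    ⟨(IsLocalization.algEquiv (Submonoid.powers (g * a)) (Localization.Away (g * a)) (Localization.Away b)).restrictScalars R⟩⟩
  rcases (inferInstance : q.IsPrime).mem_or_mem h with h | h
  · exact hg h
  · rw [← hq, Ideal.mem_comap, ← ha] at h
    exact ((inferInstance : q'.IsPrime).mem_or_mem h).elim hb fun h' =>
      q'.ne_top_iff_one.mp (Ideal.IsPrime.ne_top inferInstance)
        ((Ideal.eq_top_of_isUnit_mem _ h' hu).symm ▸ Submodule.mem_top)

/-- The fibres after a principal localisation. -/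
theorem isCIOver_fibre_away_iff {R S : Type u} [CommRing R] [CommRing S] [Algebra R S] (g : S) (q : Ideal S) [q.IsPrime]
    (hg : g ∉ q) (p : Ideal R) [p.IsPrime] (Q : Ideal (p.Fiber S)) [Q.IsPrime]
    (hQ : Q.comap (Algebra.TensorProduct.includeRight : S →ₐ[R] p.Fiber S).toRingHom = q) :
    ∃ (q' : Ideal (Localization.Away g)) (_ : q'.IsPrime) (Q' : Ideal (p.Fiber (Localization.Away g))) (_ : Q'.IsPrime),
      q'.comap (algebraMap S (Localization.Away g)) = q ∧
      Q'.comap (Algebra.TensorProduct.includeRight : Localization.Away g →ₐ[R] p.Fiber (Localization.Away g)).toRingHom = q' ∧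
      Nonempty (Localization.AtPrime q ≃ₐ[R] Localization.AtPrime q') ∧
      (Synt.IsCIOver p.ResidueField (Localization.AtPrime Q) ↔ Synt.IsCIOver p.ResidueField (Localization.AtPrime Q')) := by
  obtain ⟨q', hq', hc, hp', ⟨e⟩⟩ := exists_away_prime (R := R) g q hg
  obtain ⟨Q', hQ', hQc⟩ := exists_fiber_prime p q' (by rw [hp', ← hQ]; exact comap_fiber_prime p Q)
  exact ⟨q', hq', Q', hQ', hc, hQc, ⟨e⟩,
    ⟨isCIOver_fibre_congr' p Q Q' q q' hQ hQc e, isCIOver_fibre_congr' p Q' Q q' q hQc hQ e.symm⟩⟩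

/-- A syntomic neighbourhood gives a flat local ring with complete intersection fibre. -/
theorem flat_and_isCIOver_of_syntomic_away {R S : Type u} [CommRing R] [CommRing S] [Algebra R S] (g : S) (q : Ideal S)
    [q.IsPrime] (hg : g ∉ q) (h : Synt.IsSyntomic R (Localization.Away g)) (p : Ideal R) [p.IsPrime] (Q : Ideal (p.Fiber S))
    [Q.IsPrime] (hQ : Q.comap (Algebra.TensorProduct.includeRight : S →ₐ[R] p.Fiber S).toRingHom = q) :
    Module.Flat R (Localization.AtPrime q) ∧ Synt.IsCIOver p.ResidueField (Localization.AtPrime Q) := by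
  obtain ⟨q', hq', Q', hQ', -, -, ⟨e⟩, hiff⟩ := isCIOver_fibre_away_iff g q hg p Q hQ
  haveI := h.1
  exact ⟨Module.Flat.of_linearEquiv e.toLinearEquiv, hiff.mpr (isCIOver_of_isLCIOver (h.2.2 ⟨p, inferInstance⟩) Q')⟩

/-- Being syntomic is local. -/
theorem isSyntomic_of_cover {R S : Type u} [CommRing R] [CommRing S] [Algebra R S] (s : Set S) (hs : Ideal.span s = ⊤)
    (h : ∀ g ∈ s, Synt.IsSyntomic R (Localization.Away g)) : Synt.IsSyntomic R S := by
  haveI hfp : Algebra.FinitePresentation R S := Algebra.FinitePresentation.of_span_eq_top_target s hs fun g hg => (h g hg).2.1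
  refine ⟨Module.flat_of_isLocalized_span (R := R) S S s hs (fun r => Localization.Away r.1)
    (fun r => Algebra.linearMap S (Localization.Away r.1)) (fun r => (h r.1 r.2).1), hfp, fun p => ?_⟩
  refine isLCIOver_iff.mpr fun Q => ?_
  let q := Q.asIdeal.comap (Algebra.TensorProduct.includeRight : S →ₐ[R] p.asIdeal.Fiber S).toRingHom
  obtain ⟨g, hgs, hgq⟩ : ∃ g ∈ s, g ∉ q := by
    by_contra hcon
    push Not at hcon
    exact (inferInstance : q.IsPrime).ne_top (top_le_iff.mp (hs ▸ Ideal.span_le.mpr hcon))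
  exact (flat_and_isCIOver_of_syntomic_away g q hgq (h g hgs) p.asIdeal Q.asIdeal rfl).2

/-- The kernel matters only up to the localisation. -/
theorem exists_pres_away {R B : Type u} [CommRing R] [CommRing B] [Algebra R B] {n c : ℕ}
    (φ : MvPolynomial (Fin n) R →ₐ[R] B) (hφ : Function.Surjective φ) (F : Fin c → MvPolynomial (Fin n) R)
    (g : MvPolynomial (Fin n) R) (hF : Ideal.span (Set.range F) ≤ RingHom.ker φ.toRingHom)
    (hg : ∀ i ∈ RingHom.ker φ.toRingHom, g * i ∈ Ideal.span (Set.range F)) :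
    Nonempty (Localization.Away (φ g) ≃ₐ[R] Synt.RelGCIRing R (n + 1) (c + 1) (snocPres F g)) := by
  let J := Ideal.span (Set.range F)
  let I := RingHom.ker φ.toRingHom
  have hI : awayIdeal I g = awayIdeal J g := by
    refine le_antisymm ?_ (sup_le_sup_right (Ideal.map_mono hF) _)
    refine sup_le (Ideal.map_le_iff_le_comap.mpr fun i hi => ?_) le_sup_right
    rw [Ideal.mem_comap]
    have h1 : rename Fin.castSucc (g * i) * X (Fin.last n) ∈ awayIdeal J g :=
      Submodule.mem_sup_left (Ideal.mul_mem_right _ _ (Ideal.mem_map_of_mem _ (hg i hi)))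
    have h2 : (rename Fin.castSucc g * X (Fin.last n) - 1) * rename Fin.castSucc i ∈ awayIdeal J g :=
      Submodule.mem_sup_right (Ideal.mul_mem_right _ _ (Ideal.mem_span_singleton_self _))
    have := sub_mem h1 h2
    rw [map_mul] at this
    convert this using 1
    ring
  let e : (MvPolynomial (Fin n) R ⧸ I) ≃ₐ[R] B := Ideal.quotientKerAlgEquivOfSurjective hφ
  have hM : Submonoid.map e.toRingEquiv.toMonoidHom (Submonoid.powers (Ideal.Quotient.mk I g)) = Submonoid.powers (φ g) := by
    rw [Submonoid.map_powers]; rfl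
  let e' : Localization.Away (Ideal.Quotient.mk I g) ≃ₐ[R] Localization.Away (φ g) :=
    AlgEquiv.ofRingEquiv (f := IsLocalization.ringEquivOfRingEquiv (Localization.Away (Ideal.Quotient.mk I g))
      (Localization.Away (φ g)) e.toRingEquiv hM) fun x => by
      rw [IsScalarTower.algebraMap_apply R (MvPolynomial (Fin n) R ⧸ I),
        IsLocalization.ringEquivOfRingEquiv_eq, IsScalarTower.algebraMap_apply R B (Localization.Away (φ g))]
      exact congrArg _ (e.commutes x)
  exact ⟨e'.symm.trans ((awayEquiv I g).trans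
    (Ideal.quotientEquivAlgOfEq R (hI.trans (awayIdeal_span F g))))⟩

/-- Flat with complete intersection fibre gives a relative complete intersection neighbourhood. -/
theorem exists_relGCI_nhd {R S : Type u} [CommRing R] [CommRing S] [Algebra R S] (g₀ : S) (q : Ideal S) [q.IsPrime]
    (hg₀ : g₀ ∉ q) [Algebra.FinitePresentation R (Localization.Away g₀)] [Module.Flat R (Localization.AtPrime q)]
    (p : Ideal R) [p.IsPrime] (Q : Ideal (p.Fiber S)) [Q.IsPrime]
    (hQ : Q.comap (Algebra.TensorProduct.includeRight : S →ₐ[R] p.Fiber S).toRingHom = q)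
    (hci : Synt.IsCIOver p.ResidueField (Localization.AtPrime Q)) :
    ∃ g : S, g ∉ q ∧ ∃ (n c : ℕ) (F : Fin c → MvPolynomial (Fin n) R), Synt.IsRelGCI R n c F ∧
      Nonempty (Localization.Away g ≃ₐ[R] Synt.RelGCIRing R n c F) := by
  obtain ⟨q', hq', Q', hQ', hqc, hQc, ⟨e⟩, hiff⟩ := isCIOver_fibre_away_iff g₀ q hg₀ p Q hQ
  haveI : Module.Flat R (Localization.AtPrime q') := Module.Flat.of_linearEquiv e.toLinearEquiv.symm
  obtain ⟨n, φ, hφ, hI⟩ := (Algebra.FinitePresentation.out (R := R) (A := Localization.Away g₀))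
  obtain ⟨c, F, a, hFI, haq, hkill, hcn, z, hz, hzW⟩ := exists_local_eqs φ hφ hI p Q' q' hQc (hiff.mp hci)
  haveI : Algebra.FiniteType R (Synt.RelGCIRing R n c F) :=
    Algebra.FiniteType.of_surjective (Ideal.Quotient.mkₐ R _) Ideal.Quotient.mk_surjective
  obtain ⟨_, ⟨w, rfl⟩, hzw, hwW⟩ := PrimeSpectrum.isTopologicalBasis_basic_opens.exists_subset_of_mem_open hzW
    (isOpen_fibreDimLE R (Synt.RelGCIRing R n c F) (n - c))
  obtain ⟨h, rfl⟩ := Ideal.Quotient.mk_surjective w
  have hhz : φ h ∉ q' := fun hmem => hzw ((SetLike.ext_iff.mp hz h).mpr hmem)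
  have hrel : Synt.IsRelGCI R (n + 1) (c + 1) (snocPres F (a * h)) := by
    refine isRelGCI_snoc hcn F (a * h) fun z' hz' => hwW ?_
    exact fun hmem => hz' (by rw [map_mul]; exact Ideal.mul_mem_left _ _ hmem)
  obtain ⟨e'⟩ := exists_pres_away φ hφ F (a * h) hFI fun i hi => by
    rw [mul_comm a h, mul_assoc]
    exact Ideal.mul_mem_left _ _ (hkill i hi)
  obtain ⟨g, hg, ⟨e''⟩⟩ := exists_away_away (R := R) g₀ q hg₀ q' hqc (φ (a * h))
    (by rw [map_mul]; exact fun hmem => ((inferInstance : q'.IsPrime).mem_or_mem hmem).elim haq hhz)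
  exact ⟨g, hg, n + 1, c + 1, snocPres F (a * h), hrel, ⟨e''.trans e'⟩⟩

/-- Fibres after a surjective change of base. -/
theorem fibre_dim_congr {R R' S S' : Type u} [CommRing R] [CommRing R'] [CommRing S] [CommRing S'] [Algebra R S]
    [Algebra R' S'] {n : ℕ} (π : R →+* R') (hπ : Function.Surjective π) (φ : MvPolynomial (Fin n) R →ₐ[R] S)
    (hφ : Function.Surjective φ) (φ' : MvPolynomial (Fin n) R' →ₐ[R'] S') (hφ' : Function.Surjective φ')
    (hk : RingHom.ker φ'.toRingHom = (RingHom.ker φ.toRingHom).map (MvPolynomial.map π))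
    (p' : Ideal R') [p'.IsPrime] (p : Ideal R) [p.IsPrime] (hp : p = p'.comap π) (h : Nontrivial (p.Fiber S)) :
    Nontrivial (p'.Fiber S') ∧ ringKrullDim (p.Fiber S) = ringKrullDim (p'.Fiber S') := by
  let ι := Ideal.ResidueField.map p p' π hp
  have hι : Function.Bijective ι := (RingHom.surjectiveOnStalks_of_surjective hπ).residueFieldMap_bijective p p' hp
  let E := MvPolynomial.mapEquiv (Fin n) (RingEquiv.ofBijective ι hι)
  have hker : RingHom.ker (fibrePresOf p'.ResidueField φ').toRingHom = (RingHom.ker (fibrePresOf p.ResidueField φ).toRingHom).map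
      (E : MvPolynomial (Fin n) p.ResidueField →+* MvPolynomial (Fin n) p'.ResidueField) := by
    rw [ker_fibrePresOf _ φ' hφ', ker_fibrePresOf _ φ hφ, hk, Ideal.map_map, Ideal.map_map]
    congr 1
    refine RingHom.ext fun x => ?_
    show red (R := R') p'.ResidueField n (MvPolynomial.map π x) = MvPolynomial.map ι (red (R := R) p.ResidueField n x)
    rw [red, red, MvPolynomial.map_map, MvPolynomial.map_map]
    congr 2
    exact RingHom.ext fun r => (Ideal.ResidueField.map_algebraMap p p' π hp r).symm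
  let e : p.Fiber S ≃+* p'.Fiber S' :=
    ((RingHom.quotientKerEquivOfSurjective (f := (fibrePresOf p.ResidueField φ).toRingHom) (fibrePresOf_surjective _ φ hφ)).symm.trans
      (Ideal.quotientEquiv _ _ E hker)).trans
      (RingHom.quotientKerEquivOfSurjective (f := (fibrePresOf p'.ResidueField φ').toRingHom) (fibrePresOf_surjective _ φ' hφ'))
  exact ⟨e.injective.nontrivial, ringKrullDim_eq_of_ringEquiv e⟩

/-- An element which is a unit on a fibre, supported in a given neighbourhood of it. -/
theorem exists_unit_on_fibre {R S : Type u} [CommRing R] [CommRing S] [Algebra R S] (p : Ideal R) [p.IsPrime]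
    (W : Set (PrimeSpectrum S)) (hW : IsOpen W) (h : ∀ z : PrimeSpectrum S, z.asIdeal.comap (algebraMap R S) = p → z ∈ W) :
    ∃ k : S, IsUnit ((1 : p.ResidueField) ⊗ₜ[R] k : p.Fiber S) ∧ ∀ z : PrimeSpectrum S, k ∉ z.asIdeal → z ∈ W := by
  let ι : S →ₐ[R] p.Fiber S := Algebra.TensorProduct.includeRight
  obtain ⟨K, hK⟩ := (PrimeSpectrum.isClosed_iff_zeroLocus_ideal _).mp hW.isClosed_compl
  have htop : K.map ι.toRingHom = ⊤ := by
    by_contra hne
    obtain ⟨m, hm, hle⟩ := Ideal.exists_le_maximal _ hne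
    haveI := hm.isPrime
    let z : PrimeSpectrum S := ⟨m.comap ι.toRingHom, inferInstance⟩
    have hzK : z ∈ PrimeSpectrum.zeroLocus (K : Set S) := (Ideal.map_le_iff_le_comap.mp hle : K ≤ m.comap ι.toRingHom)
    rw [← hK] at hzK
    exact hzK (h z (comap_fiber_prime p m))
  have key : ∀ x ∈ K.map ι.toRingHom, ∃ r ∉ p, ∃ k ∈ K, algebraMap R (p.Fiber S) r * x = ι k := by
    intro x hx
    induction hx using Submodule.span_induction with
    | mem x hx =>
      obtain ⟨k, hk, rfl⟩ := hx
      exact ⟨1, p.ne_top_iff_one.mp (Ideal.IsPrime.ne_top inferInstance), k, hk, by rw [map_one, one_mul]; rfl⟩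
    | zero => exact ⟨1, p.ne_top_iff_one.mp (Ideal.IsPrime.ne_top inferInstance), 0, K.zero_mem, by rw [mul_zero, map_zero]⟩
    | add x y _ _ hx hy =>
      obtain ⟨r, hr, k, hk, e⟩ := hx
      obtain ⟨r', hr', k', hk', e'⟩ := hy
      refine ⟨r * r', fun h => ((inferInstance : p.IsPrime).mem_or_mem h).elim hr hr',
        algebraMap R S r' * k + algebraMap R S r * k', add_mem (Ideal.mul_mem_left _ _ hk) (Ideal.mul_mem_left _ _ hk'), ?_⟩
      rw [map_add ι, map_mul ι, map_mul ι, ι.commutes, ι.commutes, ← e, ← e', map_mul]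
      ring
    | smul a x _ hx =>
      obtain ⟨r, hr, k, hk, e⟩ := hx
      obtain ⟨r', hr', s, hs⟩ := Ideal.Fiber.exists_smul_eq_one_tmul p a
      refine ⟨r' * r, fun h => ((inferInstance : p.IsPrime).mem_or_mem h).elim hr' hr, s * k, Ideal.mul_mem_left _ _ hk, ?_⟩
      rw [map_mul ι, ← e, show ι s = algebraMap R (p.Fiber S) r' * a by rw [← Algebra.smul_def, hs]; rfl, map_mul, smul_eq_mul]
      ring
  obtain ⟨r, hr, k, hk, hrk⟩ := key 1 (htop ▸ Submodule.mem_top)
  refine ⟨k, ?_, fun z hz => ?_⟩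
  · show IsUnit (ι k)
    rw [← hrk, mul_one, IsScalarTower.algebraMap_apply R p.ResidueField (p.Fiber S)]
    exact (isUnit_iff_ne_zero.mpr fun h0 => hr (Ideal.algebraMap_residueField_eq_zero.mp h0)).map _
  · by_contra hzW
    have : z ∈ PrimeSpectrum.zeroLocus (K : Set S) := hK ▸ hzW
    exact hz (this hk)

/-- Spreading out from a closed subset of the base. -/
theorem exists_relGCI_of_quot {R : Type u} [CommRing R] {n c : ℕ} (F : Fin c → MvPolynomial (Fin n) R) (I : Ideal R)
    (hI : Synt.IsRelGCI (R ⧸ I) n c (fun i => MvPolynomial.map (Ideal.Quotient.mk I) (F i))) :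
    ∃ h : MvPolynomial (Fin n) R,
      Ideal.Quotient.mk (I.map (algebraMap R (Synt.RelGCIRing R n c F)))
        (Ideal.Quotient.mk (Ideal.span (Set.range F)) h) = 1 ∧
      Synt.IsRelGCI R (n + 1) (c + 1) (snocPres F h) := by
  haveI : Algebra.FiniteType R (Synt.RelGCIRing R n c F) :=
    Algebra.FiniteType.of_surjective (Ideal.Quotient.mkₐ R _) Ideal.Quotient.mk_surjective
  let J := I.map (algebraMap R (Synt.RelGCIRing R n c F))
  have key : ∀ z : PrimeSpectrum (Synt.RelGCIRing R n c F), J ≤ z.asIdeal →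
      c ≤ n ∧ z ∈ fibreDimLE R (Synt.RelGCIRing R n c F) (n - c) := by
    intro z hz
    have hdim : ∀ (p : Ideal R) [p.IsPrime], z.asIdeal.comap (algebraMap R (Synt.RelGCIRing R n c F)) = p →
        c ≤ n ∧ ringKrullDim (p.Fiber (Synt.RelGCIRing R n c F)) = ((n - c : ℕ) : WithBot ℕ∞) := by
      intro p _ hp
      have hIp : I ≤ p := hp ▸ Ideal.map_le_iff_le_comap.mp hz
      let p' := p.map (Ideal.Quotient.mk I)
      have hp' : p = p'.comap (Ideal.Quotient.mk I) := by
        rw [Ideal.comap_map_of_surjective _ Ideal.Quotient.mk_surjective, ← RingHom.ker_eq_comap_bot, Ideal.mk_ker,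
          sup_eq_left.mpr hIp]
      haveI : p'.IsPrime := Ideal.map_isPrime_of_surjective Ideal.Quotient.mk_surjective (Ideal.mk_ker.trans_le hIp)
      obtain ⟨Q, hQ, -⟩ := exists_fiber_prime p z.asIdeal hp
      have hnt : Nontrivial (p.Fiber (Synt.RelGCIRing R n c F)) :=
        nontrivial_of_ne (0 : p.Fiber (Synt.RelGCIRing R n c F)) 1 fun h => hQ.ne_top ((Ideal.eq_top_iff_one _).mpr (h ▸ Q.zero_mem))
      obtain ⟨hnt', hd'⟩ := fibre_dim_congr (S' := Synt.RelGCIRing (R ⧸ I) n c fun i => MvPolynomial.map (Ideal.Quotient.mk I) (F i))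
        (Ideal.Quotient.mk I) Ideal.Quotient.mk_surjective
        (Ideal.Quotient.mkₐ R (Ideal.span (Set.range F))) Ideal.Quotient.mk_surjective
        (Ideal.Quotient.mkₐ (R ⧸ I) (Ideal.span (Set.range fun i => MvPolynomial.map (Ideal.Quotient.mk I) (F i))))
        Ideal.Quotient.mk_surjective
        (by
          rw [show RingHom.ker (Ideal.Quotient.mkₐ R (Ideal.span (Set.range F))).toRingHom = Ideal.span (Set.range F)
              from Ideal.mk_ker,
            show RingHom.ker (Ideal.Quotient.mkₐ (R ⧸ I) (Ideal.span (Set.range fun i =>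
              MvPolynomial.map (Ideal.Quotient.mk I) (F i)))).toRingHom = Ideal.span (Set.range fun i =>
              MvPolynomial.map (Ideal.Quotient.mk I) (F i)) from Ideal.mk_ker,
            Ideal.map_span, ← Set.range_comp]
          rfl) p' p hp' hnt
      obtain ⟨hcn, hd⟩ := hI ⟨p', inferInstance⟩ hnt'
      exact ⟨hcn, hd'.trans hd⟩
    exact ⟨(hdim (z.asIdeal.comap (algebraMap R (Synt.RelGCIRing R n c F))) rfl).1,
      mem_fibreDimLE_of_dim (n - c) z fun p _ hp => (hdim p hp).2.le⟩
  by_cases hcn : c ≤ n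
  · obtain ⟨K, hK⟩ := (PrimeSpectrum.isClosed_iff_zeroLocus_ideal _).mp
      (isOpen_fibreDimLE R (Synt.RelGCIRing R n c F) (n - c)).isClosed_compl
    have htop : J ⊔ K = ⊤ := by
      by_contra hne
      obtain ⟨m, hm, hle⟩ := Ideal.exists_le_maximal _ hne
      let z : PrimeSpectrum (Synt.RelGCIRing R n c F) := ⟨m, hm.isPrime⟩
      have hzK : z ∈ PrimeSpectrum.zeroLocus (K : Set (Synt.RelGCIRing R n c F)) := (le_sup_right.trans hle : K ≤ m)
      rw [← hK] at hzK
      exact hzK (key z (le_sup_left.trans hle)).2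
    obtain ⟨i, hi, k, hk, hik⟩ := Submodule.mem_sup.mp (htop ▸ Submodule.mem_top : (1 : Synt.RelGCIRing R n c F) ∈ J ⊔ K)
    obtain ⟨h, rfl⟩ := Ideal.Quotient.mk_surjective k
    refine ⟨h, ?_, isRelGCI_snoc hcn F h fun z hz => ?_⟩
    · rw [← map_one (Ideal.Quotient.mk J), Ideal.Quotient.eq, ← hik, sub_add_cancel_right]
      exact neg_mem hi
    · by_contra hzW
      have : z ∈ PrimeSpectrum.zeroLocus (K : Set (Synt.RelGCIRing R n c F)) := hK ▸ hzW
      exact hz (this hk)
  · have hJ : J = ⊤ := by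
      by_contra hne
      obtain ⟨m, hm, hle⟩ := Ideal.exists_le_maximal _ hne
      exact hcn (key ⟨m, hm.isPrime⟩ hle).1
    refine ⟨0, ?_, ?_⟩
    · exact @Subsingleton.elim _ (Ideal.Quotient.subsingleton_iff.mpr hJ) _ _
    · haveI : Subsingleton (Localization.Away (Ideal.Quotient.mk (Ideal.span (Set.range F)) (0 : MvPolynomial (Fin n) R))) :=
        IsLocalization.subsingleton (M := Submonoid.powers (Ideal.Quotient.mk (Ideal.span (Set.range F)) (0 : MvPolynomial (Fin n) R)))
          ⟨1, by rw [map_zero]; exact pow_one 0⟩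
      haveI : Subsingleton (Synt.RelGCIRing R (n + 1) (c + 1) (snocPres F 0)) := (snocEquiv F 0).symm.toEquiv.subsingleton
      exact isRelGCI_of_subsingleton _

/-- Spreading out from one fibre. -/
theorem exists_relGCI_of_fibre {R : Type u} [CommRing R] {n c : ℕ} (F : Fin c → MvPolynomial (Fin n) R) (p : Ideal R)
    [p.IsPrime] (hcn : c ≤ n) (hp : ringKrullDim (p.Fiber (Synt.RelGCIRing R n c F)) = ((n - c : ℕ) : WithBot ℕ∞)) :
    ∃ h : MvPolynomial (Fin n) R,
      IsUnit ((1 : p.ResidueField) ⊗ₜ[R] (Ideal.Quotient.mk (Ideal.span (Set.range F)) h) :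
        p.Fiber (Synt.RelGCIRing R n c F)) ∧
      Synt.IsRelGCI R (n + 1) (c + 1) (snocPres F h) := by
  haveI : Algebra.FiniteType R (Synt.RelGCIRing R n c F) :=
    Algebra.FiniteType.of_surjective (Ideal.Quotient.mkₐ R _) Ideal.Quotient.mk_surjective
  obtain ⟨k, hu, hk⟩ := exists_unit_on_fibre p (fibreDimLE R (Synt.RelGCIRing R n c F) (n - c))
    (isOpen_fibreDimLE R _ _) fun z hz => mem_fibreDimLE_of_dim (n - c) z fun p' _ hp' => by
      have hpp : p = p' := hz.symm.trans hp'
      subst hpp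
      exact hp.le
  obtain ⟨h, rfl⟩ := Ideal.Quotient.mk_surjective k
  exact ⟨h, hu, isRelGCI_snoc hcn F h hk⟩

end Groth.Agent.SyntLib
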