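import Groth.Agent.SyntLib.Prefix
import Groth.Agent.SyntLib.Spread

/-!
# Regular equations near a syntomic point
-/

set_option autoImplicit false
set_option linter.style.haveILetI false
universe u

open IsLocalRing RingTheory.Sequence MvPolynomial
open scoped TensorProduct

namespace Groth.Agent.SyntLib

variable {R : Type u} [CommRing R] {n : ℕ}

/-- Where the small fibres are, the equations form a weakly regular sequence. -/
theorem mul_mem_cancel {i : ℕ} (G : Fin (i + 1) → MvPolynomial (Fin n) R) (a : MvPolynomial (Fin n) R)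
    (hrel : Synt.IsRelGCI R (n + 1) (i + 1 + 1) (snocPres G a)) (P : Ideal (MvPolynomial (Fin n) R)) [P.IsPrime]
    (ha : a ∉ P) (hG : Ideal.span (Set.range G) ≤ P) (x : Localization.AtPrime P)
    (hx : algebraMap _ (Localization.AtPrime P) (G (Fin.last i)) * x ∈
      Ideal.span (Set.range fun j : Fin i => algebraMap _ (Localization.AtPrime P) (G j.castSucc))) :
    x ∈ Ideal.span (Set.range fun j : Fin i => algebraMap _ (Localization.AtPrime P) (G j.castSucc)) := by
  let A := Localization.AtPrime P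
  let au : Aˣ := (IsLocalization.map_units A (⟨a, ha⟩ : P.primeCompl)).unit
  let ev : MvPolynomial (Fin (n + 1)) R →ₐ[R] A :=
    aeval (Fin.snoc (fun k => algebraMap (MvPolynomial (Fin n) R) A (X k)) (↑au⁻¹) : Fin (n + 1) → A)
  have hev : ∀ y, ev (rename Fin.castSucc y) = algebraMap (MvPolynomial (Fin n) R) A y := by
    intro y
    have : ev.comp (rename Fin.castSucc) = IsScalarTower.toAlgHom R (MvPolynomial (Fin n) R) A :=
      MvPolynomial.algHom_ext fun k => by simp [ev]
    exact DFunLike.congr_fun this y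
  let P' := (maximalIdeal A).comap ev.toRingHom
  haveI : P'.IsPrime := Ideal.IsPrime.comap _
  have hP' : P'.comap (rename Fin.castSucc : MvPolynomial (Fin n) R →ₐ[R] _).toRingHom = P := by
    ext y
    show ev (rename Fin.castSucc y) ∈ maximalIdeal A ↔ y ∈ P
    rw [hev]
    exact IsLocalization.AtPrime.to_map_mem_maximal_iff A P y
  have hGP : Ideal.span (Set.range (snocPres G a)) ≤ P' := Ideal.span_le.mpr (by
    rintro _ ⟨k, rfl⟩
    show ev (snocPres G a k) ∈ maximalIdeal A
    induction k using Fin.lastCases with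
    | last =>
      simp only [snocPres, Fin.snoc_last, map_sub, map_mul, map_one, hev]
      rw [show ev (X (Fin.last n)) = (↑au⁻¹ : A) by simp [ev],
        show algebraMap (MvPolynomial (Fin n) R) A a = (au : A) from rfl, Units.mul_inv, sub_self]
      exact zero_mem _
    | cast k =>
      simp only [snocPres, Fin.snoc_castSucc, hev]
      exact (IsLocalization.AtPrime.to_map_mem_maximal_iff A P _).mpr (hG (Ideal.subset_span ⟨k, rfl⟩)))
  have hreg := (relGCI_regular hrel P' hGP).1.toIsWeaklyRegular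
  let T := Localization.AtPrime P'
  let ι : A →+* T := Localization.localRingHom P P' (rename Fin.castSucc : MvPolynomial (Fin n) R →ₐ[R] _).toRingHom hP'.symm
  let ρ : T →+* A := IsLocalization.lift (M := P'.primeCompl) (g := ev.toRingHom) fun s =>
    (IsLocalRing.notMem_maximalIdeal.mp s.2)
  have hρι : ρ.comp ι = RingHom.id A := by
    refine IsLocalization.ringHom_ext P.primeCompl (RingHom.ext fun y => ?_)
    simp only [RingHom.comp_apply, RingHom.id_apply]
    rw [show ι (algebraMap _ A y) = algebraMap _ T (rename Fin.castSucc y) from Localization.localRingHom_to_map _ _ _ hP'.symm y,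
      show ρ (algebraMap _ T (rename Fin.castSucc y)) = ev (rename Fin.castSucc y) from IsLocalization.lift_eq _ _, hev]
  have hsm := ((isWeaklyRegular_iff_Fin _ _).mp hreg) ⟨i, by simp⟩
  have hget : ((List.ofFn (snocPres G a)).map (algebraMap _ T))[i]'(by simp) =
      ι (algebraMap _ A (G (Fin.last i))) := by
    simp only [List.getElem_map, List.getElem_ofFn]
    rw [show (⟨i, _⟩ : Fin (i + 1 + 1)) = (Fin.last i).castSucc from rfl]
    simp only [snocPres, Fin.snoc_castSucc]
    exact (Localization.localRingHom_to_map _ _ _ hP'.symm _).symm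
  have hset : Ideal.ofList (((List.ofFn (snocPres G a)).map (algebraMap _ T)).take i) • (⊤ : Submodule T T) =
      Ideal.span (Set.range fun j : Fin i => ι (algebraMap _ A (G j.castSucc))) := by
    rw [smul_eq_mul, Ideal.mul_top, Ideal.ofList]
    congr 1
    ext z
    simp only [Set.mem_setOf_eq, List.mem_iff_getElem, List.length_take, List.length_map, List.length_ofFn,
      List.getElem_take, List.getElem_map, List.getElem_ofFn, Set.mem_range]
    constructor
    · rintro ⟨k, hk, rfl⟩
      have hk' : k < i := lt_of_lt_of_le hk (min_le_left _ _)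
      refine ⟨⟨k, hk'⟩, ?_⟩
      rw [show (⟨k, _⟩ : Fin (i + 1 + 1)) = ((⟨k, hk'⟩ : Fin i).castSucc).castSucc from rfl]
      simp only [snocPres, Fin.snoc_castSucc]
      exact Localization.localRingHom_to_map _ _ _ hP'.symm _
    · rintro ⟨k, rfl⟩
      refine ⟨k, by simp only [lt_min_iff]; omega, ?_⟩
      rw [show (⟨(k : ℕ), _⟩ : Fin (i + 1 + 1)) = (k.castSucc).castSucc from rfl]
      simp only [snocPres, Fin.snoc_castSucc]
      exact (Localization.localRingHom_to_map _ _ _ hP'.symm _).symm
  have h1 : ι x ∈ Ideal.span (Set.range fun j : Fin i => ι (algebraMap _ A (G j.castSucc))) := by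
    have h0 := Ideal.mem_map_of_mem ι hx
    rw [map_mul, Ideal.map_span, ← Set.range_comp] at h0
    have h2 := hsm
    simp only [Fin.getElem_fin] at h2
    rw [hget] at h2
    have h3 := mem_of_isSMulRegular_quotient_of_smul_mem h2 (x := ι x) (by rw [show (ι (algebraMap _ A (G (Fin.last i)))) • ι x = ι (algebraMap _ A (G (Fin.last i))) * ι x from smul_eq_mul .., hset]; exact h0)
    rwa [hset] at h3
  have h4 := Ideal.mem_map_of_mem ρ h1
  rw [Ideal.map_span, ← Set.range_comp] at h4
  rw [show ρ (ι x) = x from RingHom.congr_fun hρι x] at h4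
  convert h4 using 3
  funext j
  exact (RingHom.congr_fun hρι _).symm

/-- Regular equations near a syntomic point. -/
theorem exists_regular_nhd {S : Type u} [CommRing S] [Algebra R S] (φ : MvPolynomial (Fin n) R →ₐ[R] S)
    (hφ : Function.Surjective φ) (hI : (RingHom.ker φ.toRingHom).FG) (p : Ideal R) [p.IsPrime]
    (Q : Ideal (p.Fiber S)) [Q.IsPrime] (q : Ideal S) [q.IsPrime]
    (hQ : Q.comap (Algebra.TensorProduct.includeRight : S →ₐ[R] p.Fiber S).toRingHom = q)
    [Module.Flat R (Localization.AtPrime q)] (hci : Synt.IsCIOver p.ResidueField (Localization.AtPrime Q)) :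
    ∃ (c : ℕ) (F : Fin c → MvPolynomial (Fin n) R) (a : MvPolynomial (Fin n) R),
      c ≤ n ∧ Ideal.span (Set.range F) ≤ RingHom.ker φ.toRingHom ∧ φ a ∉ q ∧
      (∀ i ∈ RingHom.ker φ.toRingHom, a * i ∈ Ideal.span (Set.range F)) ∧
      Synt.IsRelGCI R (n + 1) (c + 1) (snocPres F a) ∧
      ∀ (j : Fin c) (x : MvPolynomial (Fin n) R),
        F j * x ∈ Ideal.span (F '' {k | k < j}) → ∃ m : ℕ, a ^ m * x ∈ Ideal.span (F '' {k | k < j}) := by
  obtain ⟨c, F, g, hFI, hgq, hkill, hcn, hz⟩ := exists_local_eqs' φ hφ hI p Q q hQ hci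
  have hh : ∀ i : Fin (c + 1), ∃ h : MvPolynomial (Fin n) R, φ h ∉ q ∧
      ∀ a, h ∣ a → Synt.IsRelGCI R (n + 1) ((i : ℕ) + 1) (snocPres (F ∘ Fin.castLE (Nat.le_of_lt_succ i.2)) a) := by
    intro i
    have hi : (i : ℕ) ≤ c := Nat.le_of_lt_succ i.2
    obtain ⟨z, hzc, hzW⟩ := hz i hi
    haveI : Algebra.FiniteType R (Synt.RelGCIRing R n i (F ∘ Fin.castLE hi)) :=
      Algebra.FiniteType.of_surjective (Ideal.Quotient.mkₐ R _) Ideal.Quotient.mk_surjective
    obtain ⟨_, ⟨w, rfl⟩, hzw, hwW⟩ := PrimeSpectrum.isTopologicalBasis_basic_opens.exists_subset_of_mem_open hzW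
      (isOpen_fibreDimLE R (Synt.RelGCIRing R n i (F ∘ Fin.castLE hi)) (n - i))
    obtain ⟨h, rfl⟩ := Ideal.Quotient.mk_surjective w
    refine ⟨h, fun hmem => hzw ((SetLike.ext_iff.mp hzc h).mpr hmem), fun a ha => ?_⟩
    obtain ⟨b, rfl⟩ := ha
    refine isRelGCI_snoc (le_trans hi hcn) _ (h * b) fun z' hz' => hwW ?_
    exact fun hmem => hz' (by rw [map_mul]; exact Ideal.mul_mem_right _ _ hmem)
  choose h hhq hhrel using hh
  let a := g * ∏ i, h i
  have haq : φ a ∉ q := by
    rw [map_mul, map_prod]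
    exact fun hmem => ((inferInstance : q.IsPrime).mem_or_mem hmem).elim hgq
      (fun hp => by obtain ⟨i, -, hi⟩ := (Ideal.IsPrime.prod_mem_iff (p := q)).mp hp; exact hhq i hi)
  have hdvd : ∀ i, h i ∣ a := fun i => (Finset.dvd_prod_of_mem h (Finset.mem_univ i)).mul_left g
  refine ⟨c, F, a, hcn, hFI, haq, fun i hi => ?_, hhrel (Fin.last c) a (hdvd _), fun j x hx => ?_⟩
  · show g * (∏ i, h i) * i ∈ _
    rw [mul_comm g, mul_assoc]
    exact Ideal.mul_mem_left _ _ (hkill i hi)
  let J := Ideal.span (F '' {k | k < j})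
  let K := J.colon {x}
  suffices ha : a ∈ K.radical by
    obtain ⟨m, hm⟩ := ha
    exact ⟨m, Submodule.mem_colon_singleton.mp hm⟩
  rw [Ideal.radical_eq_sInf, Submodule.mem_sInf]
  rintro (P : Ideal (MvPolynomial (Fin n) R)) ⟨hKP, hP⟩
  by_contra haP
  haveI := hP
  let A := Localization.AtPrime P
  suffices hxA : algebraMap _ A x ∈ J.map (algebraMap _ A) by
    obtain ⟨s, hs, hsx⟩ := (IsLocalization.algebraMap_mem_map_algebraMap_iff P.primeCompl A _ x).mp hxA
    exact hs (hKP (Submodule.mem_colon_singleton.mpr hsx))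
  have hxA : algebraMap _ A (F j) * algebraMap _ A x ∈ J.map (algebraMap _ A) := by
    rw [← map_mul]; exact Ideal.mem_map_of_mem _ hx
  by_cases hJP : J ≤ P
  · by_cases hjP : F j ∈ P
    · let G : Fin ((j : ℕ) + 1) → MvPolynomial (Fin n) R := F ∘ Fin.castLE j.2
      have hG : Ideal.span (Set.range G) ≤ P := Ideal.span_le.mpr (by
        rintro _ ⟨k, rfl⟩
        induction k using Fin.lastCases with
        | last => exact hjP
        | cast k => exact hJP (Ideal.subset_span ⟨Fin.castLE j.2 k.castSucc, k.2, rfl⟩))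
      have hJeq : J.map (algebraMap _ A) = Ideal.span (Set.range fun k : Fin (j : ℕ) => algebraMap _ A (G k.castSucc)) := by
        rw [Ideal.map_span]
        congr 1
        ext y
        constructor
        · rintro ⟨_, ⟨k, hk, rfl⟩, rfl⟩
          exact ⟨⟨k, hk⟩, rfl⟩
        · rintro ⟨k, rfl⟩
          exact ⟨_, ⟨Fin.castLE j.2 k.castSucc, k.2, rfl⟩, rfl⟩
      rw [hJeq] at hxA ⊢
      exact mul_mem_cancel G a (hhrel ⟨(j : ℕ) + 1, Nat.succ_lt_succ j.2⟩ a (hdvd _)) P haP hG _ hxA
    · exact (Ideal.unit_mul_mem_iff_mem _ (IsLocalization.map_units A (⟨F j, hjP⟩ : P.primeCompl))).mp hxA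
  · obtain ⟨y, hyJ, hyP⟩ := SetLike.not_le_iff_exists.mp hJP
    rw [Ideal.eq_top_of_isUnit_mem _ (Ideal.mem_map_of_mem _ hyJ) (IsLocalization.map_units A (⟨y, hyP⟩ : P.primeCompl))]
    trivial

end Groth.Agent.SyntLib

namespace Groth.Agent.SyntLib

variable {R : Type u} [CommRing R] {n : ℕ}

theorem isWeaklyRegular_ofFn_iff {A : Type u} [CommRing A] {c : ℕ} (f : Fin c → A) :
    IsWeaklyRegular A (List.ofFn f) ↔
      ∀ (j : Fin c) (x : A), f j * x ∈ Ideal.span (f '' {k | k < j}) → x ∈ Ideal.span (f '' {k | k < j}) := by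
  have hset : ∀ j : ℕ, (h : j < c) → Ideal.ofList ((List.ofFn f).take j) • (⊤ : Submodule A A) =
      Ideal.span (f '' {k | k < (⟨j, h⟩ : Fin c)}) := by
    intro j h
    rw [smul_eq_mul, Ideal.mul_top, Ideal.ofList]
    congr 1
    ext z
    simp only [Set.mem_ofPred_eq, List.mem_iff_getElem, List.length_take, List.length_ofFn, List.getElem_take,
      List.getElem_ofFn, Set.mem_image]
    constructor
    · rintro ⟨k, hk, rfl⟩
      exact ⟨⟨k, lt_of_lt_of_le hk (min_le_right _ _)⟩, Fin.mk_lt_mk.mpr (lt_of_lt_of_le hk (min_le_left _ _)), rfl⟩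
    · rintro ⟨k, hk, rfl⟩
      exact ⟨k, lt_min hk k.2, rfl⟩
  rw [isWeaklyRegular_iff_Fin]
  constructor
  · intro h j x hx
    have h2 := h ⟨j, by simp⟩
    simp only [Fin.getElem_fin, List.getElem_ofFn] at h2
    have h3 := mem_of_isSMulRegular_quotient_of_smul_mem h2 (x := x) (by
      rw [show f j • x = f j * x from rfl, hset j j.2]; exact hx)
    rwa [hset j j.2] at h3
  · intro h i
    obtain ⟨j, hj⟩ := i
    have hjc : j < c := by simpa using hj
    simp only [Fin.getElem_fin, List.getElem_ofFn]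
    rw [hset j hjc]
    intro u v huv
    obtain ⟨x, rfl⟩ := Submodule.Quotient.mk_surjective _ u
    obtain ⟨y, rfl⟩ := Submodule.Quotient.mk_surjective _ v
    replace huv : (Submodule.Quotient.mk (f ⟨j, hjc⟩ • x) : A ⧸ _) = Submodule.Quotient.mk (f ⟨j, hjc⟩ • y) := huv
    rw [Submodule.Quotient.eq, ← smul_sub] at huv
    rw [Submodule.Quotient.eq]
    exact h ⟨j, hjc⟩ _ huv

/-- Regular equations of a syntomic algebra in a principal open of affine space. -/
theorem exists_regular_away {S : Type u} [CommRing S] [Algebra R S] (φ : MvPolynomial (Fin n) R →ₐ[R] S)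
    (hφ : Function.Surjective φ) (h : Synt.IsSyntomic R S) (q : Ideal S) [q.IsPrime] :
    ∃ (c : ℕ) (F : Fin c → MvPolynomial (Fin n) R) (a : MvPolynomial (Fin n) R),
      c ≤ n ∧ φ a ∉ q ∧
      (RingHom.ker φ.toRingHom).map (algebraMap _ (Localization.Away a)) =
        Ideal.span (Set.range (algebraMap _ (Localization.Away a) ∘ F)) ∧
      IsWeaklyRegular (Localization.Away a) (List.ofFn (algebraMap _ (Localization.Away a) ∘ F)) ∧
      Synt.IsRelGCI R (n + 1) (c + 1) (snocPres F a) ∧
      Ideal.span (Set.range F) ≤ RingHom.ker φ.toRingHom ∧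
      ∀ i ∈ RingHom.ker φ.toRingHom, a * i ∈ Ideal.span (Set.range F) := by
  obtain ⟨Q, hQ, hQc⟩ := exists_fiber_prime (q.comap (algebraMap R S)) q rfl
  haveI := h.1
  haveI := h.2.1
  haveI : Module.Flat S (Localization.AtPrime q) := IsLocalization.flat _ q.primeCompl
  haveI : Module.Flat R (Localization.AtPrime q) := Module.Flat.trans R S _
  have hI : (RingHom.ker φ.toRingHom).FG := Algebra.FinitePresentation.ker_fG_of_surjective φ hφ
  obtain ⟨c, F, a, hcn, hFI, haq, hkill, hrel, hreg⟩ := exists_regular_nhd φ hφ hI _ Q q hQc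
    (isCIOver_of_isLCIOver (h.2.2 ⟨q.comap (algebraMap R S), inferInstance⟩) Q)
  let P := MvPolynomial (Fin n) R
  let T := Localization.Away a
  have hua : IsUnit (algebraMap P T a) := IsLocalization.Away.algebraMap_isUnit a
  refine ⟨c, F, a, hcn, haq, le_antisymm (Ideal.map_le_iff_le_comap.mpr fun x hx => ?_) ?_, ?_, hrel, hFI, hkill⟩
  · rw [Ideal.mem_comap, Set.range_comp, ← Ideal.map_span]
    refine (Ideal.unit_mul_mem_iff_mem _ hua).mp ?_
    rw [← map_mul]
    exact Ideal.mem_map_of_mem _ (hkill x hx)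
  · rw [Set.range_comp, ← Ideal.map_span]
    exact Ideal.map_mono hFI
  · rw [isWeaklyRegular_ofFn_iff]
    intro j x hx
    obtain ⟨⟨y, s⟩, hy⟩ := IsLocalization.surj (Submonoid.powers a) x
    refine (Ideal.mul_unit_mem_iff_mem _ (IsLocalization.map_units T s)).mp ?_
    rw [hy, Set.image_comp, ← Ideal.map_span, IsLocalization.algebraMap_mem_map_algebraMap_iff (Submonoid.powers a) T]
    have h1 : algebraMap P T (F j * y) ∈ (Ideal.span (F '' {k | k < j})).map (algebraMap P T) := by
      rw [map_mul, ← hy, Ideal.map_span, ← Set.image_comp, ← mul_assoc]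
      exact Ideal.mul_mem_right _ _ hx
    obtain ⟨t, ⟨k, rfl⟩, ht⟩ := (IsLocalization.algebraMap_mem_map_algebraMap_iff (Submonoid.powers a) T _ _).mp h1
    obtain ⟨m, hm⟩ := hreg j (a ^ k * y) (by rwa [mul_left_comm] at ht)
    exact ⟨a ^ m * a ^ k, ⟨m + k, pow_add a m k⟩, by rwa [mul_assoc]⟩

end Groth.Agent.SyntLib

namespace Groth.Agent.SyntLib

variable {R : Type u} [CommRing R] {n : ℕ}

theorem mul_last_sub_one_cancel (a : MvPolynomial (Fin n) R) (x : MvPolynomial (Fin (n + 1)) R)
    (hx : (rename Fin.castSucc a * X (Fin.last n) - 1) * x = 0) : x = 0 := by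
  have h1 : x = rename Fin.castSucc a * X (Fin.last n) * x := by
    rw [sub_mul, one_mul, sub_eq_zero] at hx; exact hx.symm
  have h2 : ∀ k : ℕ, x = X (Fin.last n) ^ k * ((rename Fin.castSucc a) ^ k * x) := by
    intro k
    induction k with
    | zero => simp
    | succ k ih =>
      conv_lhs => rw [ih]
      conv_lhs => rw [h1]
      ring
  ext m
  rw [h2 (m (Fin.last n) + 1), X_pow_eq_monomial, coeff_monomial_mul', if_neg, coeff_zero]
  intro hle
  have := Finsupp.le_def.mp hle (Fin.last n)
  simp at this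

/-- A regular sequence presenting a principal localisation. -/
theorem isWeaklyRegular_cons_away {c : ℕ} (F : Fin c → MvPolynomial (Fin n) R) (a : MvPolynomial (Fin n) R)
    (hreg : IsWeaklyRegular (Localization.Away a) (List.ofFn (algebraMap _ (Localization.Away a) ∘ F))) :
    IsWeaklyRegular (MvPolynomial (Fin (n + 1)) R) (List.ofFn (Fin.cons (rename Fin.castSucc a * X (Fin.last n) - 1)
      (fun i => rename Fin.castSucc (F i)) : Fin (c + 1) → MvPolynomial (Fin (n + 1)) R)) := by
  let P := MvPolynomial (Fin n) R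
  let g := rename Fin.castSucc a * X (Fin.last n) - 1
  let L : Fin (c + 1) → MvPolynomial (Fin (n + 1)) R := Fin.cons g (fun i => rename Fin.castSucc (F i))
  let e₀ : (P ⧸ (⊥ : Ideal P)) ≃+* P := RingEquiv.quotientBot P
  have hM : Submonoid.map e₀.toMonoidHom (Submonoid.powers (Ideal.Quotient.mk (⊥ : Ideal P) a)) = Submonoid.powers a := by
    rw [Submonoid.map_powers]; rfl
  let e := IsLocalization.ringEquivOfRingEquiv (Localization.Away (Ideal.Quotient.mk (⊥ : Ideal P) a))
    (Localization.Away a) e₀ hM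
  let π : MvPolynomial (Fin (n + 1)) R →+* Localization.Away a :=
    e.toRingHom.comp (awayPres (⊥ : Ideal P) a).toRingHom
  have hπren : ∀ y, π (rename Fin.castSucc y) = algebraMap P _ y := by
    intro y
    show e (awayPres (⊥ : Ideal P) a (rename Fin.castSucc y)) = _
    rw [awayPres_rename, IsLocalization.ringEquivOfRingEquiv_eq]
    rfl
  have hker : RingHom.ker π = Ideal.span {g} := by
    rw [show RingHom.ker π = RingHom.ker (awayPres (⊥ : Ideal P) a).toRingHom from
      RingHom.ker_comp_of_injective _ e.injective, ker_awayPres, awayIdeal, Ideal.map_bot, bot_sup_eq]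
  have hπs : Function.Surjective π := e.surjective.comp (awayPres_surjective _ a)
  rw [isWeaklyRegular_ofFn_iff]
  intro j x hx
  induction j using Fin.cases with
  | zero =>
    have hS : L '' {k | k < 0} = (∅ : Set _) := by simp
    rw [hS, Ideal.span_empty] at hx ⊢
    rw [Ideal.mem_bot] at hx ⊢
    exact mul_last_sub_one_cancel a x hx
  | succ j =>
    have hS : L '' {k | k < j.succ} = insert g ((fun i => rename Fin.castSucc (F i)) '' {k | k < j}) := by
      ext y
      constructor
      · rintro ⟨k, hk, rfl⟩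
        induction k using Fin.cases with
        | zero => exact Or.inl rfl
        | succ k => exact Or.inr ⟨k, Fin.succ_lt_succ_iff.mp hk, rfl⟩
      · rintro (rfl | ⟨k, hk, rfl⟩)
        · exact ⟨0, Fin.succ_pos j, rfl⟩
        · exact ⟨k.succ, Fin.succ_lt_succ_iff.mpr hk, rfl⟩
    rw [hS] at hx ⊢
    have himg : (Ideal.span (insert g ((fun i => rename Fin.castSucc (F i)) '' {k | k < j}))).map π =
        Ideal.span ((algebraMap P (Localization.Away a) ∘ F) '' {k | k < j}) := by
      rw [Ideal.map_span, Set.image_insert_eq, ← Set.image_comp,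
        show π g = 0 from RingHom.mem_ker.mp (hker ▸ Ideal.mem_span_singleton_self g), Ideal.span_insert_zero]
      congr 1
      exact Set.image_congr fun k _ => hπren (F k)
    have h1 := Ideal.mem_map_of_mem π hx
    rw [map_mul, Fin.cons_succ, hπren, himg] at h1
    have h2 := (isWeaklyRegular_ofFn_iff _).mp hreg j (π x) h1
    rw [← himg, ← Ideal.mem_comap, Ideal.comap_map_of_surjective π hπs, ← RingHom.ker_eq_comap_bot, hker] at h2
    exact (sup_le le_rfl (Ideal.span_mono (Set.singleton_subset_iff.mpr (Set.mem_insert g _)))) h2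

end Groth.Agent.SyntLib
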