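import Groth.Agent.SyntLib.Fibre

/-!
# Relative global complete intersections
-/

set_option autoImplicit false
set_option linter.style.haveILetI false
universe u

open IsLocalRing RingTheory.Sequence MvPolynomial
open scoped TensorProduct

namespace Groth.Agent.SyntLib

theorem isGlobalCI_fibre {R : Type u} [CommRing R] {n c : ℕ} {F : Fin c → MvPolynomial (Fin n) R}
    (h : Synt.IsRelGCI R n c F) (p : Ideal R) [p.IsPrime] :
    Synt.IsGlobalCI p.ResidueField (p.Fiber (Synt.RelGCIRing R n c F)) := by
  by_cases hs : Subsingleton (p.Fiber (Synt.RelGCIRing R n c F))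
  · exact Or.inl hs
  obtain ⟨hcn, hdim⟩ := h ⟨p, inferInstance⟩ (not_subsingleton_iff_nontrivial.mp hs)
  exact Or.inr ⟨n, c, hcn, fibrePres p.ResidueField _, _, fibrePres_surjective _ _,
    ker_fibrePres_span p.ResidueField F, hdim⟩

/-- Regularity and flatness in the local rings of the polynomial ring. -/
theorem relGCI_regular {R : Type u} [CommRing R] {n c : ℕ} {F : Fin c → MvPolynomial (Fin n) R}
    (h : Synt.IsRelGCI R n c F) (q' : Ideal (MvPolynomial (Fin n) R)) [q'.IsPrime]
    (hq' : Ideal.span (Set.range F) ≤ q') :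
    IsRegular (Localization.AtPrime q') ((List.ofFn F).map (algebraMap _ (Localization.AtPrime q'))) ∧
      ∀ i ≤ c, Module.Flat R (Localization.AtPrime q' ⧸
        Ideal.ofList (((List.ofFn F).take i).map (algebraMap _ (Localization.AtPrime q')))) := by
  obtain ⟨p, hp, hpdef⟩ : ∃ p : Ideal R, p.IsPrime ∧ q'.comap (algebraMap R (MvPolynomial (Fin n) R)) = p :=
    ⟨_, inferInstance, rfl⟩
  obtain ⟨Q, hQ, hQc⟩ := exists_prime_over p q' hpdef
  subst hQc
  let A := Localization.AtPrime (Q.comap (red (R := R) p.ResidueField n))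
  obtain ⟨ψ, hψ, hker, hψx⟩ := exists_fibre_local p Q
  let J := Ideal.span (Set.range F)
  have hP : Ideal.span (Set.range fun i => red (R := R) p.ResidueField n (F i)) ≤ Q :=
    Ideal.span_le.mpr (by rintro _ ⟨i, rfl⟩; exact hq' (Ideal.subset_span (Set.mem_range_self i)))
  have hnt : Nontrivial (p.Fiber (Synt.RelGCIRing R n c F)) := by
    refine not_subsingleton_iff_nontrivial.mp fun hs => hQ.ne_top ((Ideal.eq_top_iff_one _).mpr (hP ?_))
    rw [← ker_fibrePres_span p.ResidueField F]
    exact hs.elim _ _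
  obtain ⟨hcn, hdim⟩ := h ⟨p, inferInstance⟩ hnt
  have hreg := isRegular_of_gci (S := p.Fiber (Synt.RelGCIRing R n c F)) hcn (fibrePres p.ResidueField J) _ (fibrePres_surjective _ _)
    (ker_fibrePres_span p.ResidueField F) hdim Q hP
  letI : Algebra A (Localization.AtPrime Q) := ψ.toAlgebra
  let fs : List A := (List.ofFn F).map (algebraMap _ A)
  have hmap : fs.map (algebraMap A (Localization.AtPrime Q)) =
      (List.ofFn fun i => red (R := R) p.ResidueField n (F i)).map (algebraMap _ (Localization.AtPrime Q)) := by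
    simp only [fs, List.map_ofFn]
    exact congrArg List.ofFn (funext fun i => hψx (F i))
  rw [← hmap] at hreg
  have hw : IsWeaklyRegular (Localization.AtPrime Q) fs :=
    (isWeaklyRegular_map_algebraMap_iff (Localization.AtPrime Q) (Localization.AtPrime Q) fs).mp hreg.toIsWeaklyRegular
  have hk : LinearMap.ker (Algebra.linearMap A (Localization.AtPrime Q)) =
      (p.map (algebraMap R A)) • (⊤ : Submodule A A) := by
    rw [smul_eq_mul, Ideal.mul_top, ← hker]
    rfl
  have hw' := (((Submodule.quotEquivOfEq _ _ hk.symm).trans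
    (LinearMap.quotKerEquivOfSurjective (Algebra.linearMap A (Localization.AtPrime Q)) hψ)).isWeaklyRegular_congr fs).mpr hw
  haveI : Module.Flat R A := inferInstance
  obtain ⟨hwA, hflat⟩ := InjFibre.regSeq_atPrime (R := R) (S := MvPolynomial (Fin n) R)
    (Q.comap (red (R := R) p.ResidueField n)) (S' := A) A fs (by rw [hpdef]; exact hw')
  refine ⟨⟨hwA, ?_⟩, fun i hi => ?_⟩
  · rw [smul_eq_mul, Ideal.mul_top]
    refine Ne.symm (ne_top_of_le_ne_top (maximalIdeal.isMaximal A).ne_top (Ideal.span_le.mpr fun x hx => ?_))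
    obtain ⟨y, hy, rfl⟩ := List.mem_map.mp hx
    exact (IsLocalization.AtPrime.to_map_mem_maximal_iff A _ y).mpr (hq' (Ideal.subset_span (List.mem_ofFn.mp hy)))
  · haveI := hflat i (by simpa [fs] using hi)
    have heq : Ideal.ofList (fs.take i) • (⊤ : Submodule A A) =
        Ideal.ofList (((List.ofFn F).take i).map (algebraMap _ A)) := by
      rw [smul_eq_mul, Ideal.mul_top, List.map_take]
    exact Module.Flat.of_linearEquiv ((Submodule.quotEquivOfEq _ _ heq).restrictScalars R).symm

/-- A relative global complete intersection is flat. -/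
theorem flat_relGCI {R : Type u} [CommRing R] {n c : ℕ} {F : Fin c → MvPolynomial (Fin n) R}
    (h : Synt.IsRelGCI R n c F) : Module.Flat R (Synt.RelGCIRing R n c F) := by
  refine Module.flat_of_isLocalized_maximal (S := Synt.RelGCIRing R n c F) (M := Synt.RelGCIRing R n c F)
    (fun m _ => Localization.AtPrime m)
    (fun m _ => Algebra.linearMap (Synt.RelGCIRing R n c F) (Localization.AtPrime m)) fun m hm => ?_
  obtain ⟨ψ, hψ, hker, -⟩ := exists_local_quot (R := R) (Ideal.Quotient.mkₐ R (Ideal.span (Set.range F))) Ideal.Quotient.mk_surjective m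
  have hle : Ideal.span (Set.range F) ≤ m.comap (Ideal.Quotient.mkₐ R (Ideal.span (Set.range F))).toRingHom :=
    fun x hx => by
      show Ideal.Quotient.mk _ x ∈ m
      rw [Ideal.Quotient.eq_zero_iff_mem.mpr hx]
      exact zero_mem _
  haveI := (relGCI_regular h _ hle).2 c le_rfl
  let P' := m.comap (Ideal.Quotient.mkₐ R (Ideal.span (Set.range F))).toRingHom
  have heq : Ideal.ofList (((List.ofFn F).take c).map (algebraMap _ (Localization.AtPrime P'))) =
      RingHom.ker ψ.toRingHom := by
    rw [hker, show RingHom.ker (Ideal.Quotient.mkₐ R (Ideal.span (Set.range F))).toRingHom = Ideal.span (Set.range F)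
      from Ideal.mk_ker, List.take_of_length_le (by simp), ← Ideal.map_ofList, Groth.Agent.CMFlat.ofList_ofFn]
  exact Module.Flat.of_linearEquiv
    ((Ideal.quotientEquivAlgOfEq R heq).trans (Ideal.quotientKerAlgEquivOfSurjective hψ)).toLinearEquiv.symm

theorem isLCIOver_of_isGlobalCI {k S : Type u} [Field k] [CommRing S] [Algebra k S] [Algebra.FiniteType k S]
    (h : Synt.IsGlobalCI k S) : Synt.IsLCIOver k S :=
  isLCIOver_iff.mpr fun q => isCIOver_of_isGlobalCI h q.asIdeal

theorem fg_span_range {R : Type u} [CommRing R] {c : ℕ} (F : Fin c → R) : (Ideal.span (Set.range F)).FG := by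
  classical
  exact ⟨Finset.univ.image F, by simp⟩

/-- A relative global complete intersection is syntomic. -/
theorem isSyntomic_relGCI {R : Type u} [CommRing R] {n c : ℕ} {F : Fin c → MvPolynomial (Fin n) R}
    (h : Synt.IsRelGCI R n c F) : Synt.IsSyntomic R (Synt.RelGCIRing R n c F) := by
  haveI : Algebra.FinitePresentation R (Synt.RelGCIRing R n c F) :=
    Algebra.FinitePresentation.quotient (fg_span_range F)
  exact ⟨flat_relGCI h, inferInstance, fun p => isLCIOver_of_isGlobalCI (isGlobalCI_fibre h p.asIdeal)⟩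

theorem isLCIOver_of_algEquiv {k S S' : Type u} [Field k] [CommRing S] [Algebra k S] [CommRing S'] [Algebra k S']
    (e : S ≃ₐ[k] S') (h : Synt.IsLCIOver k S) : Synt.IsLCIOver k S' := by
  haveI := h.1
  haveI : Algebra.FiniteType k S' := Algebra.FiniteType.equiv h.1 e
  refine isLCIOver_iff.mpr fun q => ?_
  exact isCIOver_of_algEquiv (Localization.localAlgEquiv (q.asIdeal.comap e.toRingEquiv.toRingHom) q.asIdeal e rfl)
    (isCIOver_of_isLCIOver h _)

theorem isSyntomic_of_algEquiv {R S S' : Type u} [CommRing R] [CommRing S] [Algebra R S] [CommRing S'] [Algebra R S']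
    (e : S ≃ₐ[R] S') (h : Synt.IsSyntomic R S) : Synt.IsSyntomic R S' := by
  obtain ⟨hf, hp, hl⟩ := h
  exact ⟨Module.Flat.of_linearEquiv e.toLinearEquiv.symm, Algebra.FinitePresentation.equiv e,
    fun p => isLCIOver_of_algEquiv (Algebra.TensorProduct.congr AlgEquiv.refl e) (hl p)⟩

/-- A finite algebra with as many equations as variables. -/
theorem isRelGCI_of_finite {R : Type u} [CommRing R] {n : ℕ} (F : Fin n → MvPolynomial (Fin n) R)
    [Module.Finite R (Synt.RelGCIRing R n n F)] : Synt.IsRelGCI R n n F := by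
  intro p hp
  haveI := hp
  haveI : IsArtinianRing (p.asIdeal.Fiber (Synt.RelGCIRing R n n F)) := IsArtinianRing.of_finite p.asIdeal.ResidueField (p.asIdeal.Fiber (Synt.RelGCIRing R n n F))
  haveI : Ring.KrullDimLE 0 (p.asIdeal.Fiber (Synt.RelGCIRing R n n F)) :=
    ((isArtinianRing_iff_isNoetherianRing_krullDimLE_zero (R := p.asIdeal.Fiber (Synt.RelGCIRing R n n F))).mp inferInstance).2
  refine ⟨le_rfl, ?_⟩
  rw [Nat.sub_self]
  exact ringKrullDimZero_iff_ringKrullDim_eq_zero.mp inferInstance

/-- The coefficients of a relation of a regular sequence. -/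
theorem coeff_mem {A : Type u} [CommRing A] : ∀ {c : ℕ} (f : Fin c → A), IsWeaklyRegular A (List.ofFn f) →
    ∀ d : Fin c → A, ∑ i, d i * f i = 0 → ∀ i, d i ∈ Ideal.span (Set.range f)
  | 0, _, _, _, _, i => i.elim0
  | c + 1, f, hf, d, hd, i => by
    rw [List.ofFn_succ', List.concat_eq_append, isWeaklyRegular_append_iff, isWeaklyRegular_cons_iff] at hf
    have hle : Ideal.span (Set.range fun j : Fin c => f j.castSucc) ≤ Ideal.span (Set.range f) :=
      Ideal.span_mono (by rintro _ ⟨j, rfl⟩; exact Set.mem_range_self _)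
    rw [Fin.sum_univ_castSucc] at hd
    have hlast : d (Fin.last c) ∈ Ideal.span (Set.range fun j : Fin c => f j.castSucc) := by
      have := InjFibre.mem_of_isSMulRegular_quot hf.2.1 (x := d (Fin.last c)) (by
        rw [smul_eq_mul, smul_eq_mul, Ideal.mul_top, Groth.Agent.CMFlat.ofList_ofFn,
          show f (Fin.last c) * d (Fin.last c) = -∑ j : Fin c, d j.castSucc * f j.castSucc by linear_combination hd]
        exact neg_mem (Ideal.sum_mem _ fun j _ => Ideal.mul_mem_left _ _ (Ideal.subset_span ⟨j, rfl⟩)))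
      rwa [smul_eq_mul, Ideal.mul_top, Groth.Agent.CMFlat.ofList_ofFn] at this
    induction i using Fin.lastCases with
    | last => exact hle hlast
    | cast i =>
      obtain ⟨e, he⟩ := Ideal.mem_span_range_iff_exists_fun.mp hlast
      have h2 := coeff_mem (fun j : Fin c => f j.castSucc) hf.1 (fun j => d j.castSucc + e j * f (Fin.last c)) (by
        rw [← hd, ← he, Finset.sum_mul, ← Finset.sum_add_distrib]
        exact Finset.sum_congr rfl fun j _ => by ring) i
      have := sub_mem (hle h2) (Ideal.mul_mem_left _ (e i) (Ideal.subset_span (Set.mem_range_self (f := f) (Fin.last c))))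
      simpa using this

theorem exists_coeff_of_mem_sq {A : Type u} [CommRing A] {c : ℕ} (f : Fin c → A) {x : A}
    (hx : x ∈ Ideal.span (Set.range f) ^ 2) :
    ∃ b : Fin c → A, (∀ i, b i ∈ Ideal.span (Set.range f)) ∧ x = ∑ i, b i * f i := by
  rw [pow_two] at hx
  induction hx using Submodule.mul_induction_on' with
  | mem_mul_mem m hm n hn =>
    obtain ⟨e, he⟩ := Ideal.mem_span_range_iff_exists_fun.mp hn
    exact ⟨fun i => m * e i, fun i => Ideal.mul_mem_right _ _ hm,
      by rw [← he, Finset.mul_sum]; exact Finset.sum_congr rfl fun i _ => by ring⟩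
  | add x _ y _ hx hy =>
    obtain ⟨b, hb, rfl⟩ := hx
    obtain ⟨b', hb', rfl⟩ := hy
    exact ⟨b + b', fun i => add_mem (hb i) (hb' i), by simp [add_mul, Finset.sum_add_distrib]⟩

/-- The equations are a basis of the conormal module. -/
theorem relGCI_cotangent {R : Type u} [CommRing R] {n c : ℕ} {F : Fin c → MvPolynomial (Fin n) R}
    (h : Synt.IsRelGCI R n c F) :
    LinearIndependent (Synt.RelGCIRing R n c F)
        (fun i : Fin c => (Ideal.span (Set.range F)).toCotangent ⟨F i, Ideal.subset_span (Set.mem_range_self i)⟩) ∧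
      Submodule.span (Synt.RelGCIRing R n c F) (Set.range
        (fun i : Fin c => (Ideal.span (Set.range F)).toCotangent ⟨F i, Ideal.subset_span (Set.mem_range_self i)⟩)) = ⊤ := by
  let J := Ideal.span (Set.range F)
  let v : Fin c → J.Cotangent := fun i => J.toCotangent ⟨F i, Ideal.subset_span (Set.mem_range_self i)⟩
  have hsum : ∀ a : Fin c → MvPolynomial (Fin n) R, ∑ i, Ideal.Quotient.mk J (a i) • v i =
      J.toCotangent ⟨∑ i, a i * F i, Ideal.sum_mem _ fun i _ => Ideal.mul_mem_left _ _ (Ideal.subset_span (Set.mem_range_self i))⟩ := by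
    intro a
    have : (⟨∑ i, a i * F i, Ideal.sum_mem _ fun i _ => Ideal.mul_mem_left _ _ (Ideal.subset_span (Set.mem_range_self i))⟩ : J) =
        ∑ i, a i • (⟨F i, Ideal.subset_span (Set.mem_range_self i)⟩ : J) := Subtype.ext (by simp)
    rw [this, map_sum]
    exact Finset.sum_congr rfl fun i _ => by
      rw [map_smul, ← Ideal.Quotient.algebraMap_eq, algebraMap_smul]
  refine ⟨Fintype.linearIndependent_iff.mpr fun g hg i => ?_, eq_top_iff.mpr fun y _ => ?_⟩
  · choose a ha using fun j => Ideal.Quotient.mk_surjective (g j)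
    have hg' : ∑ j, Ideal.Quotient.mk J (a j) • v j = 0 := by
      rw [← hg]; exact Finset.sum_congr rfl fun j _ => by rw [ha]
    rw [hsum, Ideal.toCotangent_eq_zero] at hg'
    obtain ⟨b, hb, hab⟩ := exists_coeff_of_mem_sq F hg'
    rw [← ha i, Ideal.Quotient.eq_zero_iff_mem]
    by_contra hai
    have hcol : J.colon ({a i} : Set (MvPolynomial (Fin n) R)) ≠ ⊤ := fun htop => hai (by
      have h1 : (1 : MvPolynomial (Fin n) R) ∈ J.colon ({a i} : Set (MvPolynomial (Fin n) R)) := htop ▸ Submodule.mem_top
      simpa [Submodule.mem_colon_singleton] using h1)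
    obtain ⟨m, hm, hle⟩ := Ideal.exists_le_maximal _ hcol
    have hJm : J ≤ m := fun x hx => hle (Submodule.mem_colon_singleton.mpr (Ideal.mul_mem_right _ _ hx))
    haveI := hm.isPrime
    have hw : IsWeaklyRegular (Localization.AtPrime m)
        (List.ofFn fun j => algebraMap _ (Localization.AtPrime m) (F j)) := by
      have := (relGCI_regular h m hJm).1.toIsWeaklyRegular
      rwa [List.map_ofFn] at this
    have h2 := coeff_mem _ hw (fun j => algebraMap _ (Localization.AtPrime m) (a j - b j)) (by
      simp only [← map_mul, ← map_sum, sub_mul, Finset.sum_sub_distrib]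
      rw [show (∑ j, a j * F j) = ∑ j, b j * F j from hab, sub_self, map_zero]) i
    rw [show (Set.range fun j => algebraMap _ (Localization.AtPrime m) (F j)) =
        algebraMap _ (Localization.AtPrime m) '' Set.range F from Set.range_comp _ F, ← Ideal.map_span,
      IsLocalization.algebraMap_mem_map_algebraMap_iff m.primeCompl (Localization.AtPrime m)] at h2
    obtain ⟨s, hs, hsa⟩ := h2
    refine hs (hle (Submodule.mem_colon_singleton.mpr ?_))
    have := add_mem hsa (Ideal.mul_mem_left J s (hb i))
    rwa [← mul_add, sub_add_cancel] at this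
  · obtain ⟨⟨x, hx⟩, rfl⟩ := Ideal.toCotangent_surjective J y
    obtain ⟨e, he⟩ := Ideal.mem_span_range_iff_exists_fun.mp hx
    have : (⟨x, hx⟩ : J) = ⟨∑ i, e i * F i, Ideal.sum_mem _ fun i _ => Ideal.mul_mem_left _ _ (Ideal.subset_span (Set.mem_range_self i))⟩ :=
      Subtype.ext he.symm
    rw [this, ← hsum]
    exact Submodule.sum_mem _ fun i _ => Submodule.smul_mem _ _ (Submodule.subset_span (Set.mem_range_self i))

end Groth.Agent.SyntLib
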