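import Mathlib.RingTheory.MvPolynomial.Basic
import Mathlib.RingTheory.Localization.Away.Basic
import Mathlib.Algebra.MvPolynomial.Rename
import Mathlib.RingTheory.Ideal.Quotient.Operations
import Mathlib.Data.Fin.Tuple.Basic

/-!
# Presentation of a principal localisation of a quotient of a polynomial ring
-/

set_option autoImplicit false
set_option linter.style.haveILetI false
universe u

open MvPolynomial

namespace Groth.Agent.SyntLib

variable {R : Type u} [CommRing R] {n : ℕ}

/-- The ideal presenting the localisation at `h`. -/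
noncomputable def awayIdeal (I : Ideal (MvPolynomial (Fin n) R)) (h : MvPolynomial (Fin n) R) :
    Ideal (MvPolynomial (Fin (n + 1)) R) :=
  I.map (rename Fin.castSucc) ⊔ Ideal.span {rename Fin.castSucc h * X (Fin.last n) - 1}

theorem awayIdeal_span {c : ℕ} (F : Fin c → MvPolynomial (Fin n) R) (h : MvPolynomial (Fin n) R) :
    awayIdeal (Ideal.span (Set.range F)) h =
      Ideal.span (Set.range (Fin.snoc (fun i => rename Fin.castSucc (F i)) (rename Fin.castSucc h * X (Fin.last n) - 1))) := by
  rw [awayIdeal, Ideal.map_span, ← Set.range_comp, Fin.range_snoc, Ideal.span_insert, sup_comm]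
  rfl

/-- The presentation map. -/
noncomputable def awayPres (I : Ideal (MvPolynomial (Fin n) R)) (h : MvPolynomial (Fin n) R) :
    MvPolynomial (Fin (n + 1)) R →ₐ[R] Localization.Away (Ideal.Quotient.mk I h) :=
  aeval (Fin.snoc (fun i => algebraMap (MvPolynomial (Fin n) R ⧸ I) (Localization.Away (Ideal.Quotient.mk I h))
    (Ideal.Quotient.mk I (X i))) (IsLocalization.Away.invSelf (Ideal.Quotient.mk I h)))

theorem awayPres_rename (I : Ideal (MvPolynomial (Fin n) R)) (h p : MvPolynomial (Fin n) R) :
    awayPres I h (rename Fin.castSucc p) =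
      algebraMap (MvPolynomial (Fin n) R ⧸ I) (Localization.Away (Ideal.Quotient.mk I h)) (Ideal.Quotient.mk I p) := by
  have : (awayPres I h).comp (rename Fin.castSucc) =
      (IsScalarTower.toAlgHom R (MvPolynomial (Fin n) R ⧸ I) (Localization.Away (Ideal.Quotient.mk I h))).comp
        (Ideal.Quotient.mkₐ R I) := algHom_ext fun i => by simp [awayPres]
  exact DFunLike.congr_fun this p

theorem awayPres_last (I : Ideal (MvPolynomial (Fin n) R)) (h : MvPolynomial (Fin n) R) :
    awayPres I h (X (Fin.last n)) = IsLocalization.Away.invSelf (Ideal.Quotient.mk I h) := by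
  simp [awayPres]

theorem awayPres_surjective (I : Ideal (MvPolynomial (Fin n) R)) (h : MvPolynomial (Fin n) R) :
    Function.Surjective (awayPres I h) := fun z => by
  obtain ⟨m, a, ha⟩ := IsLocalization.Away.surj (Ideal.Quotient.mk I h) z
  obtain ⟨a, rfl⟩ := Ideal.Quotient.mk_surjective a
  refine ⟨rename Fin.castSucc a * X (Fin.last n) ^ m, ?_⟩
  rw [map_mul, map_pow, awayPres_rename, awayPres_last, ← ha, mul_assoc, ← mul_pow,
    IsLocalization.Away.mul_invSelf, one_pow, mul_one]

theorem awayIdeal_le_ker (I : Ideal (MvPolynomial (Fin n) R)) (h : MvPolynomial (Fin n) R) :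
    awayIdeal I h ≤ RingHom.ker (awayPres I h).toRingHom := by
  refine sup_le (Ideal.map_le_iff_le_comap.mpr fun p hp => ?_) ((Ideal.span_singleton_le_iff_mem _).mpr ?_)
  · show awayPres I h (rename Fin.castSucc p) = 0
    rw [awayPres_rename, Ideal.Quotient.eq_zero_iff_mem.mpr hp, map_zero]
  · show awayPres I h _ = 0
    rw [map_sub, map_mul, awayPres_rename, awayPres_last, map_one, IsLocalization.Away.mul_invSelf, sub_self]

theorem ker_awayPres (I : Ideal (MvPolynomial (Fin n) R)) (h : MvPolynomial (Fin n) R) :
    RingHom.ker (awayPres I h).toRingHom = awayIdeal I h := by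
  refine le_antisymm (fun w hw => ?_) (awayIdeal_le_ker I h)
  let B := MvPolynomial (Fin (n + 1)) R ⧸ awayIdeal I h
  let base : MvPolynomial (Fin n) R ⧸ I →+* B :=
    Ideal.Quotient.lift I ((Ideal.Quotient.mk (awayIdeal I h)).comp (rename Fin.castSucc).toRingHom) fun p hp =>
      Ideal.Quotient.eq_zero_iff_mem.mpr (Submodule.mem_sup_left (Ideal.mem_map_of_mem _ hp))
  have hinv : Ideal.Quotient.mk (awayIdeal I h) (rename Fin.castSucc h) * Ideal.Quotient.mk _ (X (Fin.last n)) = 1 := by
    rw [← map_mul, ← map_one (Ideal.Quotient.mk (awayIdeal I h)), Ideal.Quotient.eq]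
    exact Submodule.mem_sup_right (Ideal.mem_span_singleton_self _)
  have hu : IsUnit (base (Ideal.Quotient.mk I h)) := IsUnit.of_mul_eq_one _ hinv
  let inv : Localization.Away (Ideal.Quotient.mk I h) →+* B := IsLocalization.Away.lift _ hu
  have hlast : inv (IsLocalization.Away.invSelf (Ideal.Quotient.mk I h)) = Ideal.Quotient.mk _ (X (Fin.last n)) := by
    refine hu.mul_left_cancel ?_
    rw [show base (Ideal.Quotient.mk I h) * inv (IsLocalization.Away.invSelf (Ideal.Quotient.mk I h)) = 1 by
      rw [← IsLocalization.Away.lift_eq (S := Localization.Away (Ideal.Quotient.mk I h)) (Ideal.Quotient.mk I h) hu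
        (Ideal.Quotient.mk I h), ← map_mul, IsLocalization.Away.mul_invSelf, map_one]]
    exact hinv.symm
  have key : inv.comp (awayPres I h).toRingHom = Ideal.Quotient.mk (awayIdeal I h) := by
    refine MvPolynomial.ringHom_ext (fun r => ?_) fun i => ?_
    · show inv (awayPres I h (C r)) = _
      rw [show (C r : MvPolynomial (Fin (n + 1)) R) = rename Fin.castSucc (C r : MvPolynomial (Fin n) R) from
        (rename_C _ _).symm, awayPres_rename, IsLocalization.Away.lift_eq]
      rfl
    · induction i using Fin.lastCases with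
      | last =>
        show inv (awayPres I h (X (Fin.last n))) = _
        rw [awayPres_last, hlast]
      | cast i =>
        show inv (awayPres I h (X i.castSucc)) = _
        rw [show (X i.castSucc : MvPolynomial (Fin (n + 1)) R) = rename Fin.castSucc (X i : MvPolynomial (Fin n) R) from
          (rename_X _ _).symm, awayPres_rename, IsLocalization.Away.lift_eq]
        rfl
  have hw' : awayPres I h w = 0 := hw
  exact Ideal.Quotient.eq_zero_iff_mem.mp (by rw [← key, RingHom.comp_apply, AlgHom.toRingHom_eq_coe, RingHom.coe_coe, hw', map_zero])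

/-- The localisation as a quotient. -/
noncomputable def awayEquiv (I : Ideal (MvPolynomial (Fin n) R)) (h : MvPolynomial (Fin n) R) :
    Localization.Away (Ideal.Quotient.mk I h) ≃ₐ[R] MvPolynomial (Fin (n + 1)) R ⧸ awayIdeal I h :=
  ((Ideal.quotientEquivAlgOfEq R (ker_awayPres I h).symm).trans
    (Ideal.quotientKerAlgEquivOfSurjective (awayPres_surjective I h))).symm

end Groth.Agent.SyntLib
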