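import Groth.Agent.SyntLib.NumCI
import Groth.Agent.SyntLib.AwayPres
import Groth.Agent.CMFlat.Quotient
import Groth.Agent.LocalDimBC.GCI
import Groth.Agent.Catenary.CM

/-!
# Complete intersections over a field
-/

set_option autoImplicit false
set_option linter.style.haveILetI false
universe u

open IsLocalRing RingTheory.Sequence MvPolynomial

namespace Groth.Agent.SyntLib

variable {k : Type u} [Field k]

theorem dim_poly (n : ℕ) : ringKrullDim (MvPolynomial (Fin n) k) = (n : WithBot ℕ∞) := by
  rw [MvPolynomial.ringKrullDim_of_isNoetherianRing, ringKrullDim_eq_zero_of_field, zero_add,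
    Nat.card_eq_fintype_card, Fintype.card_fin]

theorem height_add_dim_poly {n : ℕ} (Q : Ideal (MvPolynomial (Fin n) k)) [Q.IsPrime] :
    ∃ a b : ℕ, Q.height = (a : ℕ∞) ∧ ringKrullDim (MvPolynomial (Fin n) k ⧸ Q) = (b : WithBot ℕ∞) ∧ a + b = n := by
  obtain ⟨b, hb, hb'⟩ := DimFormula.exists_trdeg_eq_ringKrullDim k (MvPolynomial (Fin n) k ⧸ Q)
  obtain ⟨a, ha⟩ := ENat.ne_top_iff_exists.mp (Ideal.height_ne_top (I := Q) (Ideal.IsPrime.ne_top inferInstance))
  have h := DimFormula.height_add_ringKrullDim_quotient k (⟨Q, inferInstance⟩ : PrimeSpectrum (MvPolynomial (Fin n) k))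
  change (Q.height : WithBot ℕ∞) + ringKrullDim (MvPolynomial (Fin n) k ⧸ Q) = _ at h
  rw [← ha, hb', dim_poly] at h
  exact ⟨a, b, ha.symm, hb', by exact_mod_cast h⟩

theorem height_le_of_minimal {n c : ℕ} (f : Fin c → MvPolynomial (Fin n) k) {P : Ideal (MvPolynomial (Fin n) k)}
    (hP : P ∈ (Ideal.span (Set.range f)).minimalPrimes) : P.height ≤ (c : ℕ∞) := by
  classical
  haveI := hP.1.1
  refine (Ideal.height_le_card_of_mem_minimalPrimes_span_finset (p := P) (s := Finset.univ.image f)
    (by rwa [Finset.coe_image, Finset.coe_univ, Set.image_univ])).trans ?_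
  exact_mod_cast Finset.card_image_le.trans (by simp)

/-- The dimension of a principal localisation whose components have the expected codimension. -/
theorem dim_away_of_components {n c : ℕ} (f : Fin c → MvPolynomial (Fin n) k) (I : Ideal (MvPolynomial (Fin n) k))
    (g : MvPolynomial (Fin n) k) (hfI : Ideal.span (Set.range f) ≤ I)
    (hg : ∀ i ∈ I, ∃ N : ℕ, g ^ N * i ∈ Ideal.span (Set.range f))
    (hmin : ∀ P ∈ (Ideal.span (Set.range f)).minimalPrimes, g ∉ P → (c : ℕ∞) ≤ P.height)
    [Nontrivial (Localization.Away (Ideal.Quotient.mk I g))] :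
    c ≤ n ∧ RingHom.ker (awayPres I g).toRingHom = Ideal.span (Set.range
        (Fin.snoc (fun i => rename Fin.castSucc (f i)) (rename Fin.castSucc g * X (Fin.last n) - 1) :
          Fin (c + 1) → MvPolynomial (Fin (n + 1)) k)) ∧
      ringKrullDim (Localization.Away (Ideal.Quotient.mk I g)) = ((n - c : ℕ) : WithBot ℕ∞) := by
  let B := Localization.Away (Ideal.Quotient.mk I g)
  haveI : IsNoetherianRing B := isNoetherianRing_of_surjective _ _ (awayPres I g).toRingHom (awayPres_surjective I g)
  -- the kernel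
  let G : Fin (c + 1) → MvPolynomial (Fin (n + 1)) k :=
    Fin.snoc (fun i => rename Fin.castSucc (f i)) (rename Fin.castSucc g * X (Fin.last n) - 1)
  have hker : RingHom.ker (awayPres I g).toRingHom = Ideal.span (Set.range G) := by
    rw [ker_awayPres, ← awayIdeal_span]
    refine le_antisymm ?_ (sup_le_sup_right (Ideal.map_mono hfI) _)
    refine sup_le (Ideal.map_le_iff_le_comap.mpr fun i hi => ?_) le_sup_right
    obtain ⟨N, hN⟩ := hg i hi
    let J := awayIdeal (Ideal.span (Set.range f)) g
    have h1 : Ideal.Quotient.mk J (rename Fin.castSucc g) * Ideal.Quotient.mk J (X (Fin.last n)) = 1 := by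
      rw [← map_mul, ← map_one (Ideal.Quotient.mk J), Ideal.Quotient.eq]
      exact Submodule.mem_sup_right (Ideal.mem_span_singleton_self _)
    rw [Ideal.mem_comap, ← Ideal.Quotient.eq_zero_iff_mem]
    have h2 : Ideal.Quotient.mk J (rename Fin.castSucc g) ^ N * Ideal.Quotient.mk J (rename Fin.castSucc i) = 0 := by
      rw [← map_pow, ← map_mul, Ideal.Quotient.eq_zero_iff_mem, ← map_pow, ← map_mul]
      exact Submodule.mem_sup_left (Ideal.mem_map_of_mem _ hN)
    calc Ideal.Quotient.mk J (rename Fin.castSucc i)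
        = (Ideal.Quotient.mk J (rename Fin.castSucc g) * Ideal.Quotient.mk J (X (Fin.last n))) ^ N *
            Ideal.Quotient.mk J (rename Fin.castSucc i) := by rw [h1, one_pow, one_mul]
      _ = Ideal.Quotient.mk J (X (Fin.last n)) ^ N *
            (Ideal.Quotient.mk J (rename Fin.castSucc g) ^ N * Ideal.Quotient.mk J (rename Fin.castSucc i)) := by
          rw [mul_pow]; ring
      _ = 0 := by rw [h2, mul_zero]
  -- some component meets the open set, so `c ≤ n`
  have hcomp : ∀ Q : PrimeSpectrum B, ∃ P ∈ (Ideal.span (Set.range f)).minimalPrimes, g ∉ P ∧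
      P ≤ (PrimeSpectrum.comap ((algebraMap (MvPolynomial (Fin n) k ⧸ I) B).comp (Ideal.Quotient.mk I)) Q).asIdeal := by
    intro Q
    have hle : Ideal.span (Set.range f) ≤
        (PrimeSpectrum.comap ((algebraMap (MvPolynomial (Fin n) k ⧸ I) B).comp (Ideal.Quotient.mk I)) Q).asIdeal :=
      fun i hi => by
        show ((algebraMap (MvPolynomial (Fin n) k ⧸ I) B).comp (Ideal.Quotient.mk I)) i ∈ Q.asIdeal
        rw [RingHom.comp_apply, Ideal.Quotient.eq_zero_iff_mem.mpr (hfI hi), map_zero]
        exact zero_mem _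
    obtain ⟨P, hP, hPQ⟩ := Ideal.exists_minimalPrimes_le hle
    refine ⟨P, hP, fun hgP => ?_, hPQ⟩
    exact Q.2.ne_top (Ideal.eq_top_of_isUnit_mem _ (hPQ hgP) (IsLocalization.Away.algebraMap_isUnit (Ideal.Quotient.mk I g)))
  have hdimP : ∀ P ∈ (Ideal.span (Set.range f)).minimalPrimes, g ∉ P →
      c ≤ n ∧ ringKrullDim (MvPolynomial (Fin n) k ⧸ P) ≤ ((n - c : ℕ) : WithBot ℕ∞) := by
    intro P hP hgP
    haveI := hP.1.1
    obtain ⟨a, b, ha, hb, hab⟩ := height_add_dim_poly P
    have := hmin P hP hgP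
    rw [ha, Nat.cast_le] at this
    exact ⟨by omega, by rw [hb]; exact_mod_cast (show b ≤ n - c by omega)⟩
  obtain ⟨Q0⟩ : Nonempty (PrimeSpectrum B) := inferInstance
  obtain ⟨P0, hP0, hgP0, -⟩ := hcomp Q0
  have hcn : c ≤ n := (hdimP P0 hP0 hgP0).1
  refine ⟨hcn, hker, le_antisymm ?_ ?_⟩
  · rw [ringKrullDim, Order.krullDim]
    refine iSup_le fun l => ?_
    obtain ⟨P, hP, hgP, hPQ⟩ := hcomp l.head
    refine le_trans ?_ (hdimP P hP hgP).2
    rw [ringKrullDim_quotient]
    let χ := (algebraMap (MvPolynomial (Fin n) k ⧸ I) B).comp (Ideal.Quotient.mk I)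
    let emb : ∀ i : Fin (l.length + 1), PrimeSpectrum.zeroLocus (P : Set (MvPolynomial (Fin n) k)) := fun i =>
      ⟨PrimeSpectrum.comap χ (l i), fun x hx => Ideal.comap_mono (f := χ) (l.monotone (Fin.zero_le i)) (hPQ hx)⟩
    have hmono : StrictMono emb := fun i j hij => by
      refine lt_of_le_of_ne (Ideal.comap_mono (f := χ) (l.monotone hij.le)) fun h => ?_
      refine (l.strictMono hij).ne (PrimeSpectrum.ext ?_)
      have h' : ((l i).asIdeal.comap (algebraMap _ B)).comap (Ideal.Quotient.mk I) =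
          ((l j).asIdeal.comap (algebraMap _ B)).comap (Ideal.Quotient.mk I) :=
        congrArg (fun z : PrimeSpectrum.zeroLocus (P : Set (MvPolynomial (Fin n) k)) => z.1.asIdeal) h
      have h'' := Ideal.comap_injective_of_surjective _ Ideal.Quotient.mk_surjective h'
      rw [← IsLocalization.map_under (Submonoid.powers (Ideal.Quotient.mk I g)) B (l i).asIdeal,
        ← IsLocalization.map_under (Submonoid.powers (Ideal.Quotient.mk I g)) B (l j).asIdeal]
      exact congrArg _ h''
    exact Order.LTSeries.length_le_krullDim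
      ({ length := l.length, toFun := emb, step := fun i => hmono i.castSucc_lt_succ } : LTSeries _)
  · obtain ⟨Q, hQ⟩ := Ideal.nonempty_minimalPrimes (I := RingHom.ker (awayPres I g).toRingHom) (RingHom.ker_ne_top _)
    refine le_trans (le_of_eq (by rw [show n + 1 - (c + 1) = n - c by omega]))
      ((LocalDimBC.le_ringKrullDim_quotient_of_span (K := k) (dim_poly (n + 1)) G Q (hker ▸ hQ)).trans ?_)
    rw [← ringKrullDim_eq_of_ringEquiv (RingHom.quotientKerEquivOfSurjective (f := (awayPres I g).toRingHom)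
      (awayPres_surjective I g))]
    exact ringKrullDim_le_of_surjective (Ideal.Quotient.factor hQ.1.2) (Ideal.Quotient.factor_surjective _)

/-- A principal localisation is a global complete intersection when the components have the expected codimension. -/
theorem isGlobalCI_away {n c : ℕ} (f : Fin c → MvPolynomial (Fin n) k) (I : Ideal (MvPolynomial (Fin n) k))
    (g : MvPolynomial (Fin n) k) (hfI : Ideal.span (Set.range f) ≤ I)
    (hg : ∀ i ∈ I, ∃ N : ℕ, g ^ N * i ∈ Ideal.span (Set.range f))
    (hmin : ∀ P ∈ (Ideal.span (Set.range f)).minimalPrimes, g ∉ P → (c : ℕ∞) ≤ P.height) :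
    Synt.IsGlobalCI k (Localization.Away (Ideal.Quotient.mk I g)) := by
  let B := Localization.Away (Ideal.Quotient.mk I g)
  by_cases hB : Subsingleton B
  · exact Or.inl hB
  haveI : Nontrivial (Localization.Away (Ideal.Quotient.mk I g)) := not_subsingleton_iff_nontrivial.mp hB
  obtain ⟨hcn, hker, hdim⟩ := dim_away_of_components f I g hfI hg hmin
  exact Or.inr ⟨n + 1, c + 1, by omega, awayPres I g, _, awayPres_surjective I g, hker,
    by rw [show n + 1 - (c + 1) = n - c by omega]; exact hdim⟩

theorem isGlobalCI_of_algEquiv {S S' : Type u} [CommRing S] [Algebra k S] [CommRing S'] [Algebra k S'] (e : S ≃ₐ[k] S')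
    (h : Synt.IsGlobalCI k S) : Synt.IsGlobalCI k S' := by
  rcases h with h | ⟨n, c, hcn, φ, r, hφ, hker, hdim⟩
  · exact Or.inl e.toEquiv.symm.subsingleton
  refine Or.inr ⟨n, c, hcn, e.toAlgHom.comp φ, r, e.surjective.comp hφ, ?_,
    by rw [← ringKrullDim_eq_of_ringEquiv e.toRingEquiv, hdim]⟩
  rw [← hker]
  ext a
  show e (φ a) = 0 ↔ φ a = 0
  exact map_eq_zero_iff e e.injective

theorem isCIOver_of_algEquiv {S S' : Type u} [CommRing S] [IsLocalRing S] [Algebra k S] [CommRing S'] [IsLocalRing S']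
    [Algebra k S'] (e : S ≃ₐ[k] S') (h : Synt.IsCIOver k S) : Synt.IsCIOver k S' := by
  obtain ⟨R, i1, i2, i3, hR, rs, hm, hreg, ⟨e'⟩⟩ := h
  exact ⟨R, i1, i2, i3, hR, rs, hm, hreg, ⟨e.symm.trans e'⟩⟩

/-- Heights of the components of a global complete intersection. -/
theorem height_eq_of_gci {n c : ℕ} {S : Type u} [CommRing S] [Algebra k S] (hcn : c ≤ n)
    (φ : MvPolynomial (Fin n) k →ₐ[k] S) (r : Fin c → MvPolynomial (Fin n) k) (hφ : Function.Surjective φ)
    (hker : RingHom.ker φ.toRingHom = Ideal.span (Set.range r)) (hdim : ringKrullDim S = ((n - c : ℕ) : WithBot ℕ∞))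
    {P : Ideal (MvPolynomial (Fin n) k)} [P.IsPrime] (hP : Ideal.span (Set.range r) ≤ P) : (c : ℕ∞) ≤ P.height := by
  obtain ⟨a, b, ha, hb, hab⟩ := height_add_dim_poly P
  have h1 : ringKrullDim (MvPolynomial (Fin n) k ⧸ P) ≤ ((n - c : ℕ) : WithBot ℕ∞) := by
    rw [← hdim, ← ringKrullDim_eq_of_ringEquiv (RingHom.quotientKerEquivOfSurjective (f := φ.toRingHom) hφ)]
    exact ringKrullDim_le_of_surjective (Ideal.Quotient.factor (hker ▸ hP)) (Ideal.Quotient.factor_surjective _)
  rw [hb, Nat.cast_le] at h1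
  rw [ha, Nat.cast_le]
  omega

/-- The equations of a global complete intersection form regular sequences in the local rings. -/
theorem isRegular_of_gci {n c : ℕ} {S : Type u} [CommRing S] [Algebra k S] (hcn : c ≤ n)
    (φ : MvPolynomial (Fin n) k →ₐ[k] S) (r : Fin c → MvPolynomial (Fin n) k) (hφ : Function.Surjective φ)
    (hker : RingHom.ker φ.toRingHom = Ideal.span (Set.range r)) (hdim : ringKrullDim S = ((n - c : ℕ) : WithBot ℕ∞))
    (P : Ideal (MvPolynomial (Fin n) k)) [P.IsPrime] (hP : Ideal.span (Set.range r) ≤ P) :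
    IsRegular (Localization.AtPrime P) ((List.ofFn r).map (algebraMap _ (Localization.AtPrime P))) := by
  haveI : IsRegularLocalRing (Localization.AtPrime P) := IsRegularRing.isRegularLocalRing_localization P
  haveI := CMFlat.isCohenMacaulayLocalRing_of_isRegularLocalRing (Localization.AtPrime P)
  let xs := (List.ofFn r).map (algebraMap _ (Localization.AtPrime P))
  have hxs : Ideal.ofList xs = (Ideal.span (Set.range r)).map (algebraMap _ (Localization.AtPrime P)) := by
    rw [← Groth.Agent.CMFlat.ofList_ofFn, Ideal.map_ofList]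
  have hm : ∀ x ∈ xs, x ∈ maximalIdeal (Localization.AtPrime P) := fun x hx => by
    obtain ⟨y, hy, rfl⟩ := List.mem_map.mp hx
    exact (IsLocalization.AtPrime.to_map_mem_maximal_iff _ P y).mpr (hP (Ideal.subset_span (List.mem_ofFn.mp hy)))
  obtain ⟨hw, -⟩ := Groth.Agent.CMFlat.isWeaklyRegular_of_height xs hm (fun J hJ hJle => by
    haveI := hJ
    rw [show J.height = (J.comap (algebraMap _ (Localization.AtPrime P))).height from
      (IsLocalization.height_under P.primeCompl J).symm]
    simp only [xs, List.length_map, List.length_ofFn]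
    exact height_eq_of_gci hcn φ r hφ hker hdim (Ideal.map_le_iff_le_comap.mp (hxs ▸ hJle)))
  exact ⟨hw, by
    rw [smul_eq_mul, Ideal.mul_top]
    exact Ne.symm (ne_top_of_le_ne_top (maximalIdeal.isMaximal _).ne_top (Ideal.span_le.mpr hm))⟩

/-- Principal localisations of global complete intersections. -/
theorem isGlobalCI_localization_away {S : Type u} [CommRing S] [Algebra k S] (g : S) (h : Synt.IsGlobalCI k S) :
    Synt.IsGlobalCI k (Localization.Away g) := by
  rcases h with h | ⟨n, c, hcn, φ, r, hφ, hker, hdim⟩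
  · exact Or.inl (IsLocalization.subsingleton (M := Submonoid.powers g) (by
      rw [Subsingleton.elim (0 : S) g]; exact Submonoid.mem_powers g))
  obtain ⟨a, rfl⟩ := hφ g
  let e : (MvPolynomial (Fin n) k ⧸ Ideal.span (Set.range r)) ≃ₐ[k] S :=
    (Ideal.quotientEquivAlgOfEq k hker.symm).trans (Ideal.quotientKerAlgEquivOfSurjective hφ)
  have he : e (Ideal.Quotient.mk _ a) = φ a := rfl
  refine isGlobalCI_of_algEquiv ?_ (isGlobalCI_away r (Ideal.span (Set.range r)) a le_rfl (fun i hi => ⟨0, by simpa using hi⟩)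
    fun P hP _ => by haveI := hP.1.1; exact height_eq_of_gci hcn φ r hφ hker hdim hP.1.2)
  have hM : Submonoid.map e.toRingEquiv.toMonoidHom (Submonoid.powers (Ideal.Quotient.mk (Ideal.span (Set.range r)) a)) =
      Submonoid.powers (φ a) := by rw [Submonoid.map_powers]; rfl
  exact AlgEquiv.ofRingEquiv (f := IsLocalization.ringEquivOfRingEquiv (Localization.Away _) (Localization.Away (φ a))
    e.toRingEquiv hM) fun x => by
    rw [IsScalarTower.algebraMap_apply k (MvPolynomial (Fin n) k ⧸ Ideal.span (Set.range r)),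
      IsLocalization.ringEquivOfRingEquiv_eq, IsScalarTower.algebraMap_apply k S (Localization.Away (φ a))]
    exact congrArg _ (e.commutes x)

/-- The local presentation at a prime. -/
theorem exists_local_pres {n : ℕ} {S : Type u} [CommRing S] [Algebra k S] (φ : MvPolynomial (Fin n) k →ₐ[k] S)
    (hφ : Function.Surjective φ) (q : Ideal S) [q.IsPrime] :
    ∃ ψ : Localization.AtPrime (q.comap φ.toRingHom) →ₐ[k] Localization.AtPrime q, Function.Surjective ψ ∧
      RingHom.ker ψ.toRingHom = (RingHom.ker φ.toRingHom).map (algebraMap _ (Localization.AtPrime (q.comap φ.toRingHom))) := by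
  let A := Localization.AtPrime (q.comap φ.toRingHom)
  let T := Localization.AtPrime q
  let ψ₀ : A →+* T := Localization.localRingHom (q.comap φ.toRingHom) q φ.toRingHom rfl
  have hM : Submonoid.map φ.toRingHom (q.comap φ.toRingHom).primeCompl = q.primeCompl := by
    ext t
    constructor
    · rintro ⟨u, hu, rfl⟩; exact hu
    · intro ht
      obtain ⟨u, rfl⟩ := hφ t
      exact ⟨u, ht, rfl⟩
  refine ⟨{ ψ₀ with commutes' := fun x => ?_ }, fun z => ?_, IsLocalization.ker_map (S := A) T φ.toRingHom hM⟩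
  · show ψ₀ (algebraMap k A x) = algebraMap k T x
    rw [IsScalarTower.algebraMap_apply k (MvPolynomial (Fin n) k) A, Localization.localRingHom_to_map,
      IsScalarTower.algebraMap_apply k S T]
    exact congrArg _ (φ.commutes x)
  · obtain ⟨t, s, rfl⟩ := IsLocalization.exists_mk'_eq q.primeCompl z
    obtain ⟨a, rfl⟩ := hφ t
    obtain ⟨b, hb⟩ := hφ (s : S)
    refine ⟨IsLocalization.mk' A a (⟨b, fun hbP => s.2 (hb ▸ hbP)⟩ : (q.comap φ.toRingHom).primeCompl), ?_⟩
    exact (Localization.localRingHom_mk' (q.comap φ.toRingHom) q φ.toRingHom rfl a _).trans (by congr 1; exact Subtype.ext hb)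

/-- Complete intersection at a prime, through a presentation. -/
theorem isCIOver_atPrime_iff {n : ℕ} {S : Type u} [CommRing S] [Algebra k S] (φ : MvPolynomial (Fin n) k →ₐ[k] S)
    (hφ : Function.Surjective φ) (q : Ideal S) [q.IsPrime] :
    Synt.IsCIOver k (Localization.AtPrime q) ↔ ∃ rs : List (Localization.AtPrime (q.comap φ.toRingHom)),
      IsRegular (Localization.AtPrime (q.comap φ.toRingHom)) rs ∧
        (RingHom.ker φ.toRingHom).map (algebraMap _ (Localization.AtPrime (q.comap φ.toRingHom))) = Ideal.ofList rs := by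
  obtain ⟨ψ, hψ, hkψ⟩ := exists_local_pres φ hφ q
  haveI : IsRegularLocalRing (Localization.AtPrime (q.comap φ.toRingHom)) := IsRegularRing.isRegularLocalRing_localization _
  haveI : Algebra.EssFiniteType (MvPolynomial (Fin n) k) (Localization.AtPrime (q.comap φ.toRingHom)) :=
    Algebra.EssFiniteType.of_isLocalization _ (q.comap φ.toRingHom).primeCompl
  haveI : Algebra.EssFiniteType k (Localization.AtPrime (q.comap φ.toRingHom)) :=
    Algebra.EssFiniteType.comp k (MvPolynomial (Fin n) k) _
  rw [isCIOver_iff_numCI ψ hψ, numCI_iff_regular ψ.toRingHom hψ, hkψ]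

/-- The local rings of a global complete intersection. -/
theorem isCIOver_of_isGlobalCI {S : Type u} [CommRing S] [Algebra k S] (h : Synt.IsGlobalCI k S) (q : Ideal S) [q.IsPrime] :
    Synt.IsCIOver k (Localization.AtPrime q) := by
  rcases h with h | ⟨n, c, hcn, φ, r, hφ, hker, hdim⟩
  · exact absurd (Subsingleton.elim _ _) ((inferInstance : q.IsPrime).ne_top ∘ fun e : (0 : S) = 1 =>
      (Ideal.eq_top_iff_one _).mpr (e ▸ q.zero_mem))
  refine (isCIOver_atPrime_iff φ hφ q).mpr ⟨_, isRegular_of_gci hcn φ r hφ hker hdim _ (hker ▸ Ideal.comap_mono bot_le), ?_⟩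
  rw [hker, ← Groth.Agent.CMFlat.ofList_ofFn, Ideal.map_ofList]

/-- Spreading out a complete intersection. -/
theorem exists_away_isGlobalCI_aux {n : ℕ} (I : Ideal (MvPolynomial (Fin n) k)) (q : Ideal (MvPolynomial (Fin n) k ⧸ I))
    [q.IsPrime] (rs : List (Localization.AtPrime (q.comap (Ideal.Quotient.mk I))))
    (hreg : IsRegular (Localization.AtPrime (q.comap (Ideal.Quotient.mk I))) rs)
    (hI : I.map (algebraMap _ (Localization.AtPrime (q.comap (Ideal.Quotient.mk I)))) = Ideal.ofList rs) :
    ∃ g : MvPolynomial (Fin n) k, g ∉ q.comap (Ideal.Quotient.mk I) ∧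
      Synt.IsGlobalCI k (Localization.Away (Ideal.Quotient.mk I g)) := by
  classical
  let P' := q.comap (Ideal.Quotient.mk I)
  let A := Localization.AtPrime P'
  let c := rs.length
  have hlift : ∀ i : Fin c, ∃ (f : MvPolynomial (Fin n) k) (u : A), f ∈ I ∧ IsUnit u ∧ algebraMap _ A f = u * rs.get i := by
    intro i
    have h1 : rs.get i ∈ I.map (algebraMap _ A) := hI ▸ Ideal.subset_span (List.get_mem rs i)
    obtain ⟨⟨⟨a, ha⟩, s⟩, hs⟩ := (IsLocalization.mem_map_algebraMap_iff P'.primeCompl A).mp h1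
    exact ⟨a, algebraMap (MvPolynomial (Fin n) k) A s, ha, IsLocalization.map_units A s, by rw [mul_comm]; exact hs.symm⟩
  choose f u hfI hu hfu using hlift
  let J := Ideal.span (Set.range f)
  have hJI : J ≤ I := Ideal.span_le.mpr (by rintro _ ⟨i, rfl⟩; exact hfI i)
  have hJmap : J.map (algebraMap _ A) = Ideal.ofList rs := by
    refine le_antisymm (hI ▸ Ideal.map_mono hJI) (Ideal.span_le.mpr fun x hx => ?_)
    obtain ⟨i, rfl⟩ := List.get_of_mem hx
    refine (Ideal.unit_mul_mem_iff_mem _ (hu i)).mp ?_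
    rw [← hfu]
    exact Ideal.mem_map_of_mem _ (Ideal.subset_span (Set.mem_range_self i))
  -- one element killing `I` modulo `J`
  obtain ⟨T, hT⟩ : I.FG := IsNoetherian.noetherian I
  have hs : ∀ z : T, ∃ s : P'.primeCompl, (s : MvPolynomial (Fin n) k) * z ∈ J := fun z => by
    have h1 : algebraMap _ A (z : MvPolynomial (Fin n) k) ∈ J.map (algebraMap _ A) := by
      rw [hJmap, ← hI]; exact Ideal.mem_map_of_mem _ (hT ▸ Ideal.subset_span z.2)
    rw [IsLocalization.algebraMap_mem_map_algebraMap_iff P'.primeCompl A] at h1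
    obtain ⟨s, hs, h⟩ := h1
    exact ⟨⟨s, hs⟩, h⟩
  choose s hs using hs
  let g0 : MvPolynomial (Fin n) k := ∏ z : T, (s z : MvPolynomial (Fin n) k)
  have hg0 : g0 ∉ P' := (Submonoid.prod_mem P'.primeCompl fun z _ => (s z).2 : g0 ∈ P'.primeCompl)
  have hkill : ∀ i ∈ I, g0 * i ∈ J := by
    intro i hi
    rw [← hT] at hi
    induction hi using Submodule.span_induction with
    | mem z hz =>
      obtain ⟨e, he⟩ : (s ⟨z, hz⟩ : MvPolynomial (Fin n) k) ∣ g0 :=
        Finset.dvd_prod_of_mem (fun z : T => (s z : MvPolynomial (Fin n) k)) (Finset.mem_univ (⟨z, hz⟩ : T))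
      rw [he, mul_comm (s ⟨z, hz⟩ : MvPolynomial (Fin n) k), mul_assoc]
      exact Ideal.mul_mem_left _ _ (hs ⟨z, hz⟩)
    | zero => simp
    | add x y _ _ hx hy => rw [mul_add]; exact add_mem hx hy
    | smul a x _ hx => rw [smul_eq_mul, mul_left_comm]; exact Ideal.mul_mem_left _ _ hx
  -- one element in the components away from `P'`
  let bad := (Ideal.finite_minimalPrimes_of_isNoetherianRing (MvPolynomial (Fin n) k) J).toFinset.filter fun P => ¬ P ≤ P'
  have hz : ∀ P : bad, ∃ z ∈ P.1, z ∉ P' := fun P => SetLike.not_le_iff_exists.mp (Finset.mem_filter.mp P.2).2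
  choose z hzP hzP' using hz
  let g1 : MvPolynomial (Fin n) k := ∏ P : bad, z P
  have hg1 : g1 ∉ P' := (Submonoid.prod_mem P'.primeCompl fun P _ => hzP' P : g1 ∈ P'.primeCompl)
  refine ⟨g0 * g1, fun h => ((inferInstance : P'.IsPrime).mem_or_mem h).elim hg0 hg1,
    isGlobalCI_away f I (g0 * g1) hJI (fun i hi => ⟨1, ?_⟩) fun P hP hgP => ?_⟩
  · rw [pow_one, mul_comm g0, mul_assoc]; exact Ideal.mul_mem_left _ _ (hkill i hi)
  haveI := hP.1.1
  have hPP' : P ≤ P' := by
    by_contra hcon
    have hmem : P ∈ bad := Finset.mem_filter.mpr ⟨(Set.Finite.mem_toFinset _).mpr hP, hcon⟩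
    refine hgP (Ideal.mul_mem_left _ _ ?_)
    exact Ideal.mem_of_dvd _ (Finset.dvd_prod_of_mem z (Finset.mem_univ (⟨P, hmem⟩ : bad))) (hzP ⟨P, hmem⟩)
  have hd : Disjoint (P'.primeCompl : Set (MvPolynomial (Fin n) k)) (P : Set _) :=
    Set.disjoint_left.mpr fun x hx hxP => hx (hPP' hxP)
  haveI := IsLocalization.isPrime_of_isPrime_disjoint P'.primeCompl A P inferInstance hd
  haveI : IsNoetherianRing A := IsLocalization.isNoetherianRing P'.primeCompl A inferInstance
  have h1 := Catenary.length_le_height hreg.toIsWeaklyRegular (P.map (algebraMap _ A)) fun x hx => by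
    have : x ∈ J.map (algebraMap _ A) := hJmap ▸ Ideal.subset_span hx
    exact Ideal.map_mono hP.1.2 this
  refine h1.trans (le_of_eq ?_)
  rw [← IsLocalization.height_under P'.primeCompl (P.map (algebraMap _ A))]
  exact congrArg _ (IsLocalization.comap_map_of_isPrime_disjoint P'.primeCompl A inferInstance hd)

/-- A complete intersection point has a global complete intersection neighbourhood. -/
theorem exists_away_isGlobalCI {S : Type u} [CommRing S] [Algebra k S] [Algebra.FiniteType k S] (q : Ideal S) [q.IsPrime]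
    (h : Synt.IsCIOver k (Localization.AtPrime q)) : ∃ g : S, g ∉ q ∧ Synt.IsGlobalCI k (Localization.Away g) := by
  obtain ⟨n, φ, hφ⟩ := Algebra.FiniteType.iff_quotient_mvPolynomial''.mp ‹Algebra.FiniteType k S›
  let e : (MvPolynomial (Fin n) k ⧸ RingHom.ker φ.toRingHom) ≃ₐ[k] S := Ideal.quotientKerAlgEquivOfSurjective hφ
  obtain ⟨rs, hreg, hI⟩ := (isCIOver_atPrime_iff φ hφ q).mp h
  let q₀ := q.comap e.toRingEquiv.toRingHom
  have hq : q₀.comap (Ideal.Quotient.mk (RingHom.ker φ.toRingHom)) = q.comap φ.toRingHom := rfl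
  obtain ⟨g, hg, hG⟩ := exists_away_isGlobalCI_aux (RingHom.ker φ.toRingHom) q₀ rs hreg hI
  refine ⟨φ g, hg, isGlobalCI_of_algEquiv ?_ hG⟩
  have hM : Submonoid.map e.toRingEquiv.toMonoidHom (Submonoid.powers (Ideal.Quotient.mk (RingHom.ker φ.toRingHom) g)) =
      Submonoid.powers (φ g) := by rw [Submonoid.map_powers]; rfl
  exact AlgEquiv.ofRingEquiv (f := IsLocalization.ringEquivOfRingEquiv (Localization.Away _) (Localization.Away (φ g))
    e.toRingEquiv hM) fun x => by
    rw [IsScalarTower.algebraMap_apply k (MvPolynomial (Fin n) k ⧸ RingHom.ker φ.toRingHom),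
      IsLocalization.ringEquivOfRingEquiv_eq, IsScalarTower.algebraMap_apply k S (Localization.Away (φ g))]
    exact congrArg _ (e.commutes x)

theorem isCIOver_of_away {S : Type u} [CommRing S] [Algebra k S] (g : S) (q : Ideal S) [q.IsPrime] (hg : g ∉ q)
    (h : ∀ (Q : Ideal (Localization.Away g)) [Q.IsPrime], Synt.IsCIOver k (Localization.AtPrime Q)) :
    Synt.IsCIOver k (Localization.AtPrime q) := by
  have hd : Disjoint ((Submonoid.powers g : Submonoid S) : Set S) (q : Set S) :=
    (Ideal.disjoint_powers_iff_notMem g (Ideal.IsPrime.isRadical ‹_›)).mpr hg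
  haveI := IsLocalization.isPrime_of_isPrime_disjoint (Submonoid.powers g) (Localization.Away g) q ‹_› hd
  let Q := q.map (algebraMap S (Localization.Away g))
  have hQ : Q.comap (algebraMap S (Localization.Away g)) = q :=
    IsLocalization.under_map_of_isPrime_disjoint (Submonoid.powers g) (Localization.Away g) ‹_› hd
  haveI := IsLocalization.isLocalization_isLocalization_atPrime_isLocalization (Submonoid.powers g)
    (Localization.AtPrime Q) Q
  haveI : IsLocalization q.primeCompl (Localization.AtPrime Q) := by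
    rw [show q.primeCompl = (Q.comap (algebraMap S (Localization.Away g))).primeCompl from
      Submonoid.ext fun a => (not_congr (SetLike.ext_iff.mp hQ a)).symm]
    infer_instance
  exact isCIOver_of_algEquiv ((IsLocalization.algEquiv q.primeCompl (Localization.AtPrime Q)
    (Localization.AtPrime q)).restrictScalars k) (h Q)

/-- The local rings of a local complete intersection. -/
theorem isCIOver_of_isLCIOver {S : Type u} [CommRing S] [Algebra k S] (h : Synt.IsLCIOver k S) (q : Ideal S) [q.IsPrime] :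
    Synt.IsCIOver k (Localization.AtPrime q) := by
  obtain ⟨g, hg, hG⟩ := h.2 ⟨q, inferInstance⟩
  exact isCIOver_of_away g q hg fun Q _ => isCIOver_of_isGlobalCI hG Q

theorem isLCIOver_iff {S : Type u} [CommRing S] [Algebra k S] [Algebra.FiniteType k S] :
    Synt.IsLCIOver k S ↔ ∀ p : PrimeSpectrum S, Synt.IsCIOver k (Localization.AtPrime p.asIdeal) :=
  ⟨fun h p => isCIOver_of_isLCIOver h p.asIdeal,
    fun h => ⟨inferInstance, fun p => exists_away_isGlobalCI p.asIdeal (h p)⟩⟩

end Groth.Agent.SyntLib
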