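import Groth.Agent.SyntLib.Field
import Groth.Agent.InjFibre.RegSeq
import Groth.Agent.LocalCrit.Basic
import Mathlib.RingTheory.TensorProduct.MvPolynomial
import Mathlib.RingTheory.LocalRing.ResidueField.Fiber

/-!
# Fibres of a presented algebra
-/

set_option autoImplicit false
set_option linter.style.haveILetI false
universe u

open IsLocalRing RingTheory.Sequence MvPolynomial
open scoped TensorProduct

namespace Groth.Agent.SyntLib

/-- Reduction of the coefficients. -/
noncomputable abbrev red {R : Type u} [CommRing R] (κ : Type u) [CommRing κ] [Algebra R κ] (n : ℕ) :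
    MvPolynomial (Fin n) R →+* MvPolynomial (Fin n) κ :=
  MvPolynomial.map (algebraMap R κ)

/-- The presentation of a base change. -/
noncomputable def fibrePres {R : Type u} [CommRing R] (κ : Type u) [CommRing κ] [Algebra R κ] {n : ℕ}
    (I : Ideal (MvPolynomial (Fin n) R)) :
    MvPolynomial (Fin n) κ →ₐ[κ] κ ⊗[R] (MvPolynomial (Fin n) R ⧸ I) :=
  (Algebra.TensorProduct.map (AlgHom.id κ κ) (Ideal.Quotient.mkₐ R I)).comp
    (MvPolynomial.algebraTensorAlgEquiv R κ).symm.toAlgHom

theorem fibrePres_map {R : Type u} [CommRing R] {κ : Type u} [CommRing κ] [Algebra R κ] {n : ℕ}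
    (I : Ideal (MvPolynomial (Fin n) R)) (x : MvPolynomial (Fin n) R) :
    fibrePres κ I (red κ n x) = (1 : κ) ⊗ₜ[R] Ideal.Quotient.mk I x := by
  simp [fibrePres, red]

theorem fibrePres_surjective {R : Type u} [CommRing R] (κ : Type u) [CommRing κ] [Algebra R κ] {n : ℕ}
    (I : Ideal (MvPolynomial (Fin n) R)) : Function.Surjective (fibrePres κ I) := by
  have h : Function.Surjective (Algebra.TensorProduct.map (AlgHom.id κ κ) (Ideal.Quotient.mkₐ R I)) :=
    LinearMap.lTensor_surjective κ (g := (Ideal.Quotient.mkₐ R I).toLinearMap) Ideal.Quotient.mk_surjective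
  exact h.comp (MvPolynomial.algebraTensorAlgEquiv R κ).symm.surjective

theorem ker_fibrePres {R : Type u} [CommRing R] (κ : Type u) [CommRing κ] [Algebra R κ] {n : ℕ}
    (I : Ideal (MvPolynomial (Fin n) R)) : RingHom.ker (fibrePres κ I).toRingHom = I.map (red κ n) := by
  let e := MvPolynomial.algebraTensorAlgEquiv (σ := Fin n) R κ
  have hk : RingHom.ker (Algebra.TensorProduct.map (AlgHom.id κ κ) (Ideal.Quotient.mkₐ R I)).toRingHom =
      I.map (Algebra.TensorProduct.includeRight (R := R) (A := κ) (B := MvPolynomial (Fin n) R)).toRingHom := by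
    refine (Algebra.TensorProduct.lTensor_ker (A := κ) (Ideal.Quotient.mkₐ R I) Ideal.Quotient.mk_surjective).trans ?_
    rw [show RingHom.ker (Ideal.Quotient.mkₐ R I) = I from Ideal.mk_ker]
    rfl
  have h1 : RingHom.ker (fibrePres κ I).toRingHom =
      (RingHom.ker (Algebra.TensorProduct.map (AlgHom.id κ κ) (Ideal.Quotient.mkₐ R I)).toRingHom).comap
        e.symm.toRingEquiv.toRingHom := rfl
  have h2 : ∀ K : Ideal (κ ⊗[R] MvPolynomial (Fin n) R),
      K.comap e.symm.toRingEquiv.toRingHom = K.map e.toRingEquiv.toRingHom := fun K =>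
    Ideal.comap_symm e.toRingEquiv
  rw [h1, hk, h2, Ideal.map_map]
  congr 1
  refine RingHom.ext fun x => ?_
  show e ((1 : κ) ⊗ₜ[R] x) = _
  simp [e, red]

theorem ker_fibrePres_span {R : Type u} [CommRing R] (κ : Type u) [CommRing κ] [Algebra R κ] {n c : ℕ}
    (F : Fin c → MvPolynomial (Fin n) R) :
    RingHom.ker (fibrePres κ (Ideal.span (Set.range F))).toRingHom =
      Ideal.span (Set.range fun i => red κ n (F i)) := by
  rw [ker_fibrePres, Ideal.map_span, ← Set.range_comp]
  rfl

/-- A prime of the polynomial ring over the residue field above a given prime. -/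
theorem exists_prime_over {R : Type u} [CommRing R] (p : Ideal R) [p.IsPrime] {n : ℕ}
    (q' : Ideal (MvPolynomial (Fin n) R)) [q'.IsPrime] (hp : q'.comap (algebraMap R _) = p) :
    ∃ Q : Ideal (MvPolynomial (Fin n) p.ResidueField), Q.IsPrime ∧ Q.comap (red (R := R) p.ResidueField n) = q' := by
  let x : (PrimeSpectrum.comap (algebraMap R (MvPolynomial (Fin n) R))) ⁻¹' {(⟨p, inferInstance⟩ : PrimeSpectrum R)} :=
    ⟨⟨q', inferInstance⟩, PrimeSpectrum.ext hp⟩
  let y := PrimeSpectrum.preimageEquivFiber R (MvPolynomial (Fin n) R) ⟨p, inferInstance⟩ x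
  let e := MvPolynomial.algebraTensorAlgEquiv (σ := Fin n) R p.ResidueField
  refine ⟨y.asIdeal.comap e.symm.toRingEquiv.toRingHom, inferInstance, ?_⟩
  have hy := congrArg (fun w => (w.1.asIdeal : Ideal (MvPolynomial (Fin n) R)))
    ((PrimeSpectrum.preimageEquivFiber R (MvPolynomial (Fin n) R) ⟨p, inferInstance⟩).symm_apply_apply x)
  refine Eq.trans ?_ hy
  ext z
  show e.symm (red (R := R) p.ResidueField n z) ∈ y.asIdeal ↔ (1 : p.ResidueField) ⊗ₜ[R] z ∈ y.asIdeal
  simp [e, red]

/-- Numerators. -/
theorem exists_C_mul_eq_red {R : Type u} [CommRing R] (p : Ideal R) [p.IsPrime] {n : ℕ}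
    (a : MvPolynomial (Fin n) p.ResidueField) :
    ∃ r ∉ p, ∃ a' : MvPolynomial (Fin n) R, red (R := R) p.ResidueField n (C r) * a = red (R := R) p.ResidueField n a' := by
  let e := MvPolynomial.algebraTensorAlgEquiv (σ := Fin n) R p.ResidueField
  obtain ⟨r, hr, s, hs⟩ := Ideal.Fiber.exists_smul_eq_one_tmul p (e.symm a)
  refine ⟨r, hr, s, ?_⟩
  have h : e (algebraMap R p.ResidueField r • e.symm a) = e ((1 : p.ResidueField) ⊗ₜ[R] s) := by
    rw [algebraMap_smul]; exact congrArg e hs
  rw [map_smul, AlgEquiv.apply_symm_apply, MvPolynomial.smul_eq_C_mul] at h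
  rw [red, MvPolynomial.map_C, h]
  simp [e]

theorem ker_red {R : Type u} [CommRing R] (p : Ideal R) [p.IsPrime] (n : ℕ) :
    RingHom.ker (red (R := R) p.ResidueField n) = p.map (algebraMap R (MvPolynomial (Fin n) R)) := by
  rw [red, MvPolynomial.ker_map, Ideal.ker_algebraMap_residueField]
  rfl

/-- The local rings of the fibre of affine space. -/
theorem exists_fibre_local {R : Type u} [CommRing R] (p : Ideal R) [p.IsPrime] {n : ℕ}
    (Q : Ideal (MvPolynomial (Fin n) p.ResidueField)) [Q.IsPrime] :
    ∃ ψ : Localization.AtPrime (Q.comap (red (R := R) p.ResidueField n)) →+* Localization.AtPrime Q,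
      Function.Surjective ψ ∧
      RingHom.ker ψ = p.map (algebraMap R (Localization.AtPrime (Q.comap (red (R := R) p.ResidueField n)))) ∧
      ∀ x : MvPolynomial (Fin n) R,
        ψ (algebraMap (MvPolynomial (Fin n) R) (Localization.AtPrime (Q.comap (red (R := R) p.ResidueField n))) x) = algebraMap _ (Localization.AtPrime Q) (red (R := R) p.ResidueField n x) := by
  let q' := Q.comap (red (R := R) p.ResidueField n)
  let ψ := Localization.localRingHom q' Q (red (R := R) p.ResidueField n) rfl
  have hunit : ∀ r ∉ p, red (R := R) p.ResidueField n (C r) ∉ Q := by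
    intro r hr hmem
    rw [red, MvPolynomial.map_C] at hmem
    refine (inferInstance : Q.IsPrime).ne_top (Ideal.eq_top_of_isUnit_mem _ hmem ?_)
    exact (isUnit_iff_ne_zero.mpr fun h => hr (Ideal.algebraMap_residueField_eq_zero.mp h)).map C
  refine ⟨ψ, fun z => ?_, le_antisymm (fun z hz => ?_) (Ideal.map_le_iff_le_comap.mpr fun r hr => ?_),
    fun x => Localization.localRingHom_to_map q' Q (red (R := R) p.ResidueField n) rfl x⟩
  · obtain ⟨a, s, rfl⟩ := IsLocalization.exists_mk'_eq Q.primeCompl z
    obtain ⟨r₁, hr₁, a', ha⟩ := exists_C_mul_eq_red p a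
    obtain ⟨r₂, hr₂, s', hs⟩ := exists_C_mul_eq_red p (s : MvPolynomial (Fin n) p.ResidueField)
    have hmem : s' * C r₁ ∈ q'.primeCompl := by
      show red (R := R) p.ResidueField n (s' * C r₁) ∉ Q
      rw [map_mul, ← hs]
      exact fun h => ((inferInstance : Q.IsPrime).mem_or_mem h).elim
        (fun h => ((inferInstance : Q.IsPrime).mem_or_mem h).elim (hunit r₂ hr₂) s.2) (hunit r₁ hr₁)
    refine ⟨IsLocalization.mk' _ (a' * C r₂) (⟨s' * C r₁, hmem⟩ : q'.primeCompl), ?_⟩
    rw [Localization.localRingHom_mk']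
    refine IsLocalization.mk'_eq_of_eq ?_
    show red (R := R) p.ResidueField n (s' * C r₁) * a = (s : MvPolynomial (Fin n) p.ResidueField) * red (R := R) p.ResidueField n (a' * C r₂)
    rw [map_mul, map_mul, ← ha, ← hs]
    ring
  · obtain ⟨x, s, rfl⟩ := IsLocalization.exists_mk'_eq q'.primeCompl z
    rw [RingHom.mem_ker, Localization.localRingHom_mk', IsLocalization.mk'_eq_zero_iff] at hz
    obtain ⟨m, hm⟩ := hz
    have hx : x ∈ RingHom.ker (red (R := R) p.ResidueField n) :=
      (mul_eq_zero.mp hm).resolve_left fun h => m.2 (h ▸ Q.zero_mem)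
    rw [ker_red] at hx
    rw [IsScalarTower.algebraMap_eq R (MvPolynomial (Fin n) R) (Localization.AtPrime q'), ← Ideal.map_map]
    exact (IsLocalization.mk'_mem_iff).mpr (Ideal.mem_map_of_mem _ hx)
  · rw [Ideal.mem_comap, RingHom.mem_ker, IsScalarTower.algebraMap_apply R (MvPolynomial (Fin n) R),
      Localization.localRingHom_to_map, show red (R := R) p.ResidueField n (algebraMap R _ r) = 0 by
        rw [MvPolynomial.algebraMap_eq, red, MvPolynomial.map_C, Ideal.algebraMap_residueField_eq_zero.mpr hr, C_0],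
      map_zero]

/-- The local rings of a quotient. -/
theorem exists_local_quot {R P S : Type u} [CommRing R] [CommRing P] [CommRing S] [Algebra R P] [Algebra R S]
    (φ : P →ₐ[R] S) (hφ : Function.Surjective φ) (q : Ideal S) [q.IsPrime] :
    ∃ ψ : Localization.AtPrime (q.comap φ.toRingHom) →ₐ[R] Localization.AtPrime q, Function.Surjective ψ ∧
      RingHom.ker ψ.toRingHom = (RingHom.ker φ.toRingHom).map (algebraMap _ (Localization.AtPrime (q.comap φ.toRingHom))) ∧
      ∀ x, ψ (algebraMap P _ x) = algebraMap S _ (φ x) := by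
  let T := Localization.AtPrime q
  let A := Localization.AtPrime (q.comap φ.toRingHom)
  let ψ₀ : A →+* T := Localization.localRingHom (q.comap φ.toRingHom) q φ.toRingHom rfl
  have hM : Submonoid.map φ.toRingHom (q.comap φ.toRingHom).primeCompl = q.primeCompl := by
    ext t
    constructor
    · rintro ⟨u, hu, rfl⟩; exact hu
    · intro ht
      obtain ⟨u, rfl⟩ := hφ t
      exact ⟨u, ht, rfl⟩
  refine ⟨{ ψ₀ with commutes' := fun x => ?_ }, fun z => ?_, IsLocalization.ker_map (S := A) T φ.toRingHom hM,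
    fun x => Localization.localRingHom_to_map (q.comap φ.toRingHom) q φ.toRingHom rfl x⟩
  · show ψ₀ (algebraMap R A x) = algebraMap R T x
    rw [IsScalarTower.algebraMap_apply R P A, Localization.localRingHom_to_map,
      IsScalarTower.algebraMap_apply R S T]
    exact congrArg _ (φ.commutes x)
  · obtain ⟨t, s, rfl⟩ := IsLocalization.exists_mk'_eq q.primeCompl z
    obtain ⟨a, rfl⟩ := hφ t
    obtain ⟨b, hb⟩ := hφ (s : S)
    refine ⟨IsLocalization.mk' A a (⟨b, fun hbP => s.2 (hb ▸ hbP)⟩ : (q.comap φ.toRingHom).primeCompl), ?_⟩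
    exact (Localization.localRingHom_mk' (q.comap φ.toRingHom) q φ.toRingHom rfl a _).trans (by congr 1; exact Subtype.ext hb)

/-- One element moves a finitely generated ideal into a locally equal one. -/
theorem exists_mul_mem {P : Type u} [CommRing P] (P' : Ideal P) [P'.IsPrime] {I J : Ideal P} (hI : I.FG)
    (h : I.map (algebraMap P (Localization.AtPrime P')) ≤ J.map (algebraMap P (Localization.AtPrime P'))) :
    ∃ g : P, g ∉ P' ∧ ∀ i ∈ I, g * i ∈ J := by
  classical
  obtain ⟨T, hT⟩ := hI
  have hs : ∀ z : T, ∃ s : P'.primeCompl, (s : P) * z ∈ J := fun z => by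
    have h1 := h (Ideal.mem_map_of_mem (algebraMap P (Localization.AtPrime P')) (hT ▸ Ideal.subset_span z.2))
    rw [IsLocalization.algebraMap_mem_map_algebraMap_iff P'.primeCompl (Localization.AtPrime P')] at h1
    obtain ⟨s, hs, h⟩ := h1
    exact ⟨⟨s, hs⟩, h⟩
  choose s hs using hs
  let g0 : P := ∏ z : T, (s z : P)
  refine ⟨g0, (Submonoid.prod_mem P'.primeCompl fun z _ => (s z).2 : g0 ∈ P'.primeCompl), fun i hi => ?_⟩
  rw [← hT] at hi
  induction hi using Submodule.span_induction with
  | mem z hz =>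
    obtain ⟨e, he⟩ : (s ⟨z, hz⟩ : P) ∣ g0 :=
      Finset.dvd_prod_of_mem (fun z : T => (s z : P)) (Finset.mem_univ (⟨z, hz⟩ : T))
    rw [he, mul_comm (s ⟨z, hz⟩ : P), mul_assoc]
    exact Ideal.mul_mem_left _ _ (hs ⟨z, hz⟩)
  | zero => simp
  | add x y _ _ hx hy => rw [mul_add]; exact add_mem hx hy
  | smul a x _ hx => rw [smul_eq_mul, mul_left_comm]; exact Ideal.mul_mem_left _ _ hx

/-- Isomorphisms over the base are linear over the residue field. -/
theorem isCIOver_of_algEquiv_base {R A B : Type u} [CommRing R] [CommRing A] [CommRing B] [IsLocalRing A] [IsLocalRing B]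
    (p : Ideal R) [p.IsPrime] [Algebra R A] [Algebra R B] [Algebra p.ResidueField A] [Algebra p.ResidueField B]
    [IsScalarTower R p.ResidueField A] [IsScalarTower R p.ResidueField B] (e : A ≃ₐ[R] B)
    (h : Synt.IsCIOver p.ResidueField A) : Synt.IsCIOver p.ResidueField B := by
  refine isCIOver_of_algEquiv (AlgEquiv.ofRingEquiv (f := e.toRingEquiv) fun x => ?_) h
  have heq : e.toRingEquiv.toRingHom.comp (algebraMap p.ResidueField A) = algebraMap p.ResidueField B := by
    refine Ideal.ResidueField.ringHom_ext (RingHom.ext fun r => ?_)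
    show e (algebraMap p.ResidueField A (algebraMap R _ r)) = algebraMap p.ResidueField B (algebraMap R _ r)
    rw [← IsScalarTower.algebraMap_apply, ← IsScalarTower.algebraMap_apply, e.commutes]
  exact RingHom.congr_fun heq x

/-- The fibre local rings are functions of the local rings. -/
theorem isCIOver_fibre_congr {R S T : Type u} [CommRing R] [CommRing S] [CommRing T] [Algebra R S] [Algebra R T]
    (p : Ideal R) [p.IsPrime] (Q : Ideal (p.Fiber S)) [Q.IsPrime] (Q' : Ideal (p.Fiber T)) [Q'.IsPrime]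
    (e : Localization.AtPrime (Q.comap (Algebra.TensorProduct.includeRight : S →ₐ[R] p.Fiber S)) ≃ₐ[R]
      Localization.AtPrime (Q'.comap (Algebra.TensorProduct.includeRight : T →ₐ[R] p.Fiber T)))
    (h : Synt.IsCIOver p.ResidueField (Localization.AtPrime Q)) :
    Synt.IsCIOver p.ResidueField (Localization.AtPrime Q') := by
  let A := Localization.AtPrime (Q.comap (Algebra.TensorProduct.includeRight : S →ₐ[R] p.Fiber S))
  let B := Localization.AtPrime (Q'.comap (Algebra.TensorProduct.includeRight : T →ₐ[R] p.Fiber T))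
  have hmap : (p.map (algebraMap R T)).map (algebraMap T B) = ((p.map (algebraMap R S)).map (algebraMap S A)).map e.toAlgHom := by
    rw [← Ideal.map_coe e.toAlgHom, Ideal.map_map, Ideal.map_map, Ideal.map_map, ← IsScalarTower.algebraMap_eq]
    congr 1
    exact RingHom.ext fun r => ((congrArg e (IsScalarTower.algebraMap_apply R S A r).symm).trans (e.commutes r)).symm
  let e' : Localization.AtPrime Q ≃ₐ[R] Localization.AtPrime Q' :=
    ((Ideal.Fiber.algEquivAux₂ p Q).trans (Ideal.quotientEquivAlg _ _ e hmap)).trans (Ideal.Fiber.algEquivAux₂ p Q').symm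
  exact isCIOver_of_algEquiv_base p e' h

end Groth.Agent.SyntLib
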