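import Groth.Agent.SyntLib.Spread
import Groth.Agent.DimField.Ring
import Mathlib.AlgebraicGeometry.Morphisms.RingHomProperties

/-!
# Syntomic ring maps: base change and locality
-/

set_option autoImplicit false
set_option linter.style.haveILetI false
universe u

open IsLocalRing RingTheory.Sequence MvPolynomial CategoryTheory AlgebraicGeometry
open scoped TensorProduct

namespace Groth.Agent.SyntLib

theorem dim_eq_of_ker {P A B : Type u} [CommRing P] [CommRing A] [CommRing B] (f : P →+* A) (g : P →+* B)
    (hf : Function.Surjective f) (hg : Function.Surjective g) (h : RingHom.ker f = RingHom.ker g) :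
    (Nontrivial A ↔ Nontrivial B) ∧ ringKrullDim A = ringKrullDim B := by
  let e : A ≃+* B := ((RingHom.quotientKerEquivOfSurjective hf).symm.trans (Ideal.quotEquivOfEq h)).trans
    (RingHom.quotientKerEquivOfSurjective hg)
  exact ⟨⟨fun hA => e.injective.nontrivial, fun hB => e.symm.injective.nontrivial⟩, ringKrullDim_eq_of_ringEquiv e⟩

theorem nontrivial_tensor_left {K L A : Type u} [CommRing K] [CommRing L] [CommRing A] [Algebra K L] [Algebra K A]
    (h : Nontrivial (L ⊗[K] A)) : Nontrivial A :=
  not_subsingleton_iff_nontrivial.mp fun hs =>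
    not_subsingleton_iff_nontrivial.mpr h (subsingleton_of_forall_eq 0 fun x => by
      induction x using TensorProduct.induction_on with
      | zero => rfl
      | tmul a b => rw [Subsingleton.elim b 0, TensorProduct.tmul_zero]
      | add x y hx hy => rw [hx, hy, add_zero])

/-- The fibres of a base change of a presentation. -/
theorem dim_fibre_map {R R' S S' : Type u} [CommRing R] [CommRing R'] [CommRing S] [CommRing S'] [Algebra R S]
    [Algebra R' S'] {n : ℕ} (π : R →+* R') (φ : MvPolynomial (Fin n) R →ₐ[R] S)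
    (hφ : Function.Surjective φ) (φ' : MvPolynomial (Fin n) R' →ₐ[R'] S') (hφ' : Function.Surjective φ')
    (hk : RingHom.ker φ'.toRingHom = (RingHom.ker φ.toRingHom).map (MvPolynomial.map π))
    (p' : Ideal R') [p'.IsPrime] (p : Ideal R) [p.IsPrime] (hp : p = p'.comap π) (hnt : Nontrivial (p'.Fiber S')) :
    Nontrivial (p.Fiber S) ∧ ringKrullDim (p'.Fiber S') = ringKrullDim (p.Fiber S) := by
  let κ := p.ResidueField
  let κ' := p'.ResidueField
  let ι : κ →+* κ' := Ideal.ResidueField.map p p' π hp
  letI : Algebra κ κ' := ι.toAlgebra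
  let J := (RingHom.ker φ.toRingHom).map (red (R := R) κ n)
  let T := MvPolynomial (Fin n) κ ⧸ J
  have hk' : RingHom.ker (fibrePres (R := κ) κ' J).toRingHom = RingHom.ker (fibrePresOf κ' φ').toRingHom := by
    rw [ker_fibrePres, ker_fibrePresOf _ φ' hφ', hk, Ideal.map_map, Ideal.map_map]
    congr 1
    refine RingHom.ext fun x => ?_
    show MvPolynomial.map ι (MvPolynomial.map (algebraMap R κ) x) = MvPolynomial.map (algebraMap R' κ') (MvPolynomial.map π x)
    rw [MvPolynomial.map_map, MvPolynomial.map_map]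
    congr 2
    exact RingHom.ext fun r => Ideal.ResidueField.map_algebraMap p p' π hp r
  obtain ⟨hnt₂, hd₂⟩ := dim_eq_of_ker (A := κ' ⊗[κ] T) (B := p'.Fiber S') (fibrePres (R := κ) κ' J).toRingHom
    (fibrePresOf κ' φ').toRingHom (fibrePres_surjective κ' J) (fibrePresOf_surjective κ' φ' hφ') hk'
  obtain ⟨hnt₁, hd₁⟩ := dim_eq_of_ker (A := T) (B := p.Fiber S) (Ideal.Quotient.mk J) (fibrePresOf κ φ).toRingHom
    Ideal.Quotient.mk_surjective (fibrePresOf_surjective κ φ hφ) (by rw [ker_fibrePresOf _ φ hφ, Ideal.mk_ker])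
  exact ⟨hnt₁.mp (nontrivial_tensor_left (hnt₂.mpr hnt)),
    hd₂.symm.trans ((DimField.ringKrullDim_tensor κ κ' T).trans hd₁)⟩

/-- Relative complete intersections are stable under base change. -/
theorem isRelGCI_map {R R' : Type u} [CommRing R] [CommRing R'] (π : R →+* R') {n c : ℕ}
    {F : Fin c → MvPolynomial (Fin n) R} (h : Synt.IsRelGCI R n c F) :
    Synt.IsRelGCI R' n c fun i => MvPolynomial.map π (F i) := by
  intro p' hnt
  obtain ⟨h1, h2⟩ := dim_fibre_map (S := Synt.RelGCIRing R n c F)
    (S' := Synt.RelGCIRing R' n c fun i => MvPolynomial.map π (F i)) π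
    (Ideal.Quotient.mkₐ R (Ideal.span (Set.range F))) Ideal.Quotient.mk_surjective
    (Ideal.Quotient.mkₐ R' (Ideal.span (Set.range fun i => MvPolynomial.map π (F i)))) Ideal.Quotient.mk_surjective
    (by
      rw [show RingHom.ker (Ideal.Quotient.mkₐ R (Ideal.span (Set.range F))).toRingHom = Ideal.span (Set.range F)
          from Ideal.mk_ker,
        show RingHom.ker (Ideal.Quotient.mkₐ R' (Ideal.span (Set.range fun i => MvPolynomial.map π (F i)))).toRingHom =
          Ideal.span (Set.range fun i => MvPolynomial.map π (F i)) from Ideal.mk_ker, Ideal.map_span, ← Set.range_comp]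
      rfl) p'.asIdeal (p'.asIdeal.comap π) rfl hnt
  obtain ⟨hcn, hd⟩ := h ⟨p'.asIdeal.comap π, inferInstance⟩ h1
  exact ⟨hcn, h2.trans hd⟩

/-- Every point of a syntomic algebra has a relative complete intersection neighbourhood. -/
theorem exists_relGCI_of_isSyntomic {R S : Type u} [CommRing R] [CommRing S] [Algebra R S] (h : Synt.IsSyntomic R S)
    (q : Ideal S) [q.IsPrime] :
    ∃ g : S, g ∉ q ∧ ∃ (n c : ℕ) (F : Fin c → MvPolynomial (Fin n) R), Synt.IsRelGCI R n c F ∧
      Nonempty (Localization.Away g ≃ₐ[R] Synt.RelGCIRing R n c F) := by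
  obtain ⟨Q, hQ, hQc⟩ := exists_fiber_prime (q.comap (algebraMap R S)) q rfl
  haveI := h.1
  haveI := h.2.1
  haveI : Algebra.FinitePresentation R (Localization.Away (1 : S)) :=
    Algebra.FinitePresentation.trans R S (Localization.Away (1 : S))
  exact exists_relGCI_nhd (1 : S) q (q.ne_top_iff_one.mp (Ideal.IsPrime.ne_top inferInstance)) _ Q hQc
    (isCIOver_of_isLCIOver (h.2.2 ⟨q.comap (algebraMap R S), inferInstance⟩) Q)

/-- Syntomic algebras are stable under base change. -/
theorem isSyntomic_baseChange {R S : Type u} [CommRing R] [CommRing S] [Algebra R S] (R' : Type u) [CommRing R']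
    [Algebra R R'] (h : Synt.IsSyntomic R S) : Synt.IsSyntomic R' (R' ⊗[R] S) := by
  classical
  let ι : S →ₐ[R] R' ⊗[R] S := Algebra.TensorProduct.includeRight
  let s : Set S := {g | ∃ (n c : ℕ) (F : Fin c → MvPolynomial (Fin n) R), Synt.IsRelGCI R n c F ∧
    Nonempty (Localization.Away g ≃ₐ[R] Synt.RelGCIRing R n c F)}
  have hs : Ideal.span s = ⊤ := by
    by_contra hne
    obtain ⟨m, hm, hle⟩ := Ideal.exists_le_maximal _ hne
    haveI := hm.isPrime
    obtain ⟨g, hg, hrest⟩ := exists_relGCI_of_isSyntomic h m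
    exact hg (hle (Ideal.subset_span hrest))
  refine isSyntomic_of_cover (ι '' s) ?_ ?_
  · rw [← Ideal.map_span, hs, Ideal.map_top]
  rintro _ ⟨g, ⟨n, c, F, hF, ⟨e⟩⟩, rfl⟩
  let F' : Fin c → MvPolynomial (Fin n) R' := fun i => MvPolynomial.map (algebraMap R R') (F i)
  let e₁ : R' ⊗[R] Localization.Away g ≃ₐ[R'] R' ⊗[R] Synt.RelGCIRing R n c F :=
    Algebra.TensorProduct.congr AlgEquiv.refl e
  let e₂ : Synt.RelGCIRing R' n c F' ≃ₐ[R'] R' ⊗[R] Synt.RelGCIRing R n c F :=
    (Ideal.quotientEquivAlgOfEq R' (ker_fibrePres_span R' F).symm).trans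
      (Ideal.quotientKerAlgEquivOfSurjective (fibrePres_surjective R' _))
  have key : Nonempty (Localization.Away (ι g) ≃ₐ[R'] R' ⊗[R] Localization.Away g) :=
    ⟨(IsLocalization.Away.tensorProductEquivTMulRight R R' g (Localization.Away g)).symm⟩
  obtain ⟨e₃⟩ := key
  exact isSyntomic_of_algEquiv ((e₂.trans e₁.symm).trans e₃.symm) (isSyntomic_relGCI (isRelGCI_map (algebraMap R R') hF))

/-- Principal localisations of syntomic algebras. -/
theorem isSyntomic_away {R S : Type u} [CommRing R] [CommRing S] [Algebra R S] (h : Synt.IsSyntomic R S) (g : S) :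
    Synt.IsSyntomic R (Localization.Away g) := by
  haveI := h.1
  haveI := h.2.1
  haveI : Algebra.FinitePresentation R (Localization.Away g) := Algebra.FinitePresentation.trans R S _
  haveI : Module.Flat S (Localization.Away g) := IsLocalization.flat _ (Submonoid.powers g)
  refine ⟨Module.Flat.trans R S _, inferInstance, fun p => isLCIOver_iff.mpr fun Q' => ?_⟩
  let q' := Q'.asIdeal.comap (Algebra.TensorProduct.includeRight :
    Localization.Away g →ₐ[R] p.asIdeal.Fiber (Localization.Away g)).toRingHom
  let q := q'.comap (algebraMap S (Localization.Away g))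
  have hg : g ∉ q := fun hgq => (inferInstance : q'.IsPrime).ne_top
    (Ideal.eq_top_of_isUnit_mem _ hgq (IsLocalization.Away.algebraMap_isUnit g))
  obtain ⟨Q, hQ, hQc⟩ := exists_fiber_prime p.asIdeal q (by
    rw [Ideal.comap_comap, ← IsScalarTower.algebraMap_eq]
    exact comap_fiber_prime p.asIdeal Q'.asIdeal)
  obtain ⟨q'', hq'', Q'', hQ'', hc'', hQc'', ⟨e⟩, hiff⟩ := isCIOver_fibre_away_iff g q hg p.asIdeal Q hQc
  have hqq : q'' = q' := by
    rw [← IsLocalization.map_under (Submonoid.powers g) (Localization.Away g) q'',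
      ← IsLocalization.map_under (Submonoid.powers g) (Localization.Away g) q']
    exact congrArg _ hc''
  subst hqq
  exact isCIOver_fibre_congr' p.asIdeal Q'' Q'.asIdeal q' q' hQc'' rfl AlgEquiv.refl
    (hiff.mp (isCIOver_of_isLCIOver (h.2.2 p) Q))

/-- Transporting complete intersections along isomorphisms of the fields. -/
theorem isCIOver_of_ringEquiv {k k' : Type u} [Field k] [Field k'] (ι : k →+* k') (hι : Function.Bijective ι)
    {A B : Type u} [CommRing A] [IsLocalRing A] [Algebra k A] [CommRing B] [IsLocalRing B] [Algebra k' B] (e : B ≃+* A)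
    (he : ∀ x : k, e (algebraMap k' B (ι x)) = algebraMap k A x) (h : Synt.IsCIOver k' B) : Synt.IsCIOver k A := by
  obtain ⟨R, i1, i2, i3, hR, rs, hm, hreg, ⟨φ⟩⟩ := h
  letI := ι.toAlgebra
  letI : Algebra k R := ((algebraMap k' R).comp ι).toAlgebra
  haveI : IsScalarTower k k' R := IsScalarTower.of_algebraMap_eq fun _ => rfl
  haveI : Algebra.FiniteType k k' := Algebra.FiniteType.of_surjective (Algebra.ofId k k') hι.2
  haveI := hR
  refine ⟨R, i1, i2, inferInstance, Algebra.EssFiniteType.comp k k' R, rs, hm, hreg,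
    ⟨AlgEquiv.ofRingEquiv (f := e.symm.trans φ.toRingEquiv) fun x => ?_⟩⟩
  show φ (e.symm (algebraMap k A x)) = _
  rw [show e.symm (algebraMap k A x) = algebraMap k' B (ι x) from by rw [← he x, e.symm_apply_apply], φ.commutes]
  rfl

/-- Transporting complete intersections through compatible models. -/
theorem isCIOver_of_base_equiv {R R' A B A₀ B₀ : Type u} [CommRing R] [CommRing R'] [CommRing A] [IsLocalRing A]
    [CommRing B] [IsLocalRing B] [CommRing A₀] [CommRing B₀] (p : Ideal R) [p.IsPrime] (p' : Ideal R') [p'.IsPrime]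
    (π : R →+* R') (hp : p = p'.comap π) (hι : Function.Bijective (Ideal.ResidueField.map p p' π hp))
    [Algebra R A] [Algebra p.ResidueField A] [IsScalarTower R p.ResidueField A]
    [Algebra R' B] [Algebra p'.ResidueField B] [IsScalarTower R' p'.ResidueField B] [Algebra R A₀] [Algebra R' B₀]
    (a : A ≃ₐ[R] A₀) (b : B ≃ₐ[R'] B₀) (e₀ : B₀ ≃+* A₀)
    (he₀ : ∀ r, e₀ (algebraMap R' B₀ (π r)) = algebraMap R A₀ r)
    (h : Synt.IsCIOver p'.ResidueField B) : Synt.IsCIOver p.ResidueField A := by
  let e : B ≃+* A := (b.toRingEquiv.trans e₀).trans a.toRingEquiv.symm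
  refine isCIOver_of_ringEquiv (Ideal.ResidueField.map p p' π hp) hι e (fun x => ?_) h
  refine RingHom.congr_fun (?_ : (e.toRingHom.comp (algebraMap p'.ResidueField B)).comp (Ideal.ResidueField.map p p' π hp) =
    algebraMap p.ResidueField A) x
  refine Ideal.ResidueField.ringHom_ext (RingHom.ext fun r => ?_)
  show a.symm (e₀ (b (algebraMap p'.ResidueField B (Ideal.ResidueField.map p p' π hp (algebraMap R p.ResidueField r))))) =
    algebraMap p.ResidueField A (algebraMap R p.ResidueField r)
  rw [Ideal.ResidueField.map_algebraMap, ← IsScalarTower.algebraMap_apply, b.commutes, he₀, a.symm.commutes,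
    ← IsScalarTower.algebraMap_apply]

/-- A fibre local ring does not see a localisation of the base. -/
theorem isCIOver_fibre_base {R R' S : Type u} [CommRing R] [CommRing R'] [CommRing S] [Algebra R R'] [Algebra R' S]
    [Algebra R S] [IsScalarTower R R' S] (M : Submonoid R) [IsLocalization M R'] (p : Ideal R) [p.IsPrime]
    (Q : Ideal (p.Fiber S)) [Q.IsPrime] (p' : Ideal R') [p'.IsPrime] (hp : p = p'.comap (algebraMap R R'))
    (Q' : Ideal (p'.Fiber S)) [Q'.IsPrime] (q : Ideal S) [q.IsPrime]
    (hQ : Q.comap (Algebra.TensorProduct.includeRight : S →ₐ[R] p.Fiber S).toRingHom = q)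
    (hQ' : Q'.comap (Algebra.TensorProduct.includeRight : S →ₐ[R'] p'.Fiber S).toRingHom = q)
    (h : Synt.IsCIOver p'.ResidueField (Localization.AtPrime Q')) :
    Synt.IsCIOver p.ResidueField (Localization.AtPrime Q) := by
  subst hQ
  let ι := Ideal.ResidueField.map p p' (algebraMap R R') hp
  have hι : Function.Bijective ι :=
    (RingHom.surjectiveOnStalks_of_isLocalization M R').residueFieldMap_bijective p p' hp
  let q₁ := Q.comap (Algebra.TensorProduct.includeRight : S →ₐ[R] p.Fiber S)
  let q₂ := Q'.comap (Algebra.TensorProduct.includeRight : S →ₐ[R'] p'.Fiber S)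
  have hq : q₂ = q₁ := hQ'
  have key : ∀ (q₃ : Ideal S) (_ : q₃.IsPrime) (_ : q₃ = q₁),
      ∃ e : (Localization.AtPrime q₃ ⧸ (p'.map (algebraMap R' S)).map (algebraMap S (Localization.AtPrime q₃))) ≃+*
        (Localization.AtPrime q₁ ⧸ (p.map (algebraMap R S)).map (algebraMap S (Localization.AtPrime q₁))),
        ∀ y : S, e (Ideal.Quotient.mk _ (algebraMap S _ y)) = Ideal.Quotient.mk _ (algebraMap S _ y) := by
    intro q₃ _ hq₃
    subst hq₃
    refine ⟨Ideal.quotEquivOfEq (congrArg _ ?_), fun y => Ideal.quotEquivOfEq_mk _ _⟩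
    rw [← IsLocalization.map_under M R' p', Ideal.map_map, ← IsScalarTower.algebraMap_eq,
      show p'.under R = p from hp.symm]
  obtain ⟨e₀, he₀⟩ := key q₂ inferInstance hq
  let a := Ideal.Fiber.algEquivAux₂ p Q
  let b := Ideal.Fiber.algEquivAux₂ p' Q'
  refine isCIOver_of_base_equiv p p' (algebraMap R R') hp hι a b e₀ (fun r => ?_) h
  refine (he₀ (algebraMap R' S (algebraMap R R' r))).trans ?_
  rw [← IsScalarTower.algebraMap_apply R R' S]
  rfl

/-- Syntomic over a principal open of the base. -/
theorem isSyntomic_of_away_base {R R' S : Type u} [CommRing R] [CommRing R'] [CommRing S] [Algebra R R'] [Algebra R' S]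
    [Algebra R S] [IsScalarTower R R' S] (r : R) [IsLocalization.Away r R'] (h : Synt.IsSyntomic R' S) :
    Synt.IsSyntomic R S := by
  haveI := h.1
  haveI := h.2.1
  haveI : Module.Flat R R' := IsLocalization.flat _ (Submonoid.powers r)
  haveI : Algebra.FinitePresentation R R' := IsLocalization.Away.finitePresentation r
  haveI : Algebra.FinitePresentation R S := Algebra.FinitePresentation.trans R R' S
  refine ⟨Module.Flat.trans R R' S, inferInstance, fun p => isLCIOver_iff.mpr fun Q => ?_⟩
  let q := Q.asIdeal.comap (Algebra.TensorProduct.includeRight : S →ₐ[R] p.asIdeal.Fiber S).toRingHom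
  let p' := q.comap (algebraMap R' S)
  obtain ⟨Q', hQ', hQc⟩ := exists_fiber_prime p' q rfl
  refine isCIOver_fibre_base (Submonoid.powers r) p.asIdeal Q.asIdeal p' ?_ Q' q rfl hQc
    (isCIOver_of_isLCIOver (h.2.2 ⟨p', inferInstance⟩) Q')
  show p.asIdeal = (q.comap (algebraMap R' S)).comap (algebraMap R R')
  rw [Ideal.comap_comap, ← IsScalarTower.algebraMap_eq]
  exact (comap_fiber_prime p.asIdeal Q.asIdeal).symm

/-- The ring-map property. -/
def Syn {R S : Type u} [CommRing R] [CommRing S] (φ : R →+* S) : Prop :=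
  @Synt.IsSyntomic R _ S _ φ.toAlgebra

theorem syn_algebraMap {R S : Type u} [CommRing R] [CommRing S] [Algebra R S] :
    Syn (algebraMap R S) ↔ Synt.IsSyntomic R S := by
  rw [Syn, toAlgebra_algebraMap]

theorem syn_respectsIso : RingHom.RespectsIso @Syn := by
  constructor
  · introv h
    letI := f.toAlgebra
    letI := (e.toRingHom.comp f).toAlgebra
    exact isSyntomic_of_algEquiv (AlgEquiv.ofRingEquiv (f := e) fun _ => rfl) h
  · introv h
    letI := f.toAlgebra
    letI := e.toRingHom.toAlgebra
    letI := (f.comp e.toRingHom).toAlgebra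
    haveI : IsScalarTower R S T := IsScalarTower.of_algebraMap_eq fun _ => rfl
    haveI : IsLocalization.Away (1 : R) S := IsLocalization.away_of_isUnit_of_bijective S isUnit_one e.bijective
    exact isSyntomic_of_away_base (R' := S) (1 : R) h

theorem syn_stableUnderBaseChange : RingHom.IsStableUnderBaseChange @Syn := by
  refine RingHom.IsStableUnderBaseChange.mk syn_respectsIso ?_
  introv h
  rw [syn_algebraMap] at h ⊢
  exact isSyntomic_baseChange S h

theorem syn_ofLocalizationSpanTarget : RingHom.OfLocalizationSpanTarget @Syn := by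
  introv R hs h
  letI := f.toAlgebra
  refine isSyntomic_of_cover s hs fun g hg => ?_
  have h1 := h ⟨g, hg⟩
  rwa [show (algebraMap S (Localization.Away g)).comp f = algebraMap R (Localization.Away g) from rfl,
    syn_algebraMap] at h1

theorem syn_awaySource : RingHom.StableUnderCompositionWithLocalizationAwaySource @Syn := by
  introv R _ h
  letI := f.toAlgebra
  letI := (f.comp (algebraMap R S)).toAlgebra
  haveI : IsScalarTower R S T := IsScalarTower.of_algebraMap_eq fun _ => rfl
  exact isSyntomic_of_away_base (R' := S) r h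

theorem syn_awayTarget : RingHom.StableUnderCompositionWithLocalizationAwayTarget @Syn := by
  introv R _ h
  letI := f.toAlgebra
  letI := ((algebraMap S T).comp f).toAlgebra
  haveI : IsScalarTower R S T := IsScalarTower.of_algebraMap_eq fun _ => rfl
  exact isSyntomic_of_algEquiv ((IsLocalization.algEquiv (Submonoid.powers s) (Localization.Away s) T).restrictScalars R)
    (isSyntomic_away h s)

theorem syn_isLocal : RingHom.PropertyIsLocal @Syn where
  localizationAwayPreserves := syn_stableUnderBaseChange.localizationPreserves.away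
  ofLocalizationSpanTarget := syn_ofLocalizationSpanTarget
  ofLocalizationSpan := syn_ofLocalizationSpanTarget.ofLocalizationSpan syn_awaySource
  StableUnderCompositionWithLocalizationAwayTarget := syn_awayTarget

/-- Syntomic morphisms, as a morphism property. -/
def SynMor : MorphismProperty Scheme.{u} := affineLocally @Syn

instance : HasRingHomProperty SynMor.{u} @Syn := ⟨syn_isLocal, rfl⟩

theorem isSyntomicMor_iff {X S : Scheme.{u}} (f : X ⟶ S) : Synt.IsSyntomicMor f ↔ SynMor f := by
  rw [HasRingHomProperty.iff_exists_appLE (P := SynMor.{u}) syn_awaySource]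
  constructor
  · intro h x
    obtain ⟨U, V, e, hx, hs⟩ := h x
    exact ⟨V, U, hx, e, hs⟩
  · intro h x
    obtain ⟨V, U, hx, e, hs⟩ := h x
    exact ⟨U, V, e, hx, hs⟩

end Groth.Agent.SyntLib
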