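import Groth.Agent.SyntLib.Regular
import Groth.Agent.SyntLib.Koszul
import Groth.Agent.KoszulLib.H1

/-!
# Composition of syntomic maps
-/

set_option autoImplicit false
set_option linter.style.haveILetI false
universe u

open RingTheory.Sequence AlgebraicGeometry CategoryTheory

namespace Groth.Agent.SyntLib

open KoszulLib in
/-- `H₁`-regularity passes to polynomial rings. -/
theorem h1_polynomial {R : Type u} [CommRing R] {l : ℕ} {n : ℕ} {f : Fin n → R} (hf : CAlgX.IsH1Regular f) :
    CAlgX.IsH1Regular (fun i => (MvPolynomial.C (f i) : MvPolynomial (Fin l) R)) := by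
  classical
  rw [h1_iff]
  intro a ha
  let supp := Finset.univ.biUnion fun i => (a i).support
  have hcoeff : ∀ m, (fun i => (a i).coeff m) ∈ trivRel f := fun m => h1_iff.mp hf _ (by
    have h0 := congrArg (MvPolynomial.coeff m) ha
    rw [MvPolynomial.coeff_sum] at h0
    refine (Finset.sum_congr rfl fun i _ => ?_).trans h0
    rw [mul_comm (a i), MvPolynomial.coeff_C_mul, mul_comm])
  have hsum : a = ∑ m ∈ supp, MvPolynomial.monomial m (1 : R) • (MvPolynomial.C ∘ fun i => (a i).coeff m) := by
    funext i
    rw [Finset.sum_apply]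
    simp only [Pi.smul_apply, Function.comp_apply, smul_eq_mul]
    simp only [mul_comm (MvPolynomial.monomial _ (1 : R)), MvPolynomial.C_mul_monomial, mul_one]
    conv_lhs => rw [(a i).as_sum]
    exact Finset.sum_subset (fun m hm => Finset.mem_biUnion.mpr ⟨i, Finset.mem_univ i, hm⟩) fun m _ hm => by
      simp [MvPolynomial.notMem_support_iff.mp hm]
  rw [hsum]
  exact Submodule.sum_mem _ fun m _ => Submodule.smul_mem _ _ (trivRel_map MvPolynomial.C (hcoeff m))

open KoszulLib in
theorem trivRel_append_left {R : Type u} [CommRing R] {m n : ℕ} {f : Fin m → R} (g : Fin n → R) {a : Fin m → R}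
    (ha : a ∈ trivRel f) : Fin.append a 0 ∈ trivRel (Fin.append f g) := by
  induction ha using Submodule.span_induction with
  | mem v hv =>
    obtain ⟨i, j, rfl⟩ := hv
    convert trivRel_gen (Fin.append f g) (Fin.castAdd n i) (Fin.castAdd n j) using 1
    funext k
    induction k using Fin.addCases with
    | left k => simp [Pi.single_apply]
    | right k =>
      have hne : ∀ (i : Fin m) (k : Fin n), Fin.natAdd m k ≠ Fin.castAdd n i := fun i k h => by
        have := congrArg Fin.val h; simp at this; omega
      simp [hne]
  | zero =>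
    convert Submodule.zero_mem (trivRel (Fin.append f g)) using 1
    funext k
    induction k using Fin.addCases <;> simp
  | add x y _ _ hx hy =>
    convert add_mem hx hy using 1
    funext k
    induction k using Fin.addCases <;> simp
  | smul c x _ hx =>
    convert Submodule.smul_mem _ c hx using 1
    funext k
    induction k using Fin.addCases <;> simp

open KoszulLib in
theorem trivRel_append_right {R : Type u} [CommRing R] {m n : ℕ} (f : Fin m → R) {g : Fin n → R} {b : Fin n → R}
    (hb : b ∈ trivRel g) : Fin.append 0 b ∈ trivRel (Fin.append f g) := by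
  induction hb using Submodule.span_induction with
  | mem v hv =>
    obtain ⟨i, j, rfl⟩ := hv
    convert trivRel_gen (Fin.append f g) (Fin.natAdd m i) (Fin.natAdd m j) using 1
    funext k
    induction k using Fin.addCases with
    | left k =>
      have hne : ∀ (i : Fin m) (k : Fin n), Fin.castAdd n i ≠ Fin.natAdd m k := fun i k h => by
        have := congrArg Fin.val h; simp at this; omega
      simp [hne]
    | right k => simp [Pi.single_apply]
  | zero =>
    convert Submodule.zero_mem (trivRel (Fin.append f g)) using 1
    funext k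
    induction k using Fin.addCases <;> simp
  | add x y _ _ hx hy =>
    convert add_mem hx hy using 1
    funext k
    induction k using Fin.addCases <;> simp
  | smul c x _ hx =>
    convert Submodule.smul_mem _ c hx using 1
    funext k
    induction k using Fin.addCases <;> simp

open KoszulLib in
/-- Concatenation of `H₁`-regular sequences. -/
theorem h1_append {R R' : Type u} [CommRing R] [CommRing R'] (π : R →+* R') (hπ : Function.Surjective π) {m n : ℕ}
    {f : Fin m → R} {g : Fin n → R} (hker : RingHom.ker π = Ideal.span (Set.range f)) (hf : CAlgX.IsH1Regular f)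
    (hg : CAlgX.IsH1Regular (π ∘ g)) : CAlgX.IsH1Regular (Fin.append f g) := by
  classical
  rw [h1_iff]
  intro c hc
  let a : Fin m → R := fun i => c (Fin.castAdd n i)
  let b : Fin n → R := fun j => c (Fin.natAdd m j)
  have hac : c = Fin.append a b := by funext k; induction k using Fin.addCases <;> simp [a, b]
  rw [Fin.sum_univ_add] at hc
  simp only [Fin.append_left, Fin.append_right] at hc
  have hfπ : ∀ i, π (f i) = 0 := fun i => RingHom.mem_ker.mp (hker ▸ Ideal.subset_span (Set.mem_range_self i))
  have hb : (π ∘ b) ∈ trivRel (π ∘ g) := h1_iff.mp hg _ (by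
    have h0 := congrArg π hc
    simpa [map_sum, hfπ, b] using h0)
  obtain ⟨t, ht, hte⟩ : ∃ t ∈ trivRel g, π ∘ t = π ∘ b := by
    clear hc hac
    generalize π ∘ b = v at hb
    induction hb using Submodule.span_induction with
    | mem v hv =>
      obtain ⟨i, j, rfl⟩ := hv
      refine ⟨_, trivRel_gen g i j, ?_⟩
      funext k
      simp only [Function.comp_apply, Pi.sub_apply, Pi.single_apply, map_sub]
      split_ifs <;> simp
    | zero => exact ⟨0, zero_mem _, by funext k; simp⟩
    | add x y _ _ hx hy =>
      obtain ⟨s, hs, rfl⟩ := hx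
      obtain ⟨s', hs', rfl⟩ := hy
      exact ⟨s + s', add_mem hs hs', by funext k; simp⟩
    | smul r x _ hx =>
      obtain ⟨s, hs, rfl⟩ := hx
      obtain ⟨r', rfl⟩ := hπ r
      exact ⟨r' • s, Submodule.smul_mem _ r' hs, by funext k; simp⟩
  have hdiff : ∀ j, b j - t j ∈ Ideal.span (Set.range f) := fun j => by
    rw [← hker, RingHom.mem_ker, map_sub, show π (t j) = π (b j) from congrFun hte j, sub_self]
  choose e he using fun j => Ideal.mem_span_range_iff_exists_fun.mp (hdiff j)
  have ht0 : ∑ j, t j * g j = 0 := by
    clear hte hdiff he e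
    induction ht using Submodule.span_induction with
    | mem v hv => obtain ⟨p, q, rfl⟩ := hv; simp [Pi.single_apply, sub_mul, Finset.sum_sub_distrib]; ring
    | zero => simp
    | add u v _ _ hu hv => simp only [Pi.add_apply, add_mul, Finset.sum_add_distrib]; rw [hu, hv, add_zero]
    | smul r v _ hv => simp only [Pi.smul_apply, smul_eq_mul, mul_assoc, ← Finset.mul_sum]; rw [hv, mul_zero]
  have ha : (fun i => a i + ∑ j, e j i * g j) ∈ trivRel f := h1_iff.mp hf _ (by
    simp only [add_mul, Finset.sum_add_distrib, Finset.sum_mul]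
    rw [Finset.sum_comm]
    have h1 : ∀ j, ∑ i, e j i * g j * f i = (b j - t j) * g j := fun j => by
      rw [← he, Finset.sum_mul]; exact Finset.sum_congr rfl fun i _ => by ring
    simp only [h1, sub_mul, Finset.sum_sub_distrib, ht0, sub_zero]
    exact hc)
  have hdec : c = Fin.append (fun i => a i + ∑ j, e j i * g j) 0 + Fin.append 0 t +
      ∑ j, ∑ i, e j i • (Pi.single (Fin.natAdd m j) (Fin.append f g (Fin.castAdd n i)) -
        Pi.single (Fin.castAdd n i) (Fin.append f g (Fin.natAdd m j))) := by
    rw [hac]
    funext k
    induction k using Fin.addCases with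
    | left k =>
      have hne : ∀ j : Fin n, Fin.castAdd n k ≠ Fin.natAdd m j := fun j h => by
        have := congrArg Fin.val h; simp at this; omega
      simp only [Pi.add_apply, Finset.sum_apply, Pi.smul_apply, Pi.sub_apply, smul_eq_mul, Pi.single_apply,
        if_neg (hne _), Fin.append_left, Fin.append_right, Fin.castAdd_inj, zero_sub, mul_neg,
        Finset.sum_neg_distrib, mul_ite, mul_zero, Finset.sum_ite_eq, Finset.mem_univ, if_true, Pi.zero_apply, add_zero]
      ring
    | right k =>
      have hne : ∀ i : Fin m, Fin.natAdd m k ≠ Fin.castAdd n i := fun i h => by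
        have := congrArg Fin.val h; simp at this; omega
      simp only [Pi.add_apply, Finset.sum_apply, Pi.smul_apply, Pi.sub_apply, smul_eq_mul, Pi.single_apply,
        if_neg (hne _), Fin.append_left, Fin.append_right, Fin.natAdd_inj, sub_zero, mul_ite, mul_zero,
        Finset.sum_ite_irrel, Finset.sum_const_zero, Finset.sum_ite_eq, Finset.mem_univ, if_true, Pi.zero_apply, zero_add]
      rw [he]; ring
  rw [hdec]
  exact add_mem (add_mem (trivRel_append_left g ha) (trivRel_append_right f ht))
    (Submodule.sum_mem _ fun j _ => Submodule.sum_mem _ fun i _ => Submodule.smul_mem _ _ (trivRel_gen _ _ _))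

/-- Syntomic algebras compose. -/
theorem isSyntomic_trans {A B C : Type u} [CommRing A] [CommRing B] [CommRing C] [Algebra A B] [Algebra B C]
    [Algebra A C] [IsScalarTower A B C] (h₁ : Synt.IsSyntomic A B) (h₂ : Synt.IsSyntomic B C) :
    Synt.IsSyntomic A C := by
  haveI := h₁.1
  haveI := h₁.2.1
  haveI := h₂.1
  haveI := h₂.2.1
  have hloc : ∀ q : PrimeSpectrum C, ∃ g : C, g ∉ q.asIdeal ∧ Synt.IsSyntomic A (Localization.Away g) := by
    intro q
    obtain ⟨n, φ, hφ, -⟩ := (Algebra.FinitePresentation.out (R := A) (A := B))
    obtain ⟨c, F, a, -, haq, hI, hreg, -⟩ := exists_regular_away φ hφ h₁ (q.asIdeal.comap (algebraMap B C))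
    let P := MvPolynomial (Fin n) A
    let T := Localization.Away a
    let B' := Localization.Away (φ a)
    let b := algebraMap B C (φ a)
    let C' := Localization.Away b
    let ι : B' →+* C' := IsLocalization.Away.lift (φ a) (g := algebraMap B C')
      (by rw [IsScalarTower.algebraMap_apply B C C']; exact IsLocalization.Away.algebraMap_isUnit b)
    letI : Algebra B' C' := ι.toAlgebra
    haveI : IsScalarTower B B' C' :=
      IsScalarTower.of_algebraMap_eq fun x => (IsLocalization.Away.lift_eq (φ a) _ x).symm
    haveI : IsScalarTower A B' C' := IsScalarTower.of_algebraMap_eq fun x => by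
      rw [IsScalarTower.algebraMap_apply A B B', ← IsScalarTower.algebraMap_apply B B' C',
        ← IsScalarTower.algebraMap_apply A B C']
    haveI : IsLocalization (Algebra.algebraMapSubmonoid C (Submonoid.powers (φ a))) C' := by
      rw [show Algebra.algebraMapSubmonoid C (Submonoid.powers (φ a)) = Submonoid.powers b from Submonoid.map_powers _ _]
      infer_instance
    haveI : Algebra.IsPushout B B' C C' := (Algebra.isPushout_of_isLocalization (Submonoid.powers (φ a)) B' C C').symm
    have hC' : Synt.IsSyntomic B' C' :=
      isSyntomic_of_algEquiv (Algebra.IsPushout.equiv B B' C C') (isSyntomic_baseChange B' h₂)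
    have hbq : b ∉ q.asIdeal := haq
    haveI hq' : (q.asIdeal.map (algebraMap C C')).IsPrime :=
      IsLocalization.isPrime_of_isPrime_disjoint (Submonoid.powers b) C' q.asIdeal q.isPrime
        (Ideal.disjoint_powers_iff_notMem b (q.isPrime.isRadical) |>.mpr hbq)
    obtain ⟨g, hg, m, d, G, hG, ⟨ψ⟩⟩ := exists_relGCI_of_isSyntomic hC' (q.asIdeal.map (algebraMap C C'))
    obtain ⟨g₀, s, hgs⟩ : ∃ (g₀ : C) (s : Submonoid.powers b), g * algebraMap C C' s = algebraMap C C' g₀ := by
      obtain ⟨⟨g₀, s⟩, h⟩ := IsLocalization.surj (Submonoid.powers b) g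
      exact ⟨g₀, s, h⟩
    have hg₀ : b * g₀ ∉ q.asIdeal := fun hm => (q.isPrime.mem_or_mem hm).elim hbq fun h0 => hg (by
      have h1 : g * algebraMap C C' s ∈ q.asIdeal.map (algebraMap C C') := hgs ▸ Ideal.mem_map_of_mem _ h0
      exact (Ideal.mul_unit_mem_iff_mem _ (IsLocalization.map_units C' s)).mp h1)
    refine ⟨b * g₀, hg₀, ?_⟩
    let C'' := Localization.Away g
    -- the ambient smooth algebra
    have hM : Submonoid.map φ.toRingHom (Submonoid.powers a) = Submonoid.powers (φ a) := Submonoid.map_powers _ a
    let θ : T →+* B' := IsLocalization.map (M := Submonoid.powers a) (S := T)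
      (T := Submonoid.powers (φ a)) B' φ.toRingHom (hM ▸ Submonoid.le_comap_map _)
    have hθ : Function.Surjective θ := fun y => by
      obtain ⟨y', ⟨_, k, rfl⟩, rfl⟩ := IsLocalization.exists_mk'_eq (Submonoid.powers (φ a)) y
      obtain ⟨x, rfl⟩ := hφ y'
      refine ⟨IsLocalization.mk' T x (⟨a ^ k, k, rfl⟩ : Submonoid.powers a), ?_⟩
      refine (IsLocalization.map_mk' (hM ▸ Submonoid.le_comap_map _) x _).trans ?_
      congr 1
      exact Subtype.ext (map_pow φ a k)
    have hθA : ∀ r : A, θ (algebraMap A T r) = algebraMap A B' r := fun r => by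
      rw [IsScalarTower.algebraMap_apply A P T, IsLocalization.map_eq, IsScalarTower.algebraMap_apply A B B']
      exact congrArg _ (φ.commutes r)
    have hθk : RingHom.ker θ = Ideal.span (Set.range (algebraMap P T ∘ F)) := by
      rw [show θ = IsLocalization.map (M := Submonoid.powers a) (S := T) (T := Submonoid.powers (φ a)) B' φ.toRingHom
        (hM ▸ Submonoid.le_comap_map _) from rfl, IsLocalization.ker_map (S := T) B' φ.toRingHom hM, hI]
    let π : MvPolynomial (Fin m) T →+* MvPolynomial (Fin m) B' := MvPolynomial.map θ
    have hπ : Function.Surjective π := MvPolynomial.map_surjective θ hθ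
    have hπk : RingHom.ker π = Ideal.span (Set.range fun i => MvPolynomial.C (algebraMap P T (F i))) := by
      rw [show π = MvPolynomial.map θ from rfl, MvPolynomial.ker_map, hθk, Ideal.map_span, ← Set.range_comp]
      rfl
    choose G' hG' using fun j => hπ (G j)
    have hH : CAlgX.IsH1Regular (Fin.append (fun i => (MvPolynomial.C (algebraMap P T (F i)) : MvPolynomial (Fin m) T)) G') := by
      refine h1_append π hπ hπk (h1_polynomial (KoszulLib.isH1Regular_of_acyclic (KoszulLib.acyclic_of_isWeaklyRegular' hreg))) ?_
      rw [show π ∘ G' = G from funext hG']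
      exact KoszulLib.isH1Regular_of_acyclic (acyclic_relGCI hG)
    haveI : Algebra.Smooth A P := ⟨inferInstance, inferInstance⟩
    haveI : Algebra.Smooth P T := Algebra.Smooth.of_isLocalization_Away a
    haveI : Algebra.Smooth A T := Algebra.Smooth.comp A P T
    haveI : Algebra.Smooth T (MvPolynomial (Fin m) T) := ⟨inferInstance, inferInstance⟩
    haveI : Algebra.Smooth A (MvPolynomial (Fin m) T) := Algebra.Smooth.comp A T _
    let ω₀ : MvPolynomial (Fin m) T →+* C'' :=
      ψ.symm.toAlgHom.toRingHom.comp ((Ideal.Quotient.mk (Ideal.span (Set.range G))).comp π)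
    let ω : MvPolynomial (Fin m) T →ₐ[A] C'' :=
      { ω₀ with
        commutes' := fun r => by
          show ψ.symm (Ideal.Quotient.mk _ (π (algebraMap A (MvPolynomial (Fin m) T) r))) = algebraMap A C'' r
          rw [IsScalarTower.algebraMap_apply A T, MvPolynomial.algebraMap_eq]
          show ψ.symm (Ideal.Quotient.mk _ (MvPolynomial.map θ (MvPolynomial.C _))) = _
          rw [MvPolynomial.map_C, hθA, IsScalarTower.algebraMap_apply A B' C'']
          exact ψ.symm.commutes _ }
    have hω : Function.Surjective ω := (ψ.symm.surjective.comp Ideal.Quotient.mk_surjective).comp hπ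
    have hωk : RingHom.ker ω.toRingHom =
        Ideal.span (Set.range (Fin.append (fun i => (MvPolynomial.C (algebraMap P T (F i)) : MvPolynomial (Fin m) T)) G')) := by
      rw [show ω.toRingHom = ψ.symm.toAlgHom.toRingHom.comp ((Ideal.Quotient.mk (Ideal.span (Set.range G))).comp π) from rfl,
        RingHom.ker_comp_of_injective _ ψ.symm.injective, ← RingHom.comap_ker, Ideal.mk_ker,
        show Ideal.span (Set.range G) = (Ideal.span (Set.range G')).map π by
          rw [Ideal.map_span, ← Set.range_comp, show π ∘ G' = G from funext hG'],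
        Ideal.comap_map_of_surjective π hπ, ← RingHom.ker_eq_comap_bot, hπk, ← Ideal.span_union]
      congr 1
      ext y
      constructor
      · rintro (⟨i, rfl⟩ | ⟨i, rfl⟩)
        · exact ⟨Fin.natAdd _ i, Fin.append_right ..⟩
        · exact ⟨Fin.castAdd _ i, Fin.append_left ..⟩
      · rintro ⟨i, rfl⟩
        induction i using Fin.addCases with
        | left i => exact Or.inr ⟨i, by rw [Fin.append_left]⟩
        | right i => exact Or.inl ⟨i, by rw [Fin.append_right]⟩
    haveI : Module.Flat C C' := IsLocalization.flat _ (Submonoid.powers b)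
    haveI : Module.Flat C' C'' := IsLocalization.flat _ (Submonoid.powers g)
    haveI : Module.Flat A C := Module.Flat.trans A B C
    haveI : Module.Flat A C' := Module.Flat.trans A C C'
    haveI : Module.Flat A C'' := Module.Flat.trans A C' C''
    have hsyn := isSyntomic_of_h1 ω hω _ hωk hH
    haveI : IsLocalization.Away (algebraMap C C' g₀) C'' :=
      IsLocalization.Away.of_associated (r := g) (by
        obtain ⟨u, hu⟩ := IsLocalization.map_units C' s
        exact ⟨u, by rw [hu]; exact hgs⟩)
    haveI : IsLocalization.Away (b * g₀) C'' := IsLocalization.Away.mul' C' C'' b g₀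
    exact isSyntomic_of_algEquiv
      ((IsLocalization.algEquiv (Submonoid.powers (b * g₀)) C'' (Localization.Away (b * g₀))).restrictScalars A) hsyn
  choose g hg hsyn using hloc
  refine isSyntomic_of_cover (Set.range g) ?_ (by rintro _ ⟨q, rfl⟩; exact hsyn q)
  by_contra h
  obtain ⟨m, hm, hle⟩ := Ideal.exists_le_maximal _ h
  exact hg ⟨m, hm.isPrime⟩ (hle (Ideal.subset_span ⟨⟨m, hm.isPrime⟩, rfl⟩))

theorem syn_stableUnderComposition : RingHom.StableUnderComposition @Syn := by
  introv R hf hg
  letI := f.toAlgebra
  letI := g.toAlgebra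
  letI := (g.comp f).toAlgebra
  haveI : IsScalarTower R S T := IsScalarTower.of_algebraMap_eq fun _ => rfl
  exact isSyntomic_trans hf hg

theorem synMor_comp {X Y Z : Scheme.{u}} {f : X ⟶ Y} {g : Y ⟶ Z} (hf : SynMor f) (hg : SynMor g) : SynMor (f ≫ g) :=
  haveI := HasRingHomProperty.stableUnderComposition (P := SynMor.{u}) syn_stableUnderComposition
  MorphismProperty.comp_mem _ f g hf hg

theorem synMor_isStableUnderBaseChange : MorphismProperty.IsStableUnderBaseChange SynMor.{u} :=
  HasRingHomProperty.isStableUnderBaseChange syn_stableUnderBaseChange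

end Groth.Agent.SyntLib
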