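import Groth.Agent.SyntLib.Rel
import Mathlib.RingTheory.AdjoinRoot
import Mathlib.RingTheory.Flat.Rank
import Mathlib.Algebra.MvPolynomial.Expand

/-!
# Square presentations
-/

set_option autoImplicit false
set_option linter.style.haveILetI false
universe u

open MvPolynomial

namespace Groth.Agent.SyntLib

/-- As many equations as variables. -/
def HasSquarePres (A B : Type u) [CommRing A] [CommRing B] [Algebra A B] : Prop :=
  ∃ (n : ℕ) (F : Fin n → MvPolynomial (Fin n) A), Nonempty (B ≃ₐ[A] Synt.RelGCIRing A n n F)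

theorem hasSquarePres_self (A : Type u) [CommRing A] : HasSquarePres A A := by
  refine ⟨0, Fin.elim0, ⟨AlgEquiv.ofAlgHom (Algebra.ofId A _)
    (Ideal.Quotient.liftₐ _ (aeval (Fin.elim0 : Fin 0 → A)) fun a ha => ?_) ?_ (by ext)⟩⟩
  · rw [Set.range_eq_empty, Ideal.span_empty, Ideal.mem_bot] at ha
    rw [ha, map_zero]
  · apply Ideal.Quotient.algHom_ext
    exact MvPolynomial.algHom_ext fun i => i.elim0

theorem hasSquarePres_of_algEquiv {A B B' : Type u} [CommRing A] [CommRing B] [Algebra A B] [CommRing B'] [Algebra A B']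
    (e : B ≃ₐ[A] B') (h : HasSquarePres A B) : HasSquarePres A B' := by
  obtain ⟨n, F, ⟨e'⟩⟩ := h
  exact ⟨n, F, ⟨e.symm.trans e'⟩⟩

/-- Adjoining a root keeps square presentations. -/
theorem hasSquarePres_adjoinRoot {A B : Type u} [CommRing A] [CommRing B] [Algebra A B] (h : HasSquarePres A B)
    (Q : Polynomial B) : HasSquarePres A (AdjoinRoot Q) := by
  obtain ⟨n, F, ⟨e⟩⟩ := h
  let π : MvPolynomial (Fin n) A →ₐ[A] B := e.symm.toAlgHom.comp (Ideal.Quotient.mkₐ A _)
  have hπ : Function.Surjective π := e.symm.surjective.comp Ideal.Quotient.mk_surjective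
  have hkπ : RingHom.ker π.toRingHom = Ideal.span (Set.range F) := by
    ext a
    show e.symm (Ideal.Quotient.mk _ a) = 0 ↔ _
    rw [map_eq_zero_iff e.symm e.symm.injective, Ideal.Quotient.eq_zero_iff_mem]
  obtain ⟨Q', hQ'⟩ := Polynomial.map_surjective π.toRingHom hπ Q
  let E := MvPolynomial.finSuccEquiv A n
  let G : Fin (n + 1) → MvPolynomial (Fin (n + 1)) A := fun i => E.symm ((Fin.cons Q' (fun j => Polynomial.C (F j)) : Fin (n + 1) → Polynomial (MvPolynomial (Fin n) A)) i)
  let φ₀ : Polynomial (MvPolynomial (Fin n) A) →ₐ[A] AdjoinRoot Q :=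
    ((AdjoinRoot.mkₐ Q).restrictScalars A).comp (Polynomial.mapAlgHom π)
  have hφ₀ : Function.Surjective φ₀ :=
    AdjoinRoot.mk_surjective.comp (Polynomial.map_surjective π.toRingHom hπ)
  have hk₀ : RingHom.ker φ₀.toRingHom = Ideal.span (Set.range (Fin.cons Q' fun j => Polynomial.C (F j))) := by
    have h1 : RingHom.ker φ₀.toRingHom = (Ideal.span {Q}).comap (Polynomial.mapRingHom π.toRingHom) := by
      ext a
      show AdjoinRoot.mk Q (Polynomial.mapRingHom π.toRingHom a) = 0 ↔ _
      rw [AdjoinRoot.mk_eq_zero, Ideal.mem_comap, Ideal.mem_span_singleton]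
    have h2 : Ideal.span {Q} = (Ideal.span {Q'}).map (Polynomial.mapRingHom π.toRingHom) := by
      rw [Ideal.map_span, Set.image_singleton, Polynomial.coe_mapRingHom, hQ']
    rw [h1, h2, Ideal.comap_map_of_surjective _ (Polynomial.map_surjective π.toRingHom hπ),
      ← RingHom.ker_eq_comap_bot, Polynomial.ker_mapRingHom, hkπ, Fin.range_cons, Ideal.span_insert,
      Ideal.map_span, ← Set.range_comp]
    rfl
  let φ : MvPolynomial (Fin (n + 1)) A →ₐ[A] AdjoinRoot Q := φ₀.comp E.toAlgHom
  have hk : RingHom.ker φ.toRingHom = Ideal.span (Set.range G) := by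
    have h1 : RingHom.ker φ.toRingHom = (RingHom.ker φ₀.toRingHom).comap E.toRingEquiv.toRingHom := rfl
    have h2 : ∀ K : Ideal (Polynomial (MvPolynomial (Fin n) A)),
        K.comap E.toRingEquiv.toRingHom = K.map E.symm.toRingEquiv.toRingHom := fun K => Ideal.comap_symm E.symm.toRingEquiv
    rw [h1, h2, hk₀, Ideal.map_span, ← Set.range_comp]
    rfl
  exact ⟨n + 1, G, ⟨((Ideal.quotientEquivAlgOfEq A hk.symm).trans
    (Ideal.quotientKerAlgEquivOfSurjective (f := φ) (hφ₀.comp E.surjective))).symm⟩⟩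

/-- Finite algebras with square presentations are syntomic. -/
theorem isSyntomic_of_hasSquarePres {A B : Type u} [CommRing A] [CommRing B] [Algebra A B] [Module.Finite A B]
    (h : HasSquarePres A B) : Synt.IsSyntomic A B := by
  obtain ⟨n, F, ⟨e⟩⟩ := h
  haveI : Module.Finite A (Synt.RelGCIRing A n n F) := Module.Finite.equiv e.toLinearEquiv
  exact isSyntomic_of_algEquiv e.symm (isSyntomic_relGCI (isRelGCI_of_finite F))

theorem faithfullyFlat_adjoinRoot {A : Type u} [CommRing A] {Q : Polynomial A} (hQ : Q.Monic) (hd : 0 < Q.natDegree) :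
    Module.FaithfullyFlat A (AdjoinRoot Q) := by
  haveI := hQ.free_adjoinRoot
  by_cases hA : Subsingleton A
  · exact { submodule_ne_top := fun m hm => absurd (Subsingleton.elim m ⊤) hm.ne_top }
  haveI := not_subsingleton_iff_nontrivial.mp hA
  haveI : Nontrivial (AdjoinRoot Q) :=
    ⟨⟨(AdjoinRoot.powerBasis' hQ).basis ⟨0, hd⟩, 0, (AdjoinRoot.powerBasis' hQ).basis.ne_zero _⟩⟩
  infer_instance

/-- A splitting algebra with a square presentation. -/
theorem exists_splitting_square {A : Type u} [CommRing A] : ∀ (d : ℕ) (B : Type u) [CommRing B] [Algebra A B]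
    [Module.Finite A B] [Module.Free A B], HasSquarePres A B → Function.Injective (algebraMap A B) → ∀ P : Polynomial B,
    P.Monic → P.natDegree = d →
    ∃ (A' : Type u) (_ : CommRing A') (_ : Algebra A A') (ι : B →ₐ[A] A'), Module.Finite A A' ∧ Module.Free A A' ∧
      Function.Injective (algebraMap A A') ∧ HasSquarePres A A' ∧
      ∃ s : Multiset A', P.map ι.toRingHom = (s.map fun b => Polynomial.X - Polynomial.C b).prod := by
  intro d
  induction d with
  | zero =>
    intro B _ _ _ _ hB hi P hP hd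
    refine ⟨B, inferInstance, inferInstance, AlgHom.id A B, inferInstance, inferInstance, hi, hB, 0, ?_⟩
    rw [Multiset.map_zero, Multiset.prod_zero, Polynomial.Monic.natDegree_eq_zero hP |>.mp hd]
    simp
  | succ d ih =>
    intro B _ _ _ _ hB hi P hP hd
    by_cases hA : Subsingleton A
    · haveI : Subsingleton B := Module.subsingleton A B
      exact ⟨B, inferInstance, inferInstance, AlgHom.id A B, inferInstance, inferInstance, hi, hB, 0,
        Subsingleton.elim _ _⟩
    haveI := not_subsingleton_iff_nontrivial.mp hA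
    haveI : Nontrivial B := hi.nontrivial
    haveI := hP.free_adjoinRoot
    haveI := hP.finite_adjoinRoot
    haveI : Module.Finite A (AdjoinRoot P) := Module.Finite.trans B (AdjoinRoot P)
    haveI : Module.Free A (AdjoinRoot P) := Module.Free.trans (R := A) (S := B) (M := AdjoinRoot P)
    let j : B →ₐ[A] AdjoinRoot P := IsScalarTower.toAlgHom A B (AdjoinRoot P)
    haveI : Nontrivial (AdjoinRoot P) := ⟨⟨(AdjoinRoot.powerBasis' hP).basis ⟨0, show 0 < P.natDegree by omega⟩, 0,
      (AdjoinRoot.powerBasis' hP).basis.ne_zero _⟩⟩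
    have hinj : Function.Injective (algebraMap A (AdjoinRoot P)) := FaithfulSMul.algebraMap_injective A (AdjoinRoot P)
    obtain ⟨q, hq⟩ := Polynomial.dvd_iff_isRoot.mpr (AdjoinRoot.isRoot_root P)
    have hq' : q.Monic := (Polynomial.monic_X_sub_C (AdjoinRoot.root P)).of_mul_monic_left (hq ▸ hP.map _)
    have hdeg : q.natDegree = d := by
      have h1 := congrArg Polynomial.natDegree hq
      rw [hP.natDegree_map, (Polynomial.monic_X_sub_C _).natDegree_mul hq', Polynomial.natDegree_X_sub_C] at h1
      omega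
    obtain ⟨A', i1, i2, ι, hf, hfr, hinj', hsq, s, hs⟩ :=
      ih (AdjoinRoot P) (hasSquarePres_adjoinRoot hB P) hinj q hq' hdeg
    refine ⟨A', i1, i2, ι.comp j, hf, hfr, hinj', hsq, ι (AdjoinRoot.root P) ::ₘ s, ?_⟩
    rw [show (ι.comp j).toRingHom = ι.toRingHom.comp (AdjoinRoot.of P) from rfl, ← Polynomial.map_map, hq,
      Polynomial.map_mul, hs, Polynomial.map_sub, Polynomial.map_X, Polynomial.map_C, Multiset.map_cons,
      Multiset.prod_cons]
    rfl

end Groth.Agent.SyntLib

namespace Groth.Agent.SyntLib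

/-- Adjoining roots of the variables. -/
theorem isSyntomic_of_pow_eq {p m : ℕ} (hp : 0 < p) {A B C : Type u} [CommRing A] [CommRing B] [CommRing C]
    [Algebra A B] [Algebra A C] [Algebra B C] [IsScalarTower A B C] (t : Fin m → B) (x : Fin m → C)
    (hB : Function.Surjective (MvPolynomial.aeval t : MvPolynomial (Fin m) A →ₐ[A] B))
    (hC : Function.Bijective (MvPolynomial.aeval x : MvPolynomial (Fin m) A →ₐ[A] C))
    (hx : ∀ i, x i ^ p = algebraMap B C (t i)) : Synt.IsSyntomic B C ∧ Module.Finite B C := by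
  let F : Fin m → MvPolynomial (Fin m) B := fun i => X i ^ p - MvPolynomial.C (t i)
  let f₀ : MvPolynomial (Fin m) B →ₐ[B] C := aeval x
  have hf₀ : Ideal.span (Set.range F) ≤ RingHom.ker f₀.toRingHom := Ideal.span_le.mpr (by
    rintro _ ⟨i, rfl⟩
    show f₀ (X i ^ p - MvPolynomial.C (t i)) = 0
    rw [map_sub, map_pow, aeval_X, aeval_C, hx, sub_self])
  let f : Synt.RelGCIRing B m m F →ₐ[B] C := Ideal.Quotient.liftₐ _ f₀ fun a ha => hf₀ ha
  let E : MvPolynomial (Fin m) A ≃ₐ[A] C := AlgEquiv.ofBijective _ hC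
  let g : C →ₐ[A] Synt.RelGCIRing B m m F :=
    (aeval fun i => Ideal.Quotient.mk (Ideal.span (Set.range F)) (X i)).comp E.symm.toAlgHom
  have hgx : ∀ i, g (x i) = Ideal.Quotient.mk (Ideal.span (Set.range F)) (X i) := fun i => by
    show aeval _ (E.symm (x i)) = _
    rw [show x i = E (X i) from (aeval_X x i).symm, E.symm_apply_apply, aeval_X]
  have hgB : ∀ b, g (algebraMap B C b) = algebraMap B _ b := by
    intro b
    obtain ⟨P, rfl⟩ := hB b
    refine DFunLike.congr_fun (?_ : (g.comp (IsScalarTower.toAlgHom A B C)).comp (aeval t) =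
      (IsScalarTower.toAlgHom A B (Synt.RelGCIRing B m m F)).comp (aeval t)) P
    refine MvPolynomial.algHom_ext fun i => ?_
    show g (algebraMap B C (aeval t (X i))) = algebraMap B _ (aeval t (X i))
    rw [aeval_X, ← hx, map_pow, hgx, ← map_pow]
    exact Ideal.Quotient.eq.mpr (Ideal.subset_span (Set.mem_range_self i))
  have hgf : g.toRingHom.comp f.toRingHom = RingHom.id _ := by
    refine Ideal.Quotient.ringHom_ext (MvPolynomial.ringHom_ext (fun b => ?_) fun i => ?_)
    · show g (f₀ (MvPolynomial.C b)) = _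
      rw [aeval_C, hgB]
      rfl
    · show g (f₀ (X i)) = _
      rw [aeval_X, hgx]
      rfl
  have hfg : ∀ c, f (g c) = c := by
    intro c
    obtain ⟨P, rfl⟩ := hC.2 c
    refine DFunLike.congr_fun (?_ : ((f.restrictScalars A).comp g).comp (aeval x) = aeval x) P
    refine MvPolynomial.algHom_ext fun i => ?_
    show f (g (aeval x (X i))) = aeval x (X i)
    rw [aeval_X, hgx]
    exact aeval_X x i
  let e : Synt.RelGCIRing B m m F ≃ₐ[B] C := AlgEquiv.ofBijective f
    ⟨Function.LeftInverse.injective (g := g) fun a => RingHom.congr_fun hgf a, fun y => ⟨g y, hfg y⟩⟩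
  haveI : Algebra.IsIntegral B C := by
    refine ⟨fun c => ?_⟩
    obtain ⟨P, rfl⟩ := hC.2 c
    induction P using MvPolynomial.induction_on with
    | C a => rw [aeval_C, IsScalarTower.algebraMap_apply A B C]; exact isIntegral_algebraMap
    | add P Q hP hQ => rw [map_add]; exact hP.add hQ
    | mul_X P i hP => rw [map_mul, aeval_X]; exact hP.mul (IsIntegral.of_pow hp (hx i ▸ isIntegral_algebraMap))
  haveI : Algebra.FiniteType A C := Algebra.FiniteType.of_surjective _ hC.2
  haveI : Algebra.FiniteType B C := Algebra.FiniteType.of_restrictScalars_finiteType A B C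
  haveI : Module.Finite B C := Algebra.IsIntegral.finite
  exact ⟨isSyntomic_of_hasSquarePres ⟨m, F, ⟨e.symm⟩⟩, inferInstance⟩

end Groth.Agent.SyntLib
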