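import Groth.Agent.SyntLib.SmoothReg
import Groth.Agent.SyntLib.H1Syn
import Groth.Agent.SyntLib.Koszul
import Groth.Agent.SyntLib.Comp

/-!
# Flat maps between smooth algebras are syntomic
-/

set_option autoImplicit false
set_option linter.style.haveILetI false
universe u

open RingTheory.Sequence AlgebraicGeometry CategoryTheory
open scoped TensorProduct

namespace Groth.Agent.SyntLib

/-- A flat map between smooth algebras is syntomic. -/
theorem isSyntomic_of_smooth_of_smooth (A : Type u) {B C : Type u} [CommRing A] [CommRing B] [CommRing C]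
    [Algebra A B] [Algebra A C] [Algebra B C] [IsScalarTower A B C] [Algebra.Smooth A B] [Algebra.Smooth A C]
    [Module.Flat B C] : Synt.IsSyntomic B C := by
  let Q := C ⊗[A] B
  letI : Algebra B Q := Algebra.TensorProduct.rightAlgebra
  let eQ : (B ⊗[A] C) ≃ₐ[B] Q :=
    AlgEquiv.ofRingEquiv (f := (Algebra.TensorProduct.comm A B C).toRingEquiv) fun b => rfl
  haveI : Algebra.Smooth B (B ⊗[A] C) := inferInstance
  haveI : Algebra.Smooth B Q := Algebra.Smooth.of_equiv eQ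
  let φ : Q →ₐ[C] C := Algebra.TensorProduct.lift (AlgHom.id C C) (IsScalarTower.toAlgHom A B C) fun _ _ => Commute.all _ _
  have hφ : Function.Surjective φ := fun c => ⟨c ⊗ₜ 1, (Algebra.TensorProduct.lift_tmul _ _ _ c 1).trans (by simp)⟩
  have hφr : ∀ b : B, φ (algebraMap B Q b) = algebraMap B C b := fun b => by
    exact (Algebra.TensorProduct.lift_tmul _ _ _ (1 : C) b).trans (by simp)
  have hloc : ∀ q : PrimeSpectrum C, ∃ g : C, g ∉ q.asIdeal ∧ Synt.IsSyntomic B (Localization.Away g) := by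
    intro q
    obtain ⟨g, c, f, hgq, hker, hreg⟩ := exists_regular_smooth φ hφ (isSyntomic_of_smooth C C) q.asIdeal
    refine ⟨φ g, hgq, ?_⟩
    let Qg := Localization.Away g
    let Cg := Localization.Away (φ g)
    have hM : Submonoid.map φ.toRingHom (Submonoid.powers g) = Submonoid.powers (φ g) := Submonoid.map_powers _ g
    let ψ₀ : Qg →+* Cg := IsLocalization.map (M := Submonoid.powers g) (S := Qg)
      (T := Submonoid.powers (φ g)) Cg φ.toRingHom (hM ▸ Submonoid.le_comap_map _)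
    let ψ : Qg →ₐ[B] Cg :=
      { ψ₀ with
        commutes' := fun b => by
          show ψ₀ (algebraMap B Qg b) = _
          rw [IsScalarTower.algebraMap_apply B Q Qg, IsLocalization.map_eq, IsScalarTower.algebraMap_apply B C Cg]
          exact congrArg _ (hφr b) }
    have hψ : Function.Surjective ψ := fun y => by
      obtain ⟨y', ⟨_, k, rfl⟩, rfl⟩ := IsLocalization.exists_mk'_eq (Submonoid.powers (φ g)) y
      obtain ⟨x, rfl⟩ := hφ y'
      refine ⟨IsLocalization.mk' Qg x (⟨g ^ k, k, rfl⟩ : Submonoid.powers g), ?_⟩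
      refine (IsLocalization.map_mk' (hM ▸ Submonoid.le_comap_map _) x _).trans ?_
      congr 1
      exact Subtype.ext (map_pow φ g k)
    haveI : Algebra.Smooth Q Qg := Algebra.Smooth.of_isLocalization_Away g
    haveI : Algebra.Smooth B Qg := Algebra.Smooth.comp B Q Qg
    haveI : Module.Flat C Cg := IsLocalization.flat _ (Submonoid.powers (φ g))
    haveI : Module.Flat B Cg := Module.Flat.trans B C Cg
    refine isSyntomic_of_h1 ψ hψ (algebraMap Q Qg ∘ f) ?_
      (KoszulLib.isH1Regular_of_acyclic (KoszulLib.acyclic_of_isWeaklyRegular' hreg))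
    show RingHom.ker ψ₀ = _
    rw [show ψ₀ = IsLocalization.map (M := Submonoid.powers g) (S := Qg) (T := Submonoid.powers (φ g)) Cg φ.toRingHom
      (hM ▸ Submonoid.le_comap_map _) from rfl, IsLocalization.ker_map (S := Qg) Cg φ.toRingHom hM, hker]
  choose g hg hsyn using hloc
  refine isSyntomic_of_cover (Set.range g) ?_ (by rintro _ ⟨q, rfl⟩; exact hsyn q)
  by_contra h
  obtain ⟨m, hm, hle⟩ := Ideal.exists_le_maximal _ h
  exact hg ⟨m, hm.isPrime⟩ (hle (Ideal.subset_span ⟨⟨m, hm.isPrime⟩, rfl⟩))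

/-- A flat morphism between smooth schemes is syntomic. -/
theorem synMor_of_smooth_of_smooth {X Y S : Scheme.{u}} (f : X ⟶ Y) (q : Y ⟶ S) [Smooth q] [Smooth (f ≫ q)] [Flat f] :
    SynMor f := by
  rw [HasRingHomProperty.iff_exists_appLE (P := SynMor.{u}) syn_awaySource]
  intro x
  obtain ⟨_, ⟨V, hV, rfl⟩, hxV, -⟩ :=
    S.isBasis_affineOpens.exists_subset_of_mem_open (Set.mem_univ (q (f x))) isOpen_univ
  obtain ⟨_, ⟨W, hW, rfl⟩, hxW, hWV⟩ :=
    Y.isBasis_affineOpens.exists_subset_of_mem_open (show f x ∈ ((q ⁻¹ᵁ V : Y.Opens) : Set Y) from hxV) (q ⁻¹ᵁ V).2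
  obtain ⟨_, ⟨U, hU, rfl⟩, hxU, hUW⟩ :=
    X.isBasis_affineOpens.exists_subset_of_mem_open (show x ∈ ((f ⁻¹ᵁ W : X.Opens) : Set X) from hxW) (f ⁻¹ᵁ W).2
  refine ⟨⟨W, hW⟩, ⟨U, hU⟩, hxU, hUW, ?_⟩
  have e : U ≤ (f ≫ q) ⁻¹ᵁ V := fun w hw => hWV (hUW hw)
  have h1 : (q.appLE V W hWV).hom.Smooth := HasRingHomProperty.appLE @Smooth q inferInstance ⟨V, hV⟩ ⟨W, hW⟩ hWV
  have h2 : ((f ≫ q).appLE V U e).hom.Smooth :=
    HasRingHomProperty.appLE @Smooth (f ≫ q) inferInstance ⟨V, hV⟩ ⟨U, hU⟩ e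
  have h3 : (f.appLE W U hUW).hom.Flat := HasRingHomProperty.appLE @Flat f inferInstance ⟨W, hW⟩ ⟨U, hU⟩ hUW
  rw [← Scheme.Hom.appLE_comp_appLE f q V W U hWV hUW] at h2
  letI : Algebra Γ(S, V) Γ(Y, W) := (q.appLE V W hWV).hom.toAlgebra
  letI : Algebra Γ(Y, W) Γ(X, U) := (f.appLE W U hUW).hom.toAlgebra
  letI : Algebra Γ(S, V) Γ(X, U) := (q.appLE V W hWV ≫ f.appLE W U hUW).hom.toAlgebra
  haveI : IsScalarTower Γ(S, V) Γ(Y, W) Γ(X, U) := IsScalarTower.of_algebraMap_eq fun _ => rfl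
  haveI : Algebra.Smooth Γ(S, V) Γ(Y, W) := h1
  haveI : Algebra.Smooth Γ(S, V) Γ(X, U) := h2
  haveI : Module.Flat Γ(Y, W) Γ(X, U) := h3
  exact isSyntomic_of_smooth_of_smooth Γ(S, V)

end Groth.Agent.SyntLib
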