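import Groth.Agent.SyntLib.Cotangent
import Groth.Agent.SyntLib.H1Syn
import Groth.Agent.SyntLib.Hom
import Groth.Agent.KoszulLib.SeqFibre
import Groth.Agent.KoszulLib.FlatQuot
import Groth.Agent.KoszulLib.H1Quasi
import Groth.Agent.EtLiftLib.Projective

/-!
# Lifting syntomic algebras along quotients
-/

set_option autoImplicit false
set_option linter.style.haveILetI false
universe u
open RingTheory.Sequence Matrix MvPolynomial

namespace Groth.Agent.SyntLib

theorem span_range_eq_ofList {A : Type u} [CommRing A] {c : ℕ} (f : Fin c → A) :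
    Ideal.ofList (List.ofFn f) = Ideal.span (Set.range f) := by
  rw [Ideal.ofList]; congr 1; ext y; simp [List.mem_ofFn]

/-- A quotient by elements that are `SeqAt` at a point is syntomic near that point. -/
theorem exists_syntomic_nhd_of_seqAt {R P : Type u} [CommRing R] [CommRing P] [Algebra R P] [Algebra.Smooth R P]
    (H : Ideal P) (z : PrimeSpectrum P) {c : ℕ} (f : Fin c → P) (hfH : Ideal.span (Set.range f) ≤ H) (d₁ : P)
    (hd₁ : d₁ ∉ z.asIdeal) (hkill : ∀ x ∈ H, d₁ * x ∈ Ideal.span (Set.range f))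
    (hseq : InjFibre.SeqAt R (List.ofFn f) z) :
    ∃ d : P, d ∉ z.asIdeal ∧ Synt.IsSyntomic R (Localization.Away (Ideal.Quotient.mk H d)) := by
  obtain ⟨_, ⟨g, rfl⟩, hzg, hgU⟩ := PrimeSpectrum.isTopologicalBasis_basic_opens.exists_subset_of_mem_open
    (show z ∈ {q | InjFibre.SeqAt R (List.ofFn f) q} from hseq) (InjFibre.isOpen_seqAt (R := R) (List.ofFn f))
  refine ⟨g * d₁, fun h => (z.2.mem_or_mem h).elim hzg hd₁, ?_⟩
  let d := g * d₁
  let T := Localization.Away d
  let φ := algebraMap P T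
  let fT : Fin c → T := φ ∘ f
  haveI : Algebra.Smooth R T := Algebra.Smooth.comp R P T
  have hmap : (List.ofFn f).map φ = List.ofFn fT := List.map_ofFn
  have hseqT : ∀ q : PrimeSpectrum T, InjFibre.SeqAt R (List.ofFn fT) q := by
    intro q
    let p : PrimeSpectrum P := ⟨q.asIdeal.comap φ, inferInstance⟩
    have hp : p ∈ {q | InjFibre.SeqAt R (List.ofFn f) q} := by
      refine hgU fun hg => q.2.ne_top (Ideal.eq_top_of_isUnit_mem _ hg ?_)
      exact isUnit_of_mul_isUnit_left (by rw [← map_mul]; exact IsLocalization.Away.algebraMap_isUnit d)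
    let S' := Localization.AtPrime q.asIdeal
    haveI : IsLocalization.AtPrime S' p.asIdeal :=
      IsLocalization.isLocalization_isLocalization_atPrime_isLocalization (Submonoid.powers d) S' q.asIdeal
    have h1 := (InjFibre.seqAt_iff (R := R) (List.ofFn f) p S').1 hp
    refine (InjFibre.seqAt_iff (R := R) (List.ofFn fT) q S').2 ?_
    have h2 : (List.ofFn fT).map (algebraMap T S') = (List.ofFn f).map (algebraMap P S') := by
      rw [← hmap, List.map_map]; rfl
    rw [h2]
    refine ⟨h1.1, fun i hi => h1.2 i ?_⟩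
    simpa using hi
  obtain ⟨hw, hfl⟩ := InjFibre.isWeaklyRegular_of_seqAt _ hseqT
  let HT := H.map φ
  have hHT : HT = Ideal.span (Set.range fT) := by
    refine le_antisymm (Ideal.map_le_iff_le_comap.2 fun x hx => ?_) ?_
    · have h := Ideal.mem_map_of_mem φ (hkill x hx)
      rw [map_mul, Ideal.map_span, ← Set.range_comp] at h
      show φ x ∈ Ideal.span (Set.range fT)
      refine (Ideal.unit_mul_mem_iff_mem _ ?_).1 h
      exact isUnit_of_mul_isUnit_right (by rw [← map_mul]; exact IsLocalization.Away.algebraMap_isUnit d)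
    · rw [Set.range_comp, ← Ideal.map_span]
      exact Ideal.map_mono hfH
  have hflat : Module.Flat R (T ⧸ HT) := by
    have h := hfl (List.ofFn fT).length le_rfl
    have key : ∀ K : Ideal T, K = HT → Module.Flat R (T ⧸ K) → Module.Flat R (T ⧸ HT) := by
      rintro _ rfl h; exact h
    exact key _ (by rw [List.take_length, span_range_eq_ofList, hHT]) h
  have hh1 : CAlgX.IsH1Regular fT :=
    KoszulLib.isH1Regular_of_acyclic (KoszulLib.acyclic_of_isWeaklyRegular' hw)
  have hs : Synt.IsSyntomic R (T ⧸ HT) :=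
    isSyntomic_of_h1 (Ideal.Quotient.mkₐ R HT) Ideal.Quotient.mk_surjective fT (Ideal.mk_ker.trans hHT) hh1
  let M := Algebra.algebraMapSubmonoid (P ⧸ H) (Submonoid.powers d)
  have hM : M = Submonoid.powers (Ideal.Quotient.mk H d) := Submonoid.map_powers _ d
  haveI : IsLocalization (Submonoid.powers (Ideal.Quotient.mk H d)) (T ⧸ HT) :=
    hM ▸ (inferInstanceAs (IsLocalization M (T ⧸ HT)))
  haveI : IsScalarTower R (P ⧸ H) (T ⧸ HT) := IsScalarTower.of_algebraMap_eq fun x => by
    show Ideal.Quotient.mk HT (algebraMap R T x) = Ideal.Quotient.mk HT (algebraMap P T (algebraMap R P x))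
    rw [← IsScalarTower.algebraMap_apply]
  exact isSyntomic_of_algEquiv
    ((IsLocalization.algEquiv (Submonoid.powers (Ideal.Quotient.mk H d)) (T ⧸ HT)
      (Localization.Away (Ideal.Quotient.mk H d))).restrictScalars R) hs

/-- Relations between the images of generators in a flat extension. -/
theorem vecMul_mem_of_rel {P₀ P : Type u} [CommRing P₀] [CommRing P] [Algebra P₀ P] [Module.Flat P₀ P] {m : ℕ}
    (IP : Ideal P₀) (G : Fin m → P₀) (J : Ideal P₀) (E : Matrix (Fin m) (Fin m) P₀)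
    (hE : ∀ a : Fin m → P₀, ∑ l, a l * G l ∈ IP → ∀ k, Matrix.vecMul a E k ∈ J)
    (s : Fin m → P) (hs : ∑ l, s l * algebraMap P₀ P (G l) ∈ IP.map (algebraMap P₀ P)) (k : Fin m) :
    Matrix.vecMul s (E.map (algebraMap P₀ P)) k ∈ J.map (algebraMap P₀ P) := by
  obtain ⟨p, t, i, hti⟩ := Submodule.mem_span_set'.1 hs
  choose i' hi' hii using fun x => (i x).2
  let F : Fin m ⊕ Fin p → P₀ := Sum.elim G i'
  let X : Fin m ⊕ Fin p → P := Sum.elim s (fun x => - t x)
  have hrel : ∑ v, F v • X v = 0 := by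
    simp only [Fintype.sum_sum_type, F, X, Sum.elim_inl, Sum.elim_inr, Algebra.smul_def, mul_neg, Finset.sum_neg_distrib,
      hii, ← sub_eq_add_neg, sub_eq_zero]
    simp only [smul_eq_mul] at hti
    simp only [mul_comm (algebraMap P₀ P (G _))]
    rw [← hti]
    exact Finset.sum_congr rfl fun x _ => mul_comm _ _
  obtain ⟨q, a, y, hX, ha⟩ := Module.Flat.isTrivialRelation_of_sum_smul_eq_zero (R := P₀) (M := P) (f := F) (x := X) hrel
  have hsl : ∀ l, s l = ∑ j, algebraMap P₀ P (a (Sum.inl l) j) * y j := fun l => by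
    have := hX (Sum.inl l)
    simpa [X, Algebra.smul_def] using this
  have hmem : ∀ j, Matrix.vecMul (fun l => a (Sum.inl l) j) E k ∈ J := fun j => by
    refine hE _ ?_ k
    have := ha j
    simp only [Fintype.sum_sum_type, F, Sum.elim_inl, Sum.elim_inr, add_eq_zero_iff_eq_neg] at this
    simp only [mul_comm (a _ j)]
    rw [this]
    exact IP.neg_mem (Ideal.sum_mem _ fun x _ => Ideal.mul_mem_right _ _ (hi' x))
  have : Matrix.vecMul s (E.map (algebraMap P₀ P)) k =
      ∑ j, y j * algebraMap P₀ P (Matrix.vecMul (fun l => a (Sum.inl l) j) E k) := by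
    simp only [Matrix.vecMul, dotProduct, Matrix.map_apply, hsl, map_sum, map_mul, Finset.mul_sum, Finset.sum_mul]
    rw [Finset.sum_comm]
    exact Finset.sum_congr rfl fun j _ => Finset.sum_congr rfl fun l _ => by ring
  rw [this]
  exact Ideal.sum_mem _ fun j _ => Ideal.mul_mem_left _ _ (Ideal.mem_map_of_mem _ (hmem j))

/-- Generators with a projection matrix give few local generators. -/
theorem exists_det_of_local_gens {P : Type u} [CommRing P] {m c : ℕ} (z : Ideal P) [z.IsPrime] (J IP : Ideal P)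
    (hJz : J ≤ z) (G : Fin m → P) (e : Matrix (Fin m) (Fin m) P) (hee : e * e = e)
    (hrel : ∀ s : Fin m → P, ∑ l, s l * G l ∈ IP → ∀ k, Matrix.vecMul s e k ∈ J)
    (f : Fin c → P) (hf : ∀ j, f j ∈ Ideal.span (Set.range (e.mulVec G))) (a : P) (ha : a ∉ z)
    (hgen : ∀ i, a * e.mulVec G i ∈ Ideal.span (Set.range f) ⊔ IP) :
    ∃ d : P, d ∉ z ∧ ∀ x ∈ Ideal.span (Set.range (e.mulVec G)), d * x ∈ Ideal.span (Set.range f) := by
  classical
  set h := e.mulVec G with hh
  have heh : e.mulVec h = h := by rw [hh, mulVec_mulVec, hee]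
  have hC : ∀ i, ∃ C : Fin c → P, a * h i - ∑ j, C j * f j ∈ IP := fun i => by
    obtain ⟨x, hx, y, hy, hxy⟩ := Submodule.mem_sup.1 (hgen i)
    obtain ⟨C, rfl⟩ := Ideal.mem_span_range_iff_exists_fun.1 hx
    exact ⟨C, by rw [← hxy, add_sub_cancel_left]; exact hy⟩
  choose C hC using hC
  choose D hD using fun j => Ideal.mem_span_range_iff_exists_fun.1 (hf j)
  let C' : Matrix (Fin m) (Fin c) P := Matrix.of C
  let D' : Matrix (Fin c) (Fin m) P := Matrix.of D
  have hDh : D'.mulVec h = f := funext hD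
  let W := e * (a • (1 : Matrix (Fin m) (Fin m) P) - C' * D') * e
  have hW : ∀ i k, W i k ∈ J := by
    intro i k
    have h1 : ∑ l, W i l * G l ∈ IP := by
      have : W.mulVec G = e.mulVec (fun l => a * h l - ∑ j, C l j * f j) := by
        simp only [W]
        rw [← mulVec_mulVec, ← hh, ← mulVec_mulVec, sub_mulVec, smul_mulVec, one_mulVec, ← mulVec_mulVec, hDh]
        rfl
      rw [show ∑ l, W i l * G l = W.mulVec G i from rfl, this]
      simp only [Matrix.mulVec, dotProduct]
      exact Ideal.sum_mem _ fun l _ => Ideal.mul_mem_left _ _ (hC l)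
    have h2 := hrel (fun l => W i l) h1 k
    have h3 : Matrix.vecMul (fun l => W i l) e k = W i k := by
      show (W * e) i k = W i k
      simp only [W, mul_assoc, hee]
    rwa [h3] at h2
  let U := a • (1 : Matrix (Fin m) (Fin m) P) - W
  refine ⟨U.det, fun hdet => ?_, fun x hx => ?_⟩
  · have h1 : Ideal.Quotient.mk z U.det = Ideal.Quotient.mk z a ^ m := by
      rw [RingHom.map_det, RingHom.mapMatrix_apply]
      have : U.map (Ideal.Quotient.mk z) = Ideal.Quotient.mk z a • (1 : Matrix (Fin m) (Fin m) (P ⧸ z)) := by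
        refine Matrix.ext fun i k => ?_
        simp only [U, Matrix.map_apply, Matrix.sub_apply, Matrix.smul_apply, smul_eq_mul, map_sub, map_mul,
          Ideal.Quotient.eq_zero_iff_mem.2 (hJz (hW i k)), sub_zero, Matrix.one_apply]
        split_ifs <;> simp
      rw [this, Matrix.det_smul, Matrix.det_one, mul_one, Fintype.card_fin]
    rw [Ideal.Quotient.eq_zero_iff_mem.2 hdet, ← map_pow, eq_comm, Ideal.Quotient.eq_zero_iff_mem] at h1
    exact ha (Ideal.IsPrime.mem_of_pow_mem (I := z) inferInstance m h1)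
  · have hU : ∀ i, U.mulVec h i ∈ Ideal.span (Set.range f) := by
      intro i
      have : U.mulVec h = (e * C').mulVec f := by
        simp only [U, W]
        rw [sub_mulVec, smul_mulVec, one_mulVec, mul_assoc, ← mulVec_mulVec h e, ← mulVec_mulVec h _ e, heh,
          sub_mulVec, smul_mulVec, one_mulVec, ← mulVec_mulVec h C', hDh, mulVec_sub, mulVec_smul, heh,
          sub_sub_cancel, mulVec_mulVec]
      rw [this]
      show ∑ j, (e * C') i j * f j ∈ _
      exact Ideal.sum_mem _ fun j _ => Ideal.mul_mem_left _ _ (Ideal.subset_span (Set.mem_range_self j))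
    obtain ⟨b, rfl⟩ := Ideal.mem_span_range_iff_exists_fun.1 hx
    rw [Finset.mul_sum]
    refine Ideal.sum_mem _ fun i _ => ?_
    rw [mul_left_comm]
    refine Ideal.mul_mem_left _ _ ?_
    have h2 : U.det * h i = U.adjugate.mulVec (U.mulVec h) i := by
      rw [mulVec_mulVec, adjugate_mul, smul_mulVec, one_mulVec]; rfl
    rw [h2]
    show ∑ l, U.adjugate i l * U.mulVec h l ∈ _
    exact Ideal.sum_mem _ fun l _ => Ideal.mul_mem_left _ _ (hU l)

end Groth.Agent.SyntLib

namespace Groth.Agent.SyntLib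

/-- Lifts of regular equations of a flat quotient are `SeqAt`. -/
theorem seqAt_of_regular_red {R P : Type u} [CommRing R] {n : ℕ} (I : Ideal R) [CommRing P] [Algebra R P]
    [Algebra (MvPolynomial (Fin n) R) P] [IsScalarTower R (MvPolynomial (Fin n) R) P]
    [Algebra.FinitePresentation R P] [Module.Flat R P] [Module.Flat (MvPolynomial (Fin n) R) P]
    {B : Type u} [CommRing B] [Algebra (R ⧸ I) B] [Module.Flat (R ⧸ I) B]
    (π₀ : MvPolynomial (Fin n) (R ⧸ I) →ₐ[R ⧸ I] B) (hπ₀ : Function.Surjective π₀)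
    {c : ℕ} (F : Fin c → MvPolynomial (Fin n) R) (a : MvPolynomial (Fin n) R)
    (hker : ∀ x ∈ RingHom.ker π₀.toRingHom, MvPolynomial.map (Ideal.Quotient.mk I) a * x ∈
      Ideal.span (Set.range fun j => MvPolynomial.map (Ideal.Quotient.mk I) (F j)))
    (hFK : ∀ j, π₀ (MvPolynomial.map (Ideal.Quotient.mk I) (F j)) = 0)
    (hreg : IsWeaklyRegular (Localization.Away (MvPolynomial.map (Ideal.Quotient.mk I) a))
      (List.ofFn (algebraMap (MvPolynomial (Fin n) (R ⧸ I))
        (Localization.Away (MvPolynomial.map (Ideal.Quotient.mk I) a)) ∘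
          fun j => MvPolynomial.map (Ideal.Quotient.mk I) (F j))))
    (z : PrimeSpectrum P) (hI : I.map (algebraMap R P) ≤ z.asIdeal) (ha : algebraMap _ P a ∉ z.asIdeal)
    (f : Fin c → P) (hf : ∀ j, f j - algebraMap _ P (F j) ∈ I.map (algebraMap R P)) (hfz : ∀ j, f j ∈ z.asIdeal) :
    InjFibre.SeqAt R (List.ofFn f) z := by
  let P₀ := MvPolynomial (Fin n) R
  let Pb := MvPolynomial (Fin n) (R ⧸ I)
  let red : P₀ →+* Pb := MvPolynomial.map (Ideal.Quotient.mk I)
  have hred : Function.Surjective red := MvPolynomial.map_surjective _ Ideal.Quotient.mk_surjective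
  let IP : Ideal P₀ := I.map (algebraMap R P₀)
  have hkred : RingHom.ker red = IP := by
    rw [MvPolynomial.ker_map, Ideal.mk_ker]
    rfl
  let S' := Localization.AtPrime z.asIdeal
  haveI : Module.Flat P S' := IsLocalization.flat S' z.asIdeal.primeCompl
  haveI : Module.Flat R S' := Module.Flat.trans R P S'
  haveI : Module.Flat P₀ S' := Module.Flat.trans P₀ P S'
  let L := I.map (algebraMap R S')
  have hL : L = IP.map (algebraMap P₀ S') := by
    rw [Ideal.map_map, ← IsScalarTower.algebraMap_eq]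
  let e : (P₀ ⧸ IP) ≃+* Pb := (Ideal.quotEquivOfEq hkred.symm).trans (RingHom.quotientKerEquivOfSurjective hred)
  have hLle : IP ≤ L.comap (algebraMap P₀ S') := by rw [hL]; exact Ideal.le_comap_map
  let θ₀ : P₀ ⧸ IP →+* S' ⧸ L := Ideal.quotientMap L (algebraMap P₀ S') hLle
  let θ : Pb →+* S' ⧸ L := θ₀.comp e.symm.toRingHom
  have hθ : ∀ x, θ (red x) = Ideal.Quotient.mk L (algebraMap P₀ S' x) := fun x => by
    show θ₀ (e.symm (red x)) = _
    rw [show e.symm (red x) = Ideal.Quotient.mk IP x from e.symm_apply_eq.2 rfl]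
    rfl
  letI : Algebra (P₀ ⧸ IP) (S' ⧸ L) := θ₀.toAlgebra
  haveI : IsScalarTower P₀ (P₀ ⧸ IP) (S' ⧸ L) :=
    IsScalarTower.of_algebraMap_eq (R := P₀) (S := P₀ ⧸ IP) (A := S' ⧸ L) fun x => rfl
  have h₀ : θ₀.Flat := KoszulLib.flat_quot_quot (A := P₀) (B := S') IP hL
  have hθflat : θ.Flat := RingHom.Flat.comp (RingHom.Flat.of_bijective e.symm.bijective) h₀
  letI : Algebra Pb (S' ⧸ L) := θ.toAlgebra
  haveI : Module.Flat Pb (S' ⧸ L) := hθflat
  haveI : IsScalarTower (R ⧸ I) Pb (S' ⧸ L) := IsScalarTower.of_algebraMap_eq fun x => by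
    obtain ⟨r, rfl⟩ := Ideal.Quotient.mk_surjective x
    show Ideal.Quotient.mk L (algebraMap R S' r) = θ (MvPolynomial.C (Ideal.Quotient.mk I r))
    rw [show MvPolynomial.C (Ideal.Quotient.mk I r) = red (MvPolynomial.C r) from (MvPolynomial.map_C _ _).symm, hθ,
      IsScalarTower.algebraMap_apply R P₀ S']
    rfl
  let F' : Fin c → Pb := fun j => red (F j)
  let a' := red a
  have hua : IsUnit (θ a') := by
    rw [hθ]
    refine IsUnit.map _ ?_
    rw [IsScalarTower.algebraMap_apply P₀ P S']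
    exact IsLocalization.map_units S' (⟨_, ha⟩ : z.asIdeal.primeCompl)
  let T := Localization.Away a'
  letI : Algebra T (S' ⧸ L) := (IsLocalization.Away.lift a' (g := θ) hua).toAlgebra
  haveI : IsScalarTower Pb T (S' ⧸ L) := IsScalarTower.of_algebraMap_eq fun x =>
    (IsLocalization.Away.lift_eq a' hua x).symm
  haveI : Module.Flat T (S' ⧸ L) :=
    (Module.flat_iff_of_isLocalization T (Submonoid.powers a') (S' ⧸ L)).2 inferInstance
  have hq0 := KoszulLib.quasi_flat (B := S' ⧸ L) (KoszulLib.isQuasiRegular_of_h1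
    (KoszulLib.isH1Regular_of_acyclic (KoszulLib.acyclic_of_isWeaklyRegular' hreg)))
  have hfb : ∀ j, Ideal.Quotient.mk L (algebraMap P S' (f j)) = θ (F' j) := fun j => by
    rw [hθ, Ideal.Quotient.eq, IsScalarTower.algebraMap_apply P₀ P S', ← map_sub]
    have h1 := Ideal.mem_map_of_mem (algebraMap P S') (hf j)
    rwa [Ideal.map_map, ← IsScalarTower.algebraMap_eq] at h1
  have hq : CAlgX.IsQuasiRegular fun j => Ideal.Quotient.mk L (algebraMap P S' (f j)) := by
    convert hq0 using 1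
    funext j
    rw [hfb]
    exact (IsLocalization.Away.lift_eq a' hua (F' j)).symm
  refine KoszulLib.seqAt_of_quasi_mod z S' I (Ideal.map_le_iff_le_comap.1 hI) f hfz hq ?_
  let K := RingHom.ker π₀.toRingHom
  haveI : Module.Flat (R ⧸ I) (Pb ⧸ K) :=
    Module.Flat.of_linearEquiv (Ideal.quotientKerAlgEquivOfSurjective hπ₀).toLinearEquiv
  refine KoszulLib.flat_base_quot (B := Pb) K ?_
  show Ideal.span (Set.range fun j => Ideal.Quotient.mk L (algebraMap P S' (f j))) = K.map θ
  simp only [hfb]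
  refine le_antisymm (Ideal.span_le.2 ?_) (Ideal.map_le_iff_le_comap.2 fun x hx => ?_)
  · rintro _ ⟨j, rfl⟩
    exact Ideal.mem_map_of_mem θ (hFK j)
  · have h1 := Ideal.mem_map_of_mem θ (hker x hx)
    rw [map_mul, Ideal.map_span, ← Set.range_comp] at h1
    exact (Ideal.unit_mul_mem_iff_mem _ hua).1 h1

end Groth.Agent.SyntLib

namespace Groth.Agent.SyntLib

theorem flat_of_etale (P Q : Type u) [CommRing P] [CommRing Q] [Algebra P Q] [Algebra.Etale P Q] :
    Module.Flat P Q := inferInstance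

/-- Syntomic algebras lift along quotients. -/
theorem exists_syntomic_lift {R B : Type u} [CommRing R] (I : Ideal R) [CommRing B] [Algebra (R ⧸ I) B]
    (hB : Synt.IsSyntomic (R ⧸ I) B) :
    ∃ (A : Type u) (_ : CommRing A) (_ : Algebra R A), Synt.IsSyntomic R A ∧
      Nonempty ((A ⧸ I.map (algebraMap R A)) ≃ₐ[R ⧸ I] B) := by
  classical
  haveI := hB.1
  haveI := hB.2.1
  letI : Algebra R B := ((algebraMap (R ⧸ I) B).comp (Ideal.Quotient.mk I)).toAlgebra
  haveI : IsScalarTower R (R ⧸ I) B := IsScalarTower.of_algebraMap_eq fun _ => rfl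
  obtain ⟨n, π₀, hπ₀, hfg⟩ := Algebra.FinitePresentation.out (R := R ⧸ I) (A := B)
  let K := RingHom.ker π₀.toRingHom
  obtain ⟨m, g, hgK⟩ := Submodule.fg_iff_exists_fin_generating_family.1 hfg
  have hK : K = Ideal.span (Set.range g) := hgK.symm
  have hgmem : ∀ i, g i ∈ K := fun i => hK ▸ Ideal.subset_span (Set.mem_range_self i)
  let P₀ := MvPolynomial (Fin n) R
  let Pb := MvPolynomial (Fin n) (R ⧸ I)
  let red : P₀ →+* Pb := MvPolynomial.map (Ideal.Quotient.mk I)
  have hred : Function.Surjective red := MvPolynomial.map_surjective _ Ideal.Quotient.mk_surjective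
  -- the projection matrix over the quotient
  obtain ⟨r₀, z₀, hz₀, hz₀span⟩ := exists_syz_gens π₀ hπ₀ g hK
  obtain ⟨N₀, E₀, hE₀, hE₀z⟩ := exists_proj_matrix K g hK z₀ hz₀ 1 fun q hq hKq _ => by
    haveI : (q.map π₀.toRingHom).IsPrime := Ideal.map_isPrime_of_surjective hπ₀ hKq
    obtain ⟨c, F, a, -, haq, -, hreg, -, hFI, hkill⟩ := exists_regular_away π₀ hπ₀ hB (q.map π₀.toRingHom)
    exact ⟨a, c, F, fun ha => haq (Ideal.mem_map_of_mem π₀.toRingHom ha), hFI, hkill,
      indep_of_regular_away K a F hkill hFI hreg⟩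
  simp only [one_pow, one_mul] at hE₀
  have hsyz : ∀ s : Fin m → Pb, ∑ l, s l * g l = 0 → ∀ k, Matrix.vecMul s E₀ k ∈ K := by
    intro s hs
    have hmem := hz₀span s hs
    clear hs
    induction hmem using Submodule.span_induction with
    | mem v hv => obtain ⟨j, rfl⟩ := hv; exact hE₀z j
    | zero => intro k; simp
    | add x y _ _ hx hy =>
      intro k
      rw [add_vecMul, Pi.add_apply]
      exact K.add_mem (hx k) (hy k)
    | smul t x _ hx =>
      intro k
      rw [smul_vecMul, Pi.smul_apply, smul_eq_mul]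
      exact K.mul_mem_left t (hx k)
  have hidem0 : ∀ i k, (E₀ * E₀) i k - E₀ i k ∈ K := by
    intro i k
    let s : Fin m → Pb := (1 - E₀) i
    have hs : ∑ l, s l * g l ∈ Ideal.span (Set.range g) ^ 2 := by
      rw [show ∑ l, s l * g l = ((1 - E₀).mulVec g) i from rfl, sub_mulVec, one_mulVec, ← hK]
      exact hE₀ i
    obtain ⟨c, hc, hsc⟩ := exists_coeff_of_mem_sq g hs
    have h1 := hsyz (s - c) (by simp only [Pi.sub_apply, sub_mul, Finset.sum_sub_distrib, ← hsc, sub_self]) k
    have h2 : Matrix.vecMul c E₀ k ∈ K := by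
      show ∑ l, c l * E₀ l k ∈ K
      exact Ideal.sum_mem _ fun l _ => K.mul_mem_right _ (hK ▸ hc l)
    have h3 := add_mem h1 h2
    rw [sub_vecMul, Pi.sub_apply, sub_add_cancel,
      show Matrix.vecMul s E₀ k = ((1 - E₀) * E₀) i k from rfl, sub_mul, one_mul, Matrix.sub_apply] at h3
    have h4 := K.neg_mem h3
    rwa [neg_sub] at h4
  -- over the polynomial ring
  let π : P₀ →ₐ[R] B := aeval fun i => π₀ (X i)
  have hπ : ∀ x, π x = π₀ (red x) := fun x => by
    refine RingHom.congr_fun (MvPolynomial.ringHom_ext (f := π.toRingHom) (g := π₀.toRingHom.comp red) (fun a => ?_) fun i => ?_) x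
    · change π (C a) = π₀ (red (C a))
      rw [show red (C a) = C (Ideal.Quotient.mk I a) from map_C _ _]
      exact (π.commutes a).trans ((π₀.commutes _).symm)
    · change π (X i) = π₀ (red (X i))
      rw [show red (X i) = X i from map_X _ _, aeval_X]
  let J : Ideal P₀ := RingHom.ker π.toRingHom
  let IP : Ideal P₀ := I.map (algebraMap R P₀)
  have hkred : RingHom.ker red = IP := by
    rw [MvPolynomial.ker_map, Ideal.mk_ker]
    rfl
  have hJmem : ∀ x, x ∈ J ↔ red x ∈ K := fun x => by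
    show π x = 0 ↔ π₀ (red x) = 0
    rw [hπ]
  have hred0 : ∀ x, red x = 0 ↔ x ∈ IP := fun x => by rw [← hkred]; rfl
  choose G hG using fun i => hred (g i)
  have hGJ : ∀ i, G i ∈ J := fun i => (hJmem _).2 (hG i ▸ hgmem i)
  choose Ê hÊ using fun i k => hred (E₀ i k)
  let EL : Matrix (Fin m) (Fin m) P₀ := Matrix.of Ê
  have hEL : EL.map red = E₀ := Matrix.ext hÊ
  have hrel₀ : ∀ a : Fin m → P₀, ∑ l, a l * G l ∈ IP → ∀ k, Matrix.vecMul a EL k ∈ J := by
    intro a ha k
    rw [hJmem]
    have h1 := (hred0 _).2 ha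
    simp only [map_sum, map_mul, hG] at h1
    have h2 := hsyz (fun l => red (a l)) h1 k
    simpa [Matrix.vecMul, dotProduct, EL, map_sum, map_mul, hÊ] using h2
  have hcomap : ∀ (X' : Ideal P₀) (x : P₀), red x ∈ X'.map red → x ∈ X' ⊔ IP := fun X' x hx => by
    rw [← hkred, RingHom.ker_eq_comap_bot, ← Ideal.comap_map_of_surjective red hred X']
    exact hx
  have hJK : J.map red = K := by
    refine le_antisymm (Ideal.map_le_iff_le_comap.2 fun x hx => (hJmem x).1 hx) fun y hy => ?_
    obtain ⟨x, rfl⟩ := hred y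
    exact Ideal.mem_map_of_mem _ ((hJmem x).2 hy)
  have hexp : ∀ i, G i - (EL.mulVec G) i ∈ J ^ 2 ⊔ IP := fun i => by
    refine hcomap _ _ ?_
    rw [Ideal.map_pow, hJK]
    convert hE₀ i using 1
    simp [Matrix.mulVec, dotProduct, EL, map_sum, map_mul, hÊ, hG]
  have hJgen : J ≤ Ideal.span (Set.range G) ⊔ IP := fun x hx => by
    refine hcomap _ _ ?_
    rw [Ideal.map_span, ← Set.range_comp, show red ∘ G = g from funext hG, ← hK]
    exact (hJmem x).1 hx
  let E : Matrix (Fin m) (Fin m) (P₀ ⧸ J) := EL.map (Ideal.Quotient.mk J)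
  have hE : E * E = E := by
    refine Matrix.ext fun i k => ?_
    simp only [E]
    rw [← Matrix.map_mul, Matrix.map_apply, Matrix.map_apply, Ideal.Quotient.eq, hJmem, map_sub]
    convert hidem0 i k using 2
    · rw [← hEL, ← Matrix.map_mul, Matrix.map_apply]
    · exact hÊ i k
  obtain ⟨P', _, _, het, hbij, e, hee, heE⟩ := Groth.Agent.EtLiftLib.exists_idem_lift J E hE
  letI : Algebra R P' := ((algebraMap P₀ P').comp (algebraMap R P₀)).toAlgebra
  haveI : IsScalarTower R P₀ P' := IsScalarTower.of_algebraMap_eq fun _ => rfl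
  let J' : Ideal P' := J.map (algebraMap P₀ P')
  let IP' : Ideal P' := I.map (algebraMap R P')
  have hIP' : IP.map (algebraMap P₀ P') = IP' := Ideal.map_map _ _
  let G' : Fin m → P' := fun i => algebraMap P₀ P' (G i)
  let h : Fin m → P' := e.mulVec G'
  have hG'J : ∀ i, G' i ∈ J' := fun i => Ideal.mem_map_of_mem _ (hGJ i)
  have heG : ∀ i k, algebraMap P₀ P' (EL i k) - e i k ∈ J' := fun i k => by
    rw [← Ideal.Quotient.eq_zero_iff_mem, map_sub, sub_eq_zero]
    exact (congrFun (congrFun heE i) k).symm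
  let N : Ideal P' := Ideal.span (Set.range h) ⊔ IP'
  have hGh : ∀ i, G' i ∈ N ⊔ J' * J' := fun i => by
    have h1 : G' i - h i ∈ J' * J' ⊔ IP' := by
      have h2 : G' i - h i = algebraMap P₀ P' (G i - (EL.mulVec G) i) +
          ∑ k, (algebraMap P₀ P' (EL i k) - e i k) * G' k := by
        simp only [h, G', Matrix.mulVec, dotProduct, sub_mul, Finset.sum_sub_distrib, map_sub, map_sum, map_mul]
        ring
      rw [h2]
      refine Ideal.add_mem _ ?_ (Ideal.mem_sup_left (Ideal.sum_mem _ fun k _ => Ideal.mul_mem_mul (heG i k) (hG'J k)))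
      have := Ideal.mem_map_of_mem (algebraMap P₀ P') (hexp i)
      rwa [Ideal.map_sup, Ideal.map_pow, hIP', sq] at this
    have h3 : J' * J' ⊔ IP' ≤ N ⊔ J' * J' := sup_le le_sup_right (le_sup_right.trans le_sup_left)
    have h4 := Ideal.add_mem _ (h3 h1)
      (Ideal.mem_sup_left (Ideal.mem_sup_left (Ideal.subset_span (Set.mem_range_self i))) : h i ∈ N ⊔ J' * J')
    rwa [sub_add_cancel] at h4
  let S : Ideal P' := Ideal.span (Set.range G')
  have hJS : J' ≤ S ⊔ IP' := by
    have := Ideal.map_mono (f := algebraMap P₀ P') hJgen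
    rwa [Ideal.map_sup, hIP', Ideal.map_span, ← Set.range_comp] at this
  have hSJ : S ≤ J' := Ideal.span_le.2 (by rintro _ ⟨i, rfl⟩; exact hG'J i)
  have hJN : J' ≤ N ⊔ J' * J' := hJS.trans (sup_le (Ideal.span_le.2 (by rintro _ ⟨i, rfl⟩; exact hGh i))
    (le_sup_right.trans le_sup_left))
  let T : Submodule P' (P' ⧸ N) := Submodule.map N.mkQ S
  have hTfg : T.FG := Submodule.FG.map _ (Submodule.fg_span (Set.finite_range G'))
  have hTJ : T ≤ J' • T := by
    rintro _ ⟨y, hy, rfl⟩
    obtain ⟨a, ha, b, hb, rfl⟩ := Submodule.mem_sup.1 (hJN (hSJ hy))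
    clear hy
    rw [map_add, Submodule.mkQ_apply, (Submodule.Quotient.mk_eq_zero N).2 ha, zero_add]
    induction hb using Submodule.mul_induction_on' with
    | mem_mul_mem p hp q hq =>
      obtain ⟨c, hc, d, hd, rfl⟩ := Submodule.mem_sup.1 (hJS hq)
      rw [mul_add, map_add, Submodule.mkQ_apply N (p * d), (Submodule.Quotient.mk_eq_zero N).2
        (Ideal.mul_mem_left _ p (Ideal.mem_sup_right hd)), add_zero, ← smul_eq_mul, map_smul]
      exact Submodule.smul_mem_smul hp (Submodule.mem_map_of_mem hc)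
    | add p _ q _ hp hq => rw [map_add]; exact Submodule.add_mem _ hp hq
  obtain ⟨r, hr1, hr0⟩ := Submodule.exists_sub_one_mem_and_smul_eq_zero_of_fg_of_le_smul J' T hTfg hTJ
  have hrJ : ∀ p ∈ J', r * p ∈ N := fun p hp => by
    obtain ⟨c, hc, d, hd, rfl⟩ := Submodule.mem_sup.1 (hJS hp)
    rw [mul_add]
    refine N.add_mem ?_ (N.mul_mem_left _ (Ideal.mem_sup_right hd))
    rw [← Submodule.Quotient.mk_eq_zero N, ← smul_eq_mul, Submodule.Quotient.mk_smul]
    exact hr0 _ (Submodule.mem_map_of_mem hc)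
  let P'' := Localization.Away r
  haveI : Algebra.Etale P₀ P'' := Algebra.Etale.comp P₀ P' P''
  haveI : Algebra.Smooth R P₀ := ⟨inferInstance, inferInstance⟩
  haveI : Algebra.Smooth R P'' := Algebra.Smooth.comp R P₀ P''
  haveI : Module.Flat P₀ P'' := flat_of_etale P₀ P''
  haveI : Module.Flat R P'' := Module.Flat.trans R P₀ P''
  let ι : P' →+* P'' := algebraMap P' P''
  let al : P₀ →+* P'' := algebraMap P₀ P''
  let J'' : Ideal P'' := J.map al
  let IP'' : Ideal P'' := I.map (algebraMap R P'')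
  have hIP'' : IP.map al = IP'' := by rw [Ideal.map_map, ← IsScalarTower.algebraMap_eq]
  have hJι : J'.map ι = J'' := by rw [Ideal.map_map, ← IsScalarTower.algebraMap_eq]
  have hIι : IP'.map ι = IP'' := by rw [Ideal.map_map, ← IsScalarTower.algebraMap_eq]
  have hIJ : IP'' ≤ J'' := by
    rw [← hIP'']
    exact Ideal.map_mono fun x hx => (hJmem x).2 (by rw [(hred0 x).2 hx]; exact K.zero_mem)
  let G'' : Fin m → P'' := fun i => al (G i)
  let e'' := e.map ι
  have hee'' : e'' * e'' = e'' := by rw [← Matrix.map_mul, hee]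
  let h'' : Fin m → P'' := e''.mulVec G''
  have hh'' : ∀ i, h'' i = ι (h i) := fun i => by
    simp only [h'', e'', h, G'', G', Matrix.mulVec, dotProduct, map_sum, map_mul, Matrix.map_apply, al, ι,
      ← IsScalarTower.algebraMap_apply]
  let H : Ideal P'' := Ideal.span (Set.range h'')
  have hHJ : H ≤ J'' := Ideal.span_le.2 (by
    rintro _ ⟨i, rfl⟩
    show ∑ k, e'' i k * G'' k ∈ J''
    exact Ideal.sum_mem _ fun k _ => Ideal.mul_mem_left _ _ (Ideal.mem_map_of_mem _ (hGJ k)))
  have hJH : J'' ≤ H ⊔ IP'' := by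
    rw [← hJι, Ideal.map_le_iff_le_comap]
    intro p hp
    show ι p ∈ H ⊔ IP''
    have h2 := Ideal.mem_map_of_mem ι (hrJ p hp)
    rw [map_mul, Ideal.map_sup, hIι, Ideal.map_span, ← Set.range_comp, show ι ∘ h = h'' from funext fun i => (hh'' i).symm] at h2
    exact (Ideal.unit_mul_mem_iff_mem _ (IsLocalization.Away.algebraMap_isUnit r)).1 h2
  have hrel : ∀ s : Fin m → P'', ∑ l, s l * G'' l ∈ IP'' → ∀ k, Matrix.vecMul s e'' k ∈ J'' := by
    intro s hs k
    have h1 := vecMul_mem_of_rel IP G J EL hrel₀ s (by rw [hIP'']; exact hs) k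
    have h2 : Matrix.vecMul s (EL.map al - e'') k ∈ J'' := by
      show ∑ l, s l * (EL.map al - e'') l k ∈ J''
      refine Ideal.sum_mem _ fun l _ => Ideal.mul_mem_left _ _ ?_
      rw [Matrix.sub_apply, ← hJι]
      have := Ideal.mem_map_of_mem ι (heG l k)
      rwa [map_sub, ← IsScalarTower.algebraMap_apply] at this
    rw [vecMul_sub, Pi.sub_apply] at h2
    have := J''.sub_mem h1 h2
    rwa [sub_sub_cancel] at this
  -- the lift before the last localisation
  let A₁ := P'' ⧸ H
  haveI : IsScalarTower R P'' A₁ := inferInstance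
  let D : Set A₁ := {d | Synt.IsSyntomic R (Localization.Away d)}
  let IA : Ideal A₁ := I.map (algebraMap R A₁)
  have hIA : IA = IP''.map (Ideal.Quotient.mk H) := by
    rw [Ideal.map_map]; rfl
  have htop : IA ⊔ Ideal.span D = ⊤ := by
    by_contra hne
    obtain ⟨w, hw, hle⟩ := Ideal.exists_le_maximal _ hne
    let z : PrimeSpectrum P'' := ⟨w.comap (Ideal.Quotient.mk H), haveI := hw.isPrime; inferInstance⟩
    have hzI : IP'' ≤ z.asIdeal := Ideal.map_le_iff_le_comap.1 (hIA ▸ (le_sup_left.trans hle : IA ≤ w))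
    have hzH : H ≤ z.asIdeal := fun x hx => by
      show Ideal.Quotient.mk H x ∈ w
      rw [Ideal.Quotient.eq_zero_iff_mem.2 hx]; exact w.zero_mem
    have hzJ : J'' ≤ z.asIdeal := hJH.trans (sup_le hzH hzI)
    let q := z.asIdeal.comap al
    have hJq : J ≤ q := Ideal.map_le_iff_le_comap.1 hzJ
    have hIq : RingHom.ker red ≤ q := fun x hx =>
      hJq ((hJmem x).2 (by rw [RingHom.mem_ker.1 hx]; exact K.zero_mem))
    haveI : (q.map red).IsPrime := Ideal.map_isPrime_of_surjective hred hIq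
    have hKq : K ≤ q.map red := hJK ▸ Ideal.map_mono hJq
    haveI : ((q.map red).map π₀.toRingHom).IsPrime := Ideal.map_isPrime_of_surjective hπ₀ hKq
    obtain ⟨c, Fb, ab, -, haq, -, hreg, -, hFI, hkill⟩ :=
      exists_regular_away π₀ hπ₀ hB ((q.map red).map π₀.toRingHom)
    choose F hF using fun j => hred (Fb j)
    obtain ⟨a, rfl⟩ := hred ab
    obtain rfl : (fun j => red (F j)) = Fb := funext hF
    have ha : al a ∉ z.asIdeal := fun hmem =>
      haq (Ideal.mem_map_of_mem π₀.toRingHom (Ideal.mem_map_of_mem red (show a ∈ q from hmem)))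
    have hFJ : ∀ j, F j ∈ J := fun j => (hJmem _).2 (hFI (Ideal.subset_span (Set.mem_range_self j)))
    choose f hfH u huI hfu using fun j => Submodule.mem_sup.1 (hJH (Ideal.mem_map_of_mem al (hFJ j)))
    have hdiff : ∀ j, f j - al (F j) ∈ IP'' := fun j => by
      rw [← hfu j, sub_add_cancel_left]; exact IP''.neg_mem (huI j)
    have hgen : ∀ i, al a * h'' i ∈ Ideal.span (Set.range f) ⊔ IP'' := by
      intro i
      have hle' : J'' ≤ (Ideal.span (Set.range f) ⊔ IP'').colon {al a} := Ideal.map_le_iff_le_comap.2 fun x hx => by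
        rw [Ideal.mem_comap, Submodule.mem_colon_singleton, smul_eq_mul, mul_comm, ← map_mul]
        have h1 : a * x ∈ Ideal.span (Set.range F) ⊔ IP := by
          refine hcomap _ _ ?_
          rw [map_mul, Ideal.map_span, ← Set.range_comp]
          exact hkill _ ((hJmem x).1 hx)
        have h2 := Ideal.mem_map_of_mem al h1
        rw [Ideal.map_sup, hIP'', Ideal.map_span, ← Set.range_comp] at h2
        refine (sup_le ?_ le_sup_right : Ideal.span (Set.range (al ∘ F)) ⊔ IP'' ≤ Ideal.span (Set.range f) ⊔ IP'') h2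
        refine Ideal.span_le.2 ?_
        rintro _ ⟨j, rfl⟩
        show al (F j) ∈ _
        rw [← hfu j]
        exact Submodule.add_mem_sup (Ideal.subset_span (Set.mem_range_self j)) (huI j)
      have := Submodule.mem_colon_singleton.1 (hle' (hHJ (Ideal.subset_span (Set.mem_range_self i))))
      rwa [smul_eq_mul, mul_comm] at this
    obtain ⟨d₁, hd₁, hd₁H⟩ := exists_det_of_local_gens z.asIdeal J'' IP'' hzJ G'' e'' hee'' hrel f hfH (al a) ha hgen
    have hseq := seqAt_of_regular_red I π₀ hπ₀ F a hkill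
      (fun j => hFI (Ideal.subset_span (Set.mem_range_self j))) hreg z hzI ha f hdiff fun j => hzH (hfH j)
    obtain ⟨d, hdz, hd⟩ := exists_syntomic_nhd_of_seqAt H z f
      (Ideal.span_le.2 (by rintro _ ⟨j, rfl⟩; exact hfH j)) d₁ hd₁ hd₁H hseq
    exact hdz (le_sup_right.trans hle (Ideal.subset_span hd) : Ideal.Quotient.mk H d ∈ w)
  obtain ⟨i₀, hi₀, d₀, hd₀, hid⟩ := Submodule.mem_sup.1 ((Ideal.eq_top_iff_one _).1 htop)
  let A := Localization.Away d₀
  -- the comparison with `B`
  let π' : P₀ ⧸ J →+* B := Ideal.Quotient.lift J π.toRingHom fun x hx => hx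
  let mk' : P' →+* P' ⧸ J' := Ideal.Quotient.mk J'
  let qe := RingEquiv.ofBijective _ hbij
  let ρ' : P' →+* B := π'.comp (qe.symm.toRingHom.comp mk')
  have hρ'alg : ∀ x, ρ' (algebraMap P₀ P' x) = π x := fun x => by
    change π' (qe.symm (mk' (algebraMap P₀ P' x))) = π x
    rw [show qe.symm (mk' (algebraMap P₀ P' x)) = Ideal.Quotient.mk J x from qe.symm_apply_eq.2 rfl]
    rfl
  have hρ'ker : ∀ p, ρ' p = 0 ↔ p ∈ J' := fun p => by
    constructor
    · intro hp
      obtain ⟨y, hy⟩ := Ideal.Quotient.mk_surjective (qe.symm (mk' p))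
      have hyJ : y ∈ J := by
        change π y = 0
        rw [← hp]
        change π y = π' (qe.symm (mk' p))
        rw [← hy]
        rfl
      rw [← Ideal.Quotient.eq_zero_iff_mem, ← map_eq_zero_iff qe.symm qe.symm.injective]
      exact hy.symm.trans (Ideal.Quotient.eq_zero_iff_mem.2 hyJ)
    · intro hp
      change π' (qe.symm (mk' p)) = 0
      rw [Ideal.Quotient.eq_zero_iff_mem.2 hp, map_zero, map_zero]
  have hr1' : ρ' r = 1 := by
    rw [← sub_eq_zero, ← map_one ρ', ← map_sub]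
    exact (hρ'ker _).2 hr1
  let ρ'' : P'' →+* B := IsLocalization.Away.lift r (g := ρ') (hr1' ▸ isUnit_one)
  have hρ''ι : ∀ p, ρ'' (ι p) = ρ' p := fun p => IsLocalization.Away.lift_eq r _ p
  have hρ''al : ∀ x, ρ'' (al x) = π x := fun x => by
    rw [show al x = ι (algebraMap P₀ P' x) from IsScalarTower.algebraMap_apply P₀ P' P'' x, hρ''ι, hρ'alg]
  have hJker : J'' ≤ RingHom.ker ρ'' := Ideal.map_le_iff_le_comap.2 fun x hx => (hρ''al x).trans hx
  let ρ₁ : A₁ →+* B := Ideal.Quotient.lift H ρ'' fun x hx => hJker (hHJ hx)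
  have hρ₁R : ∀ x, ρ₁ (algebraMap R A₁ x) = algebraMap R B x := fun x => by
    show ρ'' (algebraMap R P'' x) = _
    rw [IsScalarTower.algebraMap_apply R P₀ P'', show algebraMap P₀ P'' = al from rfl, hρ''al, π.commutes]
  have hIAρ : IA ≤ RingHom.ker ρ₁ := Ideal.map_le_iff_le_comap.2 fun x hx => by
    show ρ₁ (algebraMap R A₁ x) = 0
    rw [hρ₁R, IsScalarTower.algebraMap_apply R (R ⧸ I) B, Ideal.Quotient.algebraMap_eq,
      Ideal.Quotient.eq_zero_iff_mem.2 hx, map_zero]
  have hρ₁ker : RingHom.ker ρ₁ ≤ IA := fun w hw => by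
    obtain ⟨w, rfl⟩ := Ideal.Quotient.mk_surjective w
    obtain ⟨p, ⟨_, t, rfl⟩, rfl⟩ := IsLocalization.exists_mk'_eq (Submonoid.powers r) w
    have hu : IsUnit (ι (r ^ t)) := IsLocalization.map_units P'' (⟨r ^ t, t, rfl⟩ : Submonoid.powers r)
    have hz0 : ρ'' (IsLocalization.mk' P'' p (⟨r ^ t, t, rfl⟩ : Submonoid.powers r)) = 0 := hw
    have hspec : IsLocalization.mk' P'' p (⟨r ^ t, t, rfl⟩ : Submonoid.powers r) * ι (r ^ t) = ι p :=
      IsLocalization.mk'_spec P'' p _
    have hp : p ∈ J' := by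
      rw [← hρ'ker, ← hρ''ι, ← hspec, map_mul, hz0, zero_mul]
    have h1 : IsLocalization.mk' P'' p (⟨r ^ t, t, rfl⟩ : Submonoid.powers r) ∈ J'' := by
      rw [← Ideal.mul_unit_mem_iff_mem _ hu, hspec, ← hJι]
      exact Ideal.mem_map_of_mem _ hp
    have h2 := Ideal.mem_map_of_mem (Ideal.Quotient.mk H) (hJH h1)
    rwa [Ideal.map_sup, Ideal.map_quotient_self, bot_sup_eq, ← hIA] at h2
  have hρd : ρ₁ d₀ = 1 := by
    rw [← map_one ρ₁, ← hid, map_add, RingHom.mem_ker.1 (hIAρ hi₀), zero_add]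
  let ρA : A →+* B := IsLocalization.Away.lift d₀ (g := ρ₁) (hρd ▸ isUnit_one)
  have hρA : ∀ w, ρA (algebraMap A₁ A w) = ρ₁ w := fun w => IsLocalization.Away.lift_eq d₀ _ w
  let ρ : A →ₐ[R] B :=
    { ρA with
      commutes' := fun x => by
        show ρA (algebraMap R A x) = _
        rw [IsScalarTower.algebraMap_apply R A₁ A, hρA, hρ₁R] }
  have hρsurj : Function.Surjective ρ := fun b => by
    obtain ⟨y, rfl⟩ := hπ₀ b
    obtain ⟨x, rfl⟩ := hred y
    refine ⟨algebraMap A₁ A (Ideal.Quotient.mk H (al x)), ?_⟩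
    show ρA _ = _
    rw [hρA, show ρ₁ (Ideal.Quotient.mk H (al x)) = ρ'' (al x) from rfl, hρ''al, hπ]
  have hρker : RingHom.ker ρ.toRingHom = I.map (algebraMap R A) := by
    rw [IsScalarTower.algebraMap_eq R A₁ A, ← Ideal.map_map]
    refine le_antisymm (fun w hw => ?_) (Ideal.map_le_iff_le_comap.2 fun x hx => ?_)
    · obtain ⟨p, ⟨_, t, rfl⟩, rfl⟩ := IsLocalization.exists_mk'_eq (Submonoid.powers d₀) w
      have hu : IsUnit (algebraMap A₁ A (d₀ ^ t)) := IsLocalization.map_units A (⟨d₀ ^ t, t, rfl⟩ : Submonoid.powers d₀)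
      have hspec : IsLocalization.mk' A p (⟨d₀ ^ t, t, rfl⟩ : Submonoid.powers d₀) * algebraMap A₁ A (d₀ ^ t) =
          algebraMap A₁ A p := IsLocalization.mk'_spec A p _
      have hz0 : ρA (IsLocalization.mk' A p (⟨d₀ ^ t, t, rfl⟩ : Submonoid.powers d₀)) = 0 := hw
      rw [← Ideal.mul_unit_mem_iff_mem _ hu, hspec]
      refine Ideal.mem_map_of_mem _ (hρ₁ker ?_)
      rw [RingHom.mem_ker, ← hρA, ← hspec, map_mul, hz0, zero_mul]
    · show ρA (algebraMap A₁ A x) = 0
      rw [hρA]
      exact hIAρ hx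
  let eA : (A ⧸ I.map (algebraMap R A)) ≃+* B :=
    (Ideal.quotEquivOfEq hρker.symm).trans (RingHom.quotientKerEquivOfSurjective hρsurj)
  refine ⟨A, inferInstance, inferInstance, ?_, ⟨AlgEquiv.ofRingEquiv (f := eA) fun x => ?_⟩⟩
  · refine isSyntomic_of_cover (algebraMap A₁ A '' D) ?_ ?_
    · rw [← Ideal.map_span]
      exact Ideal.eq_top_of_isUnit_mem _ (Ideal.mem_map_of_mem _ hd₀) (IsLocalization.Away.algebraMap_isUnit d₀)
    · rintro _ ⟨d, hd, rfl⟩
      have h1 := isSyntomic_away hd (algebraMap A₁ (Localization.Away d) d₀)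
      haveI : IsLocalization.Away (d * d₀) (Localization.Away (algebraMap A₁ A d)) := inferInstance
      haveI : IsLocalization.Away (d * d₀) (Localization.Away (algebraMap A₁ (Localization.Away d) d₀)) :=
        inferInstance
      exact isSyntomic_of_algEquiv ((IsLocalization.algEquiv (Submonoid.powers (d * d₀))
        (Localization.Away (algebraMap A₁ (Localization.Away d) d₀))
        (Localization.Away (algebraMap A₁ A d))).restrictScalars R) h1
  · obtain ⟨x, rfl⟩ := Ideal.Quotient.mk_surjective x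
    change ρ (algebraMap R A x) = _
    rw [AlgHom.commutes]
    rfl

end Groth.Agent.SyntLib
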