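import Groth.Agent.SyntLib.Regular
import Groth.Agent.SyntLib.Spread
import Groth.Agent.KoszulLib.H1
import Groth.Agent.KoszulLib.Kinds
import Groth.Agent.InjFibre.SliceAlg

/-!
# Splitting the conormal module of a syntomic quotient by a matrix
-/

set_option autoImplicit false
set_option linter.style.haveILetI false
universe u
open Matrix RingTheory.Sequence

namespace Groth.Agent.SyntLib

/-- Elements regular in `P_a` that generate `I` there are independent modulo `I²`. -/
theorem indep_of_regular_away {P : Type u} [CommRing P] (I : Ideal P) (a : P) {c : ℕ} (F : Fin c → P)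
    (hkill : ∀ i ∈ I, a * i ∈ Ideal.span (Set.range F)) (hFI : Ideal.span (Set.range F) ≤ I)
    (hreg : IsWeaklyRegular (Localization.Away a) (List.ofFn (algebraMap P (Localization.Away a) ∘ F)))
    (b : Fin c → P) (hb : ∑ j, b j * F j ∈ I ^ 2) (j : Fin c) : ∃ k : ℕ, a ^ k * b j ∈ I := by
  let A := Localization.Away a
  let f : Fin c → A := algebraMap P A ∘ F
  have hI : I.map (algebraMap P A) = Ideal.span (Set.range f) := by
    refine le_antisymm (Ideal.map_le_iff_le_comap.mpr fun x hx => ?_) ?_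
    · rw [Ideal.mem_comap, Set.range_comp, ← Ideal.map_span]
      refine (Ideal.unit_mul_mem_iff_mem _ (IsLocalization.Away.algebraMap_isUnit (S := A) a)).mp ?_
      rw [← map_mul]
      exact Ideal.mem_map_of_mem _ (hkill x hx)
    · rw [Set.range_comp, ← Ideal.map_span]
      exact Ideal.map_mono hFI
  have h1 := Ideal.mem_map_of_mem (algebraMap P A) hb
  rw [Ideal.map_pow, hI] at h1
  obtain ⟨b', hb', hbb⟩ := exists_coeff_of_mem_sq f (x := algebraMap P A (∑ j, b j * F j)) h1
  have hh1 : CAlgX.IsH1Regular f :=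
    KoszulLib.isH1Regular_of_acyclic (KoszulLib.acyclic_of_isWeaklyRegular' hreg)
  have hrel : (fun j => algebraMap P A (b j) - b' j) ∈ KoszulLib.trivRel f := by
    refine KoszulLib.h1_iff.mp hh1 _ ?_
    simp only [sub_mul, Finset.sum_sub_distrib]
    rw [← hbb, map_sum, sub_eq_zero]
    exact Finset.sum_congr rfl fun i _ => by rw [map_mul]; rfl
  have h2 := add_mem (KoszulLib.trivRel_coord hrel j) (hb' j)
  rw [sub_add_cancel, ← hI, IsLocalization.algebraMap_mem_map_algebraMap_iff (Submonoid.powers a) A] at h2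
  obtain ⟨_, ⟨k, rfl⟩, hk⟩ := h2
  exact ⟨k, hk⟩

/-- Gluing local independent generators into one matrix. -/
theorem exists_proj_matrix {P : Type u} [CommRing P] {m r : ℕ} (I : Ideal P) (g : Fin m → P)
    (hg : I = Ideal.span (Set.range g)) (z : Fin r → Fin m → P) (hz : ∀ j, ∑ l, z j l * g l = 0) (h : P)
    (hloc : ∀ q : Ideal P, q.IsPrime → I ≤ q → h ∉ q → ∃ (a : P) (c : ℕ) (F : Fin c → P), a ∉ q ∧
      Ideal.span (Set.range F) ≤ I ∧ (∀ i ∈ I, a * i ∈ Ideal.span (Set.range F)) ∧
      ∀ b : Fin c → P, ∑ j, b j * F j ∈ I ^ 2 → ∀ j, ∃ k : ℕ, a ^ k * b j ∈ I) :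
    ∃ (N : ℕ) (E : Matrix (Fin m) (Fin m) P), (∀ i, h ^ N * g i - (E.mulVec g) i ∈ I ^ 2) ∧
      ∀ j k, Matrix.vecMul (z j) E k ∈ I := by
  classical
  let T : Ideal P :=
    { carrier := {t | ∃ E : Matrix (Fin m) (Fin m) P, (∀ i, t * g i - (E.mulVec g) i ∈ I ^ 2) ∧
        ∀ j k, Matrix.vecMul (z j) E k ∈ I}
      zero_mem' := ⟨0, fun i => by simp, fun j k => by simp⟩
      add_mem' := by
        rintro t t' ⟨E, hE, hE'⟩ ⟨E', hE1, hE1'⟩
        refine ⟨E + E', fun i => ?_, fun j k => ?_⟩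
        · rw [add_mulVec, add_mul, Pi.add_apply, add_sub_add_comm]
          exact add_mem (hE i) (hE1 i)
        · rw [vecMul_add, Pi.add_apply]
          exact add_mem (hE' j k) (hE1' j k)
      smul_mem' := by
        rintro c t ⟨E, hE, hE'⟩
        refine ⟨c • E, fun i => ?_, fun j k => ?_⟩
        · rw [smul_mulVec, Pi.smul_apply, smul_eq_mul, smul_eq_mul, mul_assoc, ← mul_sub]
          exact Ideal.mul_mem_left _ c (hE i)
        · rw [vecMul_smul, Pi.smul_apply, smul_eq_mul]
          exact Ideal.mul_mem_left _ c (hE' j k) }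
  have hIT : I ≤ T := fun t ht => ⟨0, fun i => by
    rw [zero_mulVec, Pi.zero_apply, sub_zero, sq]
    exact Ideal.mul_mem_mul ht (hg ▸ Ideal.subset_span (Set.mem_range_self i)), fun j k => by simp⟩
  suffices hh : h ∈ T.radical by
    obtain ⟨N, E, hE⟩ := hh
    exact ⟨N, E, hE⟩
  rw [Ideal.radical_eq_sInf, Submodule.mem_sInf]
  rintro q ⟨hTq, hq⟩
  by_contra hhq
  obtain ⟨a, c, F, haq, hFI, hkill, hind⟩ := hloc q hq (hIT.trans hTq) hhq
  have hC : ∀ i, ∃ C : Fin c → P, ∑ j, C j * F j = a * g i := fun i =>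
    Ideal.mem_span_range_iff_exists_fun.mp (hkill _ (hg ▸ Ideal.subset_span (Set.mem_range_self i)))
  have hD : ∀ j, ∃ D : Fin m → P, ∑ l, D l * g l = F j := fun j =>
    Ideal.mem_span_range_iff_exists_fun.mp (hg ▸ hFI (Ideal.subset_span (Set.mem_range_self j)))
  choose C hC using hC
  choose D hD using hD
  have hrel : ∀ (p : Fin r × Fin c), ∃ k : ℕ, a ^ k * (∑ l, z p.1 l * C l p.2) ∈ I := by
    rintro ⟨i, j⟩
    refine hind (fun j => ∑ l, z i l * C l j) ?_ j
    have : ∑ j, (∑ l, z i l * C l j) * F j = 0 := by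
      simp only [Finset.sum_mul, mul_assoc]
      rw [Finset.sum_comm]
      simp only [← Finset.mul_sum, hC, mul_left_comm _ a]
      rw [hz, mul_zero]
    rw [this]
    exact zero_mem _
  choose k hk using hrel
  let K := Finset.univ.sup k
  let E : Matrix (Fin m) (Fin m) P := a ^ K • (Matrix.of C * Matrix.of D)
  have hT : a ^ (K + 1) ∈ T := by
    refine ⟨E, fun i => ?_, fun j l => ?_⟩
    · have : (E.mulVec g) i = a ^ (K + 1) * g i := by
        have h1 : (Matrix.of D).mulVec g = F := funext hD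
        rw [smul_mulVec, ← mulVec_mulVec, h1, Pi.smul_apply, smul_eq_mul, pow_succ, mul_assoc]
        exact congrArg _ (hC i)
      rw [this, sub_self]
      exact zero_mem _
    · rw [vecMul_smul, ← vecMul_vecMul, Pi.smul_apply, smul_eq_mul]
      show a ^ K * ∑ p, (∑ l', z j l' * C l' p) * D p l ∈ I
      rw [Finset.mul_sum]
      refine Ideal.sum_mem _ fun p _ => ?_
      obtain ⟨e, he⟩ := pow_dvd_pow a (Finset.le_sup (Finset.mem_univ (j, p)) : k (j, p) ≤ K)
      rw [he, show a ^ k (j, p) * e * ((∑ l', z j l' * C l' p) * D p l)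
        = e * D p l * (a ^ k (j, p) * ∑ l', z j l' * C l' p) by ring]
      exact Ideal.mul_mem_left _ _ (hk (j, p))
  exact haq (hq.mem_of_pow_mem _ (hTq hT))

/-- A syntomic point has independent local generators of the kernel of any presentation. -/
theorem exists_indep_nhd {R : Type u} [CommRing R] {n : ℕ} {S : Type u} [CommRing S] [Algebra R S]
    (φ : MvPolynomial (Fin n) R →ₐ[R] S) (hφ : Function.Surjective φ) (hI : (RingHom.ker φ.toRingHom).FG)
    (g : S) (hsyn : Synt.IsSyntomic R (Localization.Away g)) (q : Ideal (MvPolynomial (Fin n) R)) [q.IsPrime]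
    (hIq : RingHom.ker φ.toRingHom ≤ q) (hg : g ∉ q.map φ.toRingHom) :
    ∃ (a : MvPolynomial (Fin n) R) (c : ℕ) (F : Fin c → MvPolynomial (Fin n) R), a ∉ q ∧
      Ideal.span (Set.range F) ≤ RingHom.ker φ.toRingHom ∧
      (∀ i ∈ RingHom.ker φ.toRingHom, a * i ∈ Ideal.span (Set.range F)) ∧
      ∀ b : Fin c → MvPolynomial (Fin n) R, ∑ j, b j * F j ∈ RingHom.ker φ.toRingHom ^ 2 →
        ∀ j, ∃ k : ℕ, a ^ k * b j ∈ RingHom.ker φ.toRingHom := by
  let q' := q.map φ.toRingHom
  haveI : q'.IsPrime := Ideal.map_isPrime_of_surjective hφ hIq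
  obtain ⟨Q, hQ, hQc⟩ := exists_fiber_prime (q'.comap (algebraMap R S)) q' rfl
  obtain ⟨hfl, hci⟩ := flat_and_isCIOver_of_syntomic_away g q' hg hsyn _ Q hQc
  haveI := hfl
  obtain ⟨c, F, a, -, hFI, haq, hkill, -, hreg⟩ := exists_regular_nhd φ hφ hI _ Q q' hQc hci
  refine ⟨a, c, F, fun ha => haq (Ideal.mem_map_of_mem φ.toRingHom ha), hFI, hkill, ?_⟩
  refine indep_of_regular_away _ a F hkill hFI ?_
  let P := MvPolynomial (Fin n) R
  let T := Localization.Away a
  rw [isWeaklyRegular_ofFn_iff]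
  intro j x hx
  obtain ⟨⟨y, s⟩, hy⟩ := IsLocalization.surj (Submonoid.powers a) x
  refine (Ideal.mul_unit_mem_iff_mem _ (IsLocalization.map_units T s)).mp ?_
  rw [hy, Set.image_comp, ← Ideal.map_span, IsLocalization.algebraMap_mem_map_algebraMap_iff (Submonoid.powers a) T]
  have h1 : algebraMap P T (F j * y) ∈ (Ideal.span (F '' {k | k < j})).map (algebraMap P T) := by
    rw [map_mul, ← hy, Ideal.map_span, ← Set.image_comp, ← mul_assoc]
    exact Ideal.mul_mem_right _ _ hx
  obtain ⟨t, ⟨k, rfl⟩, ht⟩ := (IsLocalization.algebraMap_mem_map_algebraMap_iff (Submonoid.powers a) T _ _).mp h1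
  obtain ⟨m, hm⟩ := hreg j (a ^ k * y) (by rwa [mul_left_comm] at ht)
  exact ⟨a ^ m * a ^ k, ⟨m + k, pow_add a m k⟩, by rwa [mul_assoc]⟩

end Groth.Agent.SyntLib

namespace Groth.Agent.SyntLib

/-- The relations between generators of the kernel of a flat finitely presented quotient are finitely generated. -/
theorem exists_syz_gens {R P S : Type u} [CommRing R] [CommRing P] [CommRing S] [Algebra R P] [Algebra R S]
    [Algebra.FinitePresentation R P] [Module.Flat R S] [Algebra.FinitePresentation R S] (φ : P →ₐ[R] S)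
    (hφ : Function.Surjective φ) {m : ℕ} (g : Fin m → P) (hg : RingHom.ker φ.toRingHom = Ideal.span (Set.range g)) :
    ∃ (r : ℕ) (z : Fin r → Fin m → P), (∀ j, ∑ l, z j l * g l = 0) ∧
      ∀ s : Fin m → P, ∑ l, s l * g l = 0 → s ∈ Submodule.span P (Set.range z) := by
  letI : Algebra P S := φ.toRingHom.toAlgebra
  haveI : IsScalarTower R P S := IsScalarTower.of_algebraMap_eq fun x => (φ.commutes x).symm
  haveI : Module.FinitePresentation P S :=
    Module.finitePresentation_of_surjective (Algebra.linearMap P S) hφ (by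
      rw [show LinearMap.ker (Algebra.linearMap P S) = RingHom.ker φ.toRingHom from rfl, hg]
      exact fg_span_range g)
  let ψ : (Fin m → P) →ₗ[P] P := Fintype.linearCombination P g
  have hr : LinearMap.range ψ = RingHom.ker φ.toRingHom := by
    rw [hg, Fintype.range_linearCombination]
  obtain ⟨t, ht⟩ := InjFibre.fg_ker_of_flat (A := R) ψ (Algebra.linearMap P S) hφ
    (LinearMap.exact_iff.mpr hr.symm)
  refine ⟨t.card, fun j => (t.equivFin.symm j).1, fun j => ?_, fun s hs => ?_⟩
  · have h1 : ((t.equivFin.symm j).1 : Fin m → P) ∈ LinearMap.ker ψ := ht ▸ Submodule.subset_span (t.equivFin.symm j).2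
    simpa [ψ, Fintype.linearCombination_apply, smul_eq_mul] using h1
  · have h1 : s ∈ LinearMap.ker ψ := by simpa [ψ, Fintype.linearCombination_apply, smul_eq_mul] using hs
    rw [← ht] at h1
    refine Submodule.span_mono (fun y hy => ?_) h1
    exact ⟨t.equivFin ⟨y, hy⟩, by simp⟩

end Groth.Agent.SyntLib
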