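import Groth.Agent.SyntLib.RelGCIConormal
import Groth.Agent.SyntLib.Cotangent
import Groth.Agent.SyntLib.Comp
import Groth.Agent.Hensel.SmoothQuotientLift

/-!
# Syntomic algebras are smooth retracts of relative complete intersections
-/

set_option autoImplicit false
set_option linter.style.haveILetI false
universe u

open MvPolynomial Matrix

namespace Groth.Agent.SyntLib

theorem exists_smooth_retract_relGCI {R A : Type u} [CommRing R] [CommRing A] [Algebra R A]
    (hA : Synt.IsSyntomic R A) :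
    ∃ (n c : ℕ) (F : Fin c → MvPolynomial (Fin n) R), Synt.IsRelGCI R n c F ∧
      Module.Flat R (Synt.RelGCIRing R n c F) ∧
      ∃ (_ : Algebra A (Synt.RelGCIRing R n c F)) (_ : IsScalarTower R A (Synt.RelGCIRing R n c F)),
        Algebra.Smooth A (Synt.RelGCIRing R n c F) ∧
        ∃ ρ : Synt.RelGCIRing R n c F →ₐ[R] A, ∀ a : A, ρ (algebraMap A (Synt.RelGCIRing R n c F) a) = a := by
  classical
  haveI := hA.1
  haveI := hA.2.1
  obtain ⟨n, π, hπ, hfg⟩ := Algebra.FinitePresentation.out (R := R) (A := A)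
  let P := MvPolynomial (Fin n) R
  let I : Ideal P := RingHom.ker π.toRingHom
  obtain ⟨m, g, hgI⟩ := Submodule.fg_iff_exists_fin_generating_family.1 hfg
  have hI : I = Ideal.span (Set.range g) := hgI.symm
  have hgmem : ∀ i, g i ∈ I := fun i => hI ▸ Ideal.subset_span (Set.mem_range_self i)
  obtain ⟨r₀, z₀, hz₀, hz₀span⟩ := exists_syz_gens π hπ g hI
  obtain ⟨N₀, E₀, hE₀, hE₀z⟩ := exists_proj_matrix I g hI z₀ hz₀ 1 fun q hq hIq _ => by
    haveI : (q.map π.toRingHom).IsPrime := Ideal.map_isPrime_of_surjective hπ hIq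
    obtain ⟨c, F, a, -, haq, -, hreg, -, hFI, hkill⟩ := exists_regular_away π hπ hA (q.map π.toRingHom)
    exact ⟨a, c, F, fun ha => haq (Ideal.mem_map_of_mem π.toRingHom ha), hFI, hkill,
      indep_of_regular_away I a F hkill hFI hreg⟩
  simp only [one_pow, one_mul] at hE₀
  have hsyz₀ : ∀ s : Fin m → P, ∑ l, s l * g l = 0 → ∀ k, Matrix.vecMul s E₀ k ∈ I := by
    intro s hs
    have hmem := hz₀span s hs
    clear hs
    induction hmem using Submodule.span_induction with
    | mem v hv => obtain ⟨j, rfl⟩ := hv; exact hE₀z j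
    | zero => intro k; simp
    | add x y _ _ hx hy =>
      intro k
      rw [add_vecMul, Pi.add_apply]
      exact I.add_mem (hx k) (hy k)
    | smul t x _ hx =>
      intro k
      rw [smul_vecMul, Pi.smul_apply, smul_eq_mul]
      exact I.mul_mem_left t (hx k)
  have hidem₀ : ∀ i k, (E₀ * E₀ - E₀) i k ∈ I := by
    intro i k
    let s : Fin m → P := (1 - E₀) i
    have hs : ∑ l, s l * g l ∈ Ideal.span (Set.range g) ^ 2 := by
      rw [show ∑ l, s l * g l = ((1 - E₀).mulVec g) i from rfl, sub_mulVec, one_mulVec, ← hI]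
      exact hE₀ i
    obtain ⟨c, hc, hsc⟩ := exists_coeff_of_mem_sq g hs
    have h1 := hsyz₀ (s - c) (by simp only [Pi.sub_apply, sub_mul, Finset.sum_sub_distrib, ← hsc, sub_self]) k
    have h2 : Matrix.vecMul c E₀ k ∈ I := by
      show ∑ l, c l * E₀ l k ∈ I
      exact Ideal.sum_mem _ fun l _ => I.mul_mem_right _ (hI ▸ hc l)
    have h3 := add_mem h1 h2
    rw [sub_vecMul, Pi.sub_apply, sub_add_cancel,
      show Matrix.vecMul s E₀ k = ((1 - E₀) * E₀) i k from rfl, sub_mul, one_mul, Matrix.sub_apply] at h3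
    rw [Matrix.sub_apply]
    have h4 := I.neg_mem h3
    rwa [neg_sub] at h4
  -- an idempotent modulo `I²`
  have hmulI : ∀ (M M' : Matrix (Fin m) (Fin m) P), (∀ i k, M i k ∈ I) → ∀ i k, (M * M') i k ∈ I :=
    fun M M' hM i k => by
      rw [Matrix.mul_apply]; exact I.sum_mem fun l _ => I.mul_mem_right _ (hM i l)
  have hmulI2 : ∀ (M M' : Matrix (Fin m) (Fin m) P), (∀ i k, M i k ∈ I) → (∀ i k, M' i k ∈ I) →
      ∀ i k, (M * M') i k ∈ I ^ 2 := fun M M' hM hM' i k => by
    rw [Matrix.mul_apply, sq]; exact Ideal.sum_mem _ fun l _ => Ideal.mul_mem_mul (hM i l) (hM' l k)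
  let E := E₀ * E₀ + E₀ * E₀ + E₀ * E₀ - (E₀ * E₀ * E₀ + E₀ * E₀ * E₀)
  let D := E₀ * E₀ - E₀
  have hDI : ∀ i k, D i k ∈ I := hidem₀
  have hEE₀ : E - E₀ = D * (1 - (E₀ + E₀)) := by
    have h1 : ((Polynomial.X : Polynomial P) * .X + .X * .X + .X * .X - (.X * .X * .X + .X * .X * .X)) - .X =
        (.X * .X - .X) * (1 - (.X + .X)) := by ring
    simpa [E, D] using congrArg (Polynomial.aeval E₀) h1
  have hEd : E * E - E = D * (D * (D + D + D + D - (1 + 1 + 1))) := by
    have h1 : ((Polynomial.X : Polynomial P) * .X + .X * .X + .X * .X - (.X * .X * .X + .X * .X * .X)) *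
          (.X * .X + .X * .X + .X * .X - (.X * .X * .X + .X * .X * .X)) -
          (.X * .X + .X * .X + .X * .X - (.X * .X * .X + .X * .X * .X)) =
        (.X * .X - .X) * ((.X * .X - .X) * ((.X * .X - .X) + (.X * .X - .X) + (.X * .X - .X) + (.X * .X - .X) - (1 + 1 + 1))) := by
      ring
    simpa [E, D] using congrArg (Polynomial.aeval E₀) h1
  have hdiff : ∀ i k, E i k - E₀ i k ∈ I := fun i k => by
    rw [← Matrix.sub_apply, hEE₀]; exact hmulI _ _ hDI i k
  have hidem : ∀ i k, (E * E - E) i k ∈ I ^ 2 := fun i k => by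
    rw [hEd]; exact hmulI2 _ _ hDI (hmulI _ _ hDI) i k
  have hEg : ∀ i, g i - E.mulVec g i ∈ I ^ 2 := fun i => by
    have h2 : (E - E₀).mulVec g i ∈ I ^ 2 := by
      rw [sq]
      show ∑ l, (E - E₀) i l * g l ∈ I * I
      exact Ideal.sum_mem _ fun l _ => Ideal.mul_mem_mul (by rw [Matrix.sub_apply]; exact hdiff i l) (hgmem l)
    have := (I ^ 2).sub_mem (hE₀ i) h2
    rw [sub_mulVec, Pi.sub_apply] at this
    rwa [sub_sub_sub_cancel_right] at this
  have hsyz : ∀ s : Fin m → P, ∑ l, s l * g l = 0 → ∀ k, Matrix.vecMul s E k ∈ I := fun s hs k => by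
    have h2 : Matrix.vecMul s (E - E₀) k ∈ I := by
      show ∑ l, s l * (E - E₀) l k ∈ I
      exact I.sum_mem fun l _ => I.mul_mem_left _ (by rw [Matrix.sub_apply]; exact hdiff l k)
    have := I.add_mem (hsyz₀ s hs k) h2
    rwa [vecMul_sub, Pi.sub_apply, add_sub_cancel] at this
  -- the algebra `C`
  let PA := MvPolynomial (Fin m) A
  let EA : Matrix (Fin m) (Fin m) A := E.map π
  have hEA : EA * EA = EA := by
    refine Matrix.ext fun i k => ?_
    simp only [EA]
    rw [← Matrix.map_mul, Matrix.map_apply, Matrix.map_apply, ← sub_eq_zero, ← map_sub]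
    exact Ideal.pow_le_self two_ne_zero (hidem i k)
  let eA : Matrix (Fin m) (Fin m) PA := (1 - EA).map MvPolynomial.C
  have heA : eA * eA = eA := by
    simp only [eA]
    rw [← Matrix.map_mul, sub_mul, one_mul, mul_sub, mul_one, hEA, sub_self, sub_zero]
  let hA' : Fin m → PA := eA.mulVec X
  let HA : Ideal PA := Ideal.span (Set.range hA')
  let C := PA ⧸ HA
  haveI hsm : Algebra.Smooth A C := by
    haveI : Algebra.Smooth A PA := ⟨inferInstance, inferInstance⟩
    refine Hensel.smooth_quotient_of_idempotent hA' eA heA (by rw [mulVec_mulVec, heA]) (fun k => pderiv k) ?_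
    have hM : (Matrix.of fun i k => pderiv k (hA' i)) = eA := by
      refine Matrix.ext fun i k => ?_
      simp [hA', eA, Matrix.mulVec, dotProduct, Pi.single_apply, mul_comm]
    rw [hM, heA, add_sub_cancel, Matrix.det_one, map_one]
    exact isUnit_one
  haveI : IsScalarTower R A C := inferInstance
  have hC : Synt.IsSyntomic R C := isSyntomic_trans hA (isSyntomic_of_smooth A C)
  -- presenting `C`
  let B := MvPolynomial (Fin m) P
  let φB : B →ₐ[R] C := (Ideal.Quotient.mkₐ R HA).comp (MvPolynomial.mapAlgHom π)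
  have hπm : Function.Surjective (MvPolynomial.map (σ := Fin m) π.toRingHom) := MvPolynomial.map_surjective _ hπ
  have hφB : Function.Surjective φB := fun y => by
    obtain ⟨y, rfl⟩ := Ideal.Quotient.mk_surjective y
    obtain ⟨x, rfl⟩ := hπm y
    exact ⟨x, rfl⟩
  let yr : Fin m → B := ((1 - E).map MvPolynomial.C).mulVec X
  let gB : Fin m → B := fun l => MvPolynomial.C (g l)
  let IB : Ideal B := Ideal.span (Set.range gB)
  have hIB : IB = I.map MvPolynomial.C := by
    rw [hI, Ideal.map_span, ← Set.range_comp]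
    rfl
  let J : Ideal B := RingHom.ker φB.toRingHom
  have hyr : ∀ i, MvPolynomial.map π.toRingHom (yr i) = hA' i := fun i => by
    simp only [yr, hA', eA, EA, Matrix.mulVec, dotProduct, map_sum, map_mul, MvPolynomial.map_X, Matrix.map_apply,
      Matrix.sub_apply, MvPolynomial.map_C, map_sub, Matrix.one_apply, apply_ite (π.toRingHom), map_one, map_zero]
    rfl
  have hJ : J = IB ⊔ Ideal.span (Set.range yr) := by
    have h1 : J = HA.comap (MvPolynomial.map π.toRingHom) := by
      show RingHom.ker ((Ideal.Quotient.mk HA).comp (MvPolynomial.map π.toRingHom)) = _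
      rw [← RingHom.comap_ker, Ideal.mk_ker]
    have h2 : HA = (Ideal.span (Set.range yr)).map (MvPolynomial.map π.toRingHom) := by
      rw [Ideal.map_span, ← Set.range_comp, show ⇑(MvPolynomial.map π.toRingHom) ∘ yr = hA' from funext hyr]
    rw [h1, h2, Ideal.comap_map_of_surjective _ hπm, ← RingHom.ker_eq_comap_bot, MvPolynomial.ker_map, ← hIB, sup_comm]
  have hIBJ : IB ≤ J := hJ ▸ le_sup_left
  have hyrJ : ∀ i, yr i ∈ J := fun i => hJ ▸ Ideal.mem_sup_right (Ideal.subset_span ⟨i, rfl⟩)
  have hgBJ : ∀ l, gB l ∈ J := fun l => hIBJ (Ideal.subset_span ⟨l, rfl⟩)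
  have hC2 : ∀ x ∈ I ^ 2, MvPolynomial.C x ∈ IB ^ 2 := fun x hx => by
    rw [hIB, ← Ideal.map_pow]; exact Ideal.mem_map_of_mem _ hx
  let h : Fin m → B := fun i => MvPolynomial.C (E.mulVec g i) + yr i
  have hhJ : ∀ i, h i ∈ J := fun i => by
    have h1 : E.mulVec g i ∈ I := by
      show ∑ l, E i l * g l ∈ I
      exact I.sum_mem fun l _ => I.mul_mem_left _ (hgmem l)
    exact J.add_mem (hIBJ (hIB ▸ Ideal.mem_map_of_mem _ h1)) (hyrJ i)
  let H : Ideal B := Ideal.span (Set.range h)
  have hJH : J ≤ H ⊔ J * J := by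
    have hIB2 : ∀ x ∈ IB ^ 2, x ∈ H ⊔ J * J := fun x hx =>
      Ideal.mem_sup_right (by rw [sq] at hx; exact Ideal.mul_mono hIBJ hIBJ hx)
    have hEgB : ∀ i, MvPolynomial.C (E.mulVec g i) ∈ H ⊔ J * J := fun i => by
      let EB := E.map (MvPolynomial.C : P → B)
      have key : EB.mulVec h i = MvPolynomial.C ((E * E).mulVec g i) +
          (((E - E * E).map (MvPolynomial.C : P → B)).mulVec X) i := by
        have h1 : EB.mulVec h = EB.mulVec (fun i => MvPolynomial.C (E.mulVec g i)) + EB.mulVec yr := by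
          rw [← mulVec_add]; rfl
        rw [h1, Pi.add_apply]
        congr 1
        · rw [← mulVec_mulVec g E E]
          exact (RingHom.map_mulVec (MvPolynomial.C : P →+* B) E (E.mulVec g) i).symm
        · simp only [yr, EB]
          rw [mulVec_mulVec, ← Matrix.map_mul, mul_sub, mul_one]
      have h2 : EB.mulVec h i ∈ H ⊔ J * J := by
        show ∑ l, EB i l * h l ∈ H ⊔ J * J
        exact Ideal.sum_mem _ fun l _ => Ideal.mul_mem_left _ _ (Ideal.mem_sup_left (Ideal.subset_span (Set.mem_range_self l)))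
      have h3 : (((E - E * E).map (MvPolynomial.C : P → B)).mulVec X) i ∈ H ⊔ J * J := by
        show ∑ l, ((E - E * E).map (MvPolynomial.C : P → B)) i l * X l ∈ H ⊔ J * J
        refine Ideal.sum_mem _ fun l _ => Ideal.mul_mem_right _ _ ?_
        rw [Matrix.map_apply]
        refine hIB2 _ (hC2 _ ?_)
        rw [← neg_sub (E * E) E, Matrix.neg_apply]
        exact neg_mem (hidem i l)
      rw [key] at h2
      have h4 := Ideal.sub_mem _ h2 h3
      rw [add_sub_cancel_right] at h4
      have h5 : MvPolynomial.C ((E * E).mulVec g i - E.mulVec g i) ∈ H ⊔ J * J := by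
        refine hIB2 _ (hC2 _ ?_)
        rw [← Pi.sub_apply, ← sub_mulVec]
        show ∑ l, (E * E - E) i l * g l ∈ I ^ 2
        exact Ideal.sum_mem _ fun l _ => Ideal.mul_mem_right _ _ (hidem i l)
      have h6 := Ideal.sub_mem _ h4 h5
      rwa [← map_sub, sub_sub_cancel] at h6
    refine hJ.le.trans (sup_le (Ideal.span_le.2 ?_) (Ideal.span_le.2 ?_))
    · rintro _ ⟨l, rfl⟩
      have h1 := Ideal.add_mem _ (hEgB l) (hIB2 _ (hC2 _ (hEg l)))
      rwa [← map_add, add_sub_cancel] at h1
    · rintro _ ⟨i, rfl⟩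
      have h1 := Ideal.sub_mem _ (Ideal.mem_sup_left (Ideal.subset_span ⟨i, rfl⟩) : h i ∈ H ⊔ J * J) (hEgB i)
      rwa [add_sub_cancel_left] at h1
  let T : Submodule B (B ⧸ H) := Submodule.map H.mkQ J
  have hJfg : J.FG := hJ ▸ (Submodule.fg_span (Set.finite_range gB)).sup (Submodule.fg_span (Set.finite_range yr))
  have hTJ : T ≤ J • T := by
    rintro _ ⟨y, hy, rfl⟩
    obtain ⟨a, ha, b, hb, rfl⟩ := Submodule.mem_sup.1 (hJH hy)
    rw [map_add, Submodule.mkQ_apply, (Submodule.Quotient.mk_eq_zero H).2 ha, zero_add, ← Submodule.map_smul'']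
    exact Submodule.mem_map_of_mem hb
  obtain ⟨u, hu1, hu0⟩ := Submodule.exists_sub_one_mem_and_smul_eq_zero_of_fg_of_le_smul J T
    (Submodule.FG.map _ hJfg) hTJ
  have hugen : ∀ x ∈ J, u * x ∈ H := fun x hx => by
    rw [← Submodule.Quotient.mk_eq_zero H, ← smul_eq_mul, Submodule.Quotient.mk_smul]
    exact hu0 _ (Submodule.mem_map_of_mem hx)
  have hsyzB : ∀ s : Fin m → B, ∑ l, s l * gB l = 0 → ∀ k, ∑ l, s l * MvPolynomial.C (E l k) ∈ IB := by
    intro s hs k
    rw [hIB, MvPolynomial.mem_map_C_iff]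
    intro α
    have hc : ∀ (f : B) (a : P), MvPolynomial.coeff α (f * MvPolynomial.C a) = f.coeff α * a := fun f a => by
      rw [mul_comm, MvPolynomial.coeff_C_mul, mul_comm]
    have h0 := congrArg (MvPolynomial.coeff α) hs
    rw [MvPolynomial.coeff_sum, MvPolynomial.coeff_zero, Finset.sum_congr rfl fun l _ => hc (s l) (g l)] at h0
    rw [MvPolynomial.coeff_sum, Finset.sum_congr rfl fun l _ => hc (s l) (E l k)]
    exact hsyz (fun l => (s l).coeff α) h0 k
  have hindep : ∀ (q : Ideal B), q.IsPrime → J ≤ q →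
      ∀ b : Fin m → B, ∑ i, b i * h i ∈ q * J → ∀ i, b i ∈ q := by
    intro q hq hJq b hb
    haveI := hq
    let CE : Matrix (Fin m) (Fin m) B := E.map MvPolynomial.C
    have hCE1 : (1 - E).map MvPolynomial.C = 1 - CE := by
      rw [Matrix.map_sub _ (map_sub MvPolynomial.C), Matrix.map_one _ (map_zero _) (map_one _)]
    have hpd : ∀ k, ∀ x ∈ q * J, pderiv k x ∈ q := by
      intro k x hx
      induction hx using Submodule.mul_induction_on' with
      | mem_mul_mem p hp y hy =>
        rw [Derivation.leibniz, smul_eq_mul, smul_eq_mul]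
        exact q.add_mem (q.mul_mem_right _ hp) (q.mul_mem_right _ (hJq hy))
      | add x _ y _ hx hy => rw [map_add]; exact q.add_mem hx hy
    let d : Fin m → B := Matrix.vecMul b (1 - CE)
    have hd : ∀ k, d k ∈ q := fun k => by
      have h1 := hpd k _ hb
      rw [map_sum] at h1
      have h2 : ∀ i, pderiv k (b i * h i) - b i * (1 - CE) i k ∈ q := fun i => by
        have h3 : pderiv k (h i) = (1 - CE) i k := by
          rw [← hCE1]
          simp only [h, yr, Matrix.mulVec, dotProduct, map_add, map_sum, pderiv_C, zero_add, Matrix.map_apply,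
            pderiv_C_mul, pderiv_X]
          simp [Pi.single_apply]
        rw [Derivation.leibniz, smul_eq_mul, smul_eq_mul, h3, add_sub_cancel_left]
        exact q.mul_mem_right _ (hJq (hhJ i))
      have h4 := q.sub_mem h1 (q.sum_mem (t := Finset.univ) fun i _ => h2 i)
      rw [← Finset.sum_sub_distrib] at h4
      simp only [sub_sub_cancel] at h4
      exact h4
    let I2 : Ideal B := IB ^ 2
    have hI2q : ∀ x ∈ I2, x ∈ q * J := fun x hx => by
      rw [show I2 = IB * IB from sq IB] at hx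
      exact Ideal.mul_mono (hIBJ.trans hJq) hIBJ hx
    have hCidem : ∀ i k, (CE * CE - CE) i k ∈ I2 := fun i k => by
      rw [show (CE * CE - CE) i k = MvPolynomial.C ((E * E - E) i k) by simp [CE, Matrix.mul_apply]]
      exact hC2 _ (hidem i k)
    let t : Fin m → B := Matrix.vecMul b CE
    have hyr' : yr = (1 - CE).mulVec X := by
      rw [← hCE1]
    have htg : ∑ l, t l * gB l ∈ q * J := by
      have h1 : ∑ l, t l * gB l = ∑ i, b i * MvPolynomial.C (E.mulVec g i) := by
        show Matrix.vecMul b CE ⬝ᵥ gB = _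
        rw [← dotProduct_mulVec]
        refine Finset.sum_congr rfl fun i _ => congrArg (b i * ·) ?_
        exact (RingHom.map_mulVec (MvPolynomial.C : P →+* B) E g i).symm
      have h2 : ∑ i, b i * yr i ∈ q * J := by
        have h3 : ∑ i, b i * yr i = d ⬝ᵥ yr + Matrix.vecMul b ((1 - CE) * CE) ⬝ᵥ X := by
          show b ⬝ᵥ yr = _
          rw [hyr', ← dotProduct_mulVec, ← dotProduct_mulVec, mulVec_mulVec, ← dotProduct_add, ← add_mulVec,
            ← mul_add, sub_add_cancel, mul_one]
        rw [h3]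
        refine Ideal.add_mem _ (Ideal.sum_mem _ fun i _ => Ideal.mul_mem_mul (hd i) (hyrJ i)) ?_
        show ∑ k, (∑ i, b i * ((1 - CE) * CE) i k) * X k ∈ q * J
        refine Ideal.sum_mem _ fun k _ => Ideal.mul_mem_right _ _ (Ideal.sum_mem _ fun i _ => Ideal.mul_mem_left _ _ ?_)
        rw [show ((1 - CE) * CE) i k = -((CE * CE - CE) i k) by rw [sub_mul, one_mul]; simp]
        exact neg_mem (hI2q _ (hCidem i k))
      have h4 := Ideal.sub_mem _ hb h2
      rw [← Finset.sum_sub_distrib] at h4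
      simp only [h, mul_add, add_sub_cancel_right] at h4
      rw [h1]
      exact h4
    have hqJ : ∀ x ∈ q * J, ∃ w v : Fin m → B, (∀ l, w l ∈ q) ∧ (∀ l, v l ∈ q) ∧
        x = ∑ l, w l * gB l + ∑ l, v l * yr l := by
      intro x hx
      induction hx using Submodule.mul_induction_on' with
      | mem_mul_mem p hp y hy =>
        rw [hJ] at hy
        obtain ⟨y₁, hy₁, y₂, hy₂, rfl⟩ := Submodule.mem_sup.1 hy
        obtain ⟨w, rfl⟩ := Ideal.mem_span_range_iff_exists_fun.1 hy₁
        obtain ⟨v, rfl⟩ := Ideal.mem_span_range_iff_exists_fun.1 hy₂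
        exact ⟨fun l => p * w l, fun l => p * v l, fun l => q.mul_mem_right _ hp, fun l => q.mul_mem_right _ hp,
          by simp only [mul_assoc, ← Finset.mul_sum, mul_add]⟩
      | add x _ y _ hx hy =>
        obtain ⟨w, v, hw, hv, rfl⟩ := hx
        obtain ⟨w', v', hw', hv', rfl⟩ := hy
        exact ⟨w + w', v + v', fun l => q.add_mem (hw l) (hw' l), fun l => q.add_mem (hv l) (hv' l), by
          simp only [Pi.add_apply, add_mul, Finset.sum_add_distrib]; ring⟩
    obtain ⟨w, v, hw, hv, hwv⟩ := hqJ _ htg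
    let θ : B →ₐ[P] B := MvPolynomial.aeval (CE.mulVec X)
    have hθJ : ∀ x, θ x - x ∈ J := fun x => by
      have : (Ideal.Quotient.mkₐ P J).comp θ = Ideal.Quotient.mkₐ P J := MvPolynomial.algHom_ext fun k => by
        simp only [AlgHom.comp_apply, θ, aeval_X, Ideal.Quotient.mkₐ_eq_mk]
        refine Ideal.Quotient.eq.2 ?_
        rw [← neg_sub]
        refine J.neg_mem ?_
        rw [show X k - CE.mulVec X k = yr k by rw [hyr', sub_mulVec, one_mulVec]; rfl]
        exact hyrJ k
      exact Ideal.Quotient.eq.1 (AlgHom.congr_fun this x)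
    have hθg : ∀ l, θ (gB l) = gB l := fun l => θ.commutes (g l)
    have hθy : ∀ l, θ (yr l) ∈ I2 := fun l => by
      have : θ (yr l) = ((1 - CE) * CE).mulVec X l := by
        rw [← mulVec_mulVec]
        simp only [hyr', Matrix.mulVec, dotProduct, map_sum, map_mul]
        refine Finset.sum_congr rfl fun k _ => ?_
        congr 1
        · rw [show (1 - CE) l k = algebraMap P B ((1 - E) l k) by
            rw [← hCE1, Matrix.map_apply]; rfl]
          exact θ.commutes _
        · exact MvPolynomial.aeval_X _ k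
      rw [this]
      show ∑ k, ((1 - CE) * CE) l k * X k ∈ I2
      refine Ideal.sum_mem _ fun k _ => Ideal.mul_mem_right _ _ ?_
      rw [show ((1 - CE) * CE) l k = -((CE * CE - CE) l k) by rw [sub_mul, one_mul]; simp]
      exact neg_mem (hCidem l k)
    have hrel : ∑ l, θ (t l - w l) * gB l ∈ Ideal.span (Set.range gB) ^ 2 := by
      have h1 := congrArg θ (show ∑ l, (t l - w l) * gB l = ∑ l, v l * yr l by
        simp only [sub_mul, Finset.sum_sub_distrib]; rw [hwv, add_sub_cancel_left])
      simp only [map_sum, map_mul, hθg] at h1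
      rw [h1]
      exact Ideal.sum_mem _ fun l _ => Ideal.mul_mem_left _ _ (hθy l)
    obtain ⟨c, hc, hsc⟩ := exists_coeff_of_mem_sq gB hrel
    have hIBq : IB ≤ q := hIBJ.trans hJq
    have hsE := hsyzB (fun l => θ (t l - w l) - c l) (by simp only [sub_mul, Finset.sum_sub_distrib, ← hsc, sub_self])
    have htE : ∀ k, Matrix.vecMul t CE k ∈ q := fun k => by
      have h1 : ∑ l, ((θ (t l - w l) - (t l - w l)) - c l + (- w l)) * CE l k ∈ q :=
        q.sum_mem fun l _ => q.mul_mem_right _
          (q.add_mem (q.sub_mem (hJq (hθJ _)) (hIBq (hc l))) (q.neg_mem (hw l)))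
      have h2 := q.sub_mem (hIBq (hsE k)) h1
      rw [← Finset.sum_sub_distrib] at h2
      show ∑ l, t l * CE l k ∈ q
      convert h2 using 2 with l
      simp only [CE, Matrix.map_apply]
      ring
    intro i
    have h1 : t i - Matrix.vecMul t CE i ∈ q := by
      have h3 : Matrix.vecMul b (CE - CE * CE) i ∈ q := by
        show ∑ l, b l * (CE - CE * CE) l i ∈ q
        refine q.sum_mem fun l _ => q.mul_mem_left _ ?_
        rw [← neg_sub, Matrix.neg_apply]
        exact q.neg_mem (hIBq (Ideal.pow_le_self two_ne_zero (hCidem l i)))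
      rw [vecMul_sub, Pi.sub_apply, ← vecMul_vecMul] at h3
      exact h3
    have h2 := q.add_mem h1 (htE i)
    rw [sub_add_cancel] at h2
    have h3 : b i = d i + t i := by
      simp only [d, t, vecMul_sub, vecMul_one, Pi.sub_apply, sub_add_cancel]
    rw [h3]
    exact q.add_mem (hd i) h2
  -- move to a polynomial ring over `R`
  let ψ : MvPolynomial (Fin (m + n)) R ≃ₐ[R] B :=
    (renameEquiv R finSumFinEquiv.symm).trans (sumAlgEquiv R (Fin m) (Fin n))
  let φN : MvPolynomial (Fin (m + n)) R →ₐ[R] C := φB.comp ψ.toAlgHom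
  have hφN : Function.Surjective φN := hφB.comp ψ.surjective
  let hN : Fin m → MvPolynomial (Fin (m + n)) R := fun i => ψ.symm (h i)
  have hkerN : RingHom.ker φN.toRingHom = J.comap ψ.toAlgHom.toRingHom := rfl
  have hψh : ∀ (b : Fin m → MvPolynomial (Fin (m + n)) R), ψ (∑ i, b i * hN i) = ∑ i, ψ (b i) * h i := fun b => by
    simp [hN]
  have hgenN : ∀ x ∈ RingHom.ker φN.toRingHom, ψ.symm u * x ∈ Ideal.span (Set.range hN) := by
    intro x hx
    have h1 := Ideal.mem_map_of_mem ψ.symm.toAlgHom.toRingHom (hugen (ψ x) hx)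
    rw [Ideal.map_span, ← Set.range_comp] at h1
    have h2 : ψ.symm (u * ψ x) = ψ.symm u * x := by rw [map_mul, AlgEquiv.symm_apply_apply]
    rw [← h2]
    exact h1
  have hindepN : ∀ (q : Ideal (MvPolynomial (Fin (m + n)) R)), q.IsPrime → RingHom.ker φN.toRingHom ≤ q →
      ∀ b : Fin m → MvPolynomial (Fin (m + n)) R, ∑ i, b i * hN i ∈ q * RingHom.ker φN.toRingHom →
        ∀ i, b i ∈ q := by
    intro q hq hle b hb i
    haveI := hq
    let q' : Ideal B := q.comap ψ.symm.toAlgHom.toRingHom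
    have hq' : ∀ x, ψ x ∈ q' ↔ x ∈ q := fun x => by
      show ψ.symm (ψ x) ∈ q ↔ _
      rw [AlgEquiv.symm_apply_apply]
    have hJq' : J ≤ q' := fun x hx => hle (show φB (ψ (ψ.symm x)) = 0 by rw [AlgEquiv.apply_symm_apply]; exact hx)
    refine (hq' (b i)).1 (hindep q' inferInstance hJq' (fun i => ψ (b i)) ?_ i)
    rw [← hψh]
    have key : ∀ x ∈ q * RingHom.ker φN.toRingHom, ψ x ∈ q' * J := fun x hx => by
      induction hx using Submodule.mul_induction_on' with
      | mem_mul_mem p hp y hy => rw [map_mul]; exact Ideal.mul_mem_mul ((hq' p).2 hp) hy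
      | add x _ y _ hx hy => rw [map_add]; exact Ideal.add_mem _ hx hy
    exact key _ hb
  have hu' : φN (ψ.symm u) = 1 := by
    show φB (ψ (ψ.symm u)) = 1
    rw [AlgEquiv.apply_symm_apply, ← sub_eq_zero, ← map_one φB, ← map_sub]
    exact hu1
  have hhN : ∀ i, φN (hN i) = 0 := fun i => by
    show φB (ψ (ψ.symm (h i))) = 0
    rw [AlgEquiv.apply_symm_apply]
    exact hhJ i
  have hrel := isRelGCI_of_conormal φN hφN hC hN hhN (ψ.symm u) hu' hgenN hindepN
  obtain ⟨e₀⟩ := exists_pres_away φN hφN hN (ψ.symm u)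
    (Ideal.span_le.2 (by rintro _ ⟨i, rfl⟩; exact hhN i)) hgenN
  let T' := Synt.RelGCIRing R (m + n + 1) (m + 1) (snocPres hN (ψ.symm u))
  let e : C ≃ₐ[R] T' := ((IsLocalization.atUnits C (Submonoid.powers (φN (ψ.symm u))) (by
      rintro _ ⟨k, rfl⟩; show IsUnit _; rw [hu']; simp) :
      C ≃ₐ[C] Localization.Away (φN (ψ.symm u))).restrictScalars R).trans e₀
  refine ⟨m + n + 1, m + 1, snocPres hN (ψ.symm u), hrel, flat_relGCI hrel, ?_⟩
  letI : Algebra A T' := (e.toAlgHom.toRingHom.comp (algebraMap A C)).toAlgebra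
  haveI : IsScalarTower R A T' := IsScalarTower.of_algebraMap_eq fun r => by
    show _ = e (algebraMap A C (algebraMap R A r))
    rw [← IsScalarTower.algebraMap_apply, AlgEquiv.commutes]
  let eA' : C ≃ₐ[A] T' := AlgEquiv.ofRingEquiv (f := e.toRingEquiv) fun a => rfl
  refine ⟨inferInstance, inferInstance, Algebra.Smooth.of_equiv eA', ?_⟩
  let ev : C →ₐ[A] A := Ideal.Quotient.liftₐ HA (MvPolynomial.aeval fun _ => (0 : A)) fun x hx => by
    refine (Ideal.span_le (I := RingHom.ker (MvPolynomial.aeval fun _ => (0 : A)).toRingHom)).2 ?_ hx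
    rintro _ ⟨i, rfl⟩
    show MvPolynomial.aeval (fun _ => (0 : A)) (hA' i) = 0
    simp [hA', Matrix.mulVec, dotProduct]
  exact ⟨(ev.restrictScalars R).comp e.symm.toAlgHom, fun a => by
    show ev (e.symm (e (algebraMap A C a))) = a
    rw [AlgEquiv.symm_apply_apply, AlgHom.commutes]
    rfl⟩

end Groth.Agent.SyntLib
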