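import Groth.Agent.SyntLib.Spread

/-!
# Descending relative complete intersections to finite type subalgebras
-/

set_option autoImplicit false
set_option linter.style.haveILetI false
universe u

open MvPolynomial CategoryTheory AlgebraicGeometry
open scoped TensorProduct

namespace Groth.Agent.SyntLib

attribute [local instance] Algebra.TensorProduct.rightAlgebra

variable {R R' : Type u} [CommRing R] [CommRing R'] [Algebra R R'] {n c : ℕ}

theorem fibreDimAt_baseChange {S S' : Type u} [CommRing S] [CommRing S'] [Algebra R S] [Algebra R' S'] [Algebra S S']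
    [Algebra R S'] [IsScalarTower R R' S'] [IsScalarTower R S S'] [Algebra.FiniteType R S]
    [Algebra.IsPushout R R' S S'] (z : PrimeSpectrum S') :
    FlatMor.fibreDimAt (Spec.map (CommRingCat.ofHom (algebraMap R' S'))) z =
      FlatMor.fibreDimAt (Spec.map (CommRingCat.ofHom (algebraMap R S))) (PrimeSpectrum.comap (algebraMap S S') z) := by
  let f := Spec.map (CommRingCat.ofHom (algebraMap R S))
  haveI : LocallyOfFiniteType f :=
    (HasRingHomProperty.Spec_iff (P := @LocallyOfFiniteType)).mpr (RingHom.finiteType_algebraMap.mpr inferInstance)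
  have sq := (isPullback_SpecMap_of_isPushout _ _ _ _ (CommRingCat.isPushout_of_isPushout R R' S S')).flip
  exact LocalDimBC.fibreDimAt_of_isPullback f _ _ _ sq z

theorem hle_map (F : Fin c → MvPolynomial (Fin n) R) :
    Ideal.span (Set.range F) ≤ (Ideal.span (Set.range fun i => MvPolynomial.map (algebraMap R R') (F i))).comap
      (MvPolynomial.map (algebraMap R R')) := Ideal.span_le.2 (by
    rintro _ ⟨i, rfl⟩
    exact Ideal.subset_span ⟨i, rfl⟩)

/-- Fibre dimensions of presented algebras are stable under base change. -/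
theorem mem_fibreDimLE_map (F : Fin c → MvPolynomial (Fin n) R) (d : ℕ)
    (z : PrimeSpectrum (Synt.RelGCIRing R' n c fun i => MvPolynomial.map (algebraMap R R') (F i))) :
    z ∈ fibreDimLE R' (Synt.RelGCIRing R' n c fun i => MvPolynomial.map (algebraMap R R') (F i)) d ↔
      PrimeSpectrum.comap (Ideal.quotientMap _ (MvPolynomial.map (algebraMap R R')) (hle_map F)) z ∈
        fibreDimLE R (Synt.RelGCIRing R n c F) d := by
  let F' : Fin c → MvPolynomial (Fin n) R' := fun i => MvPolynomial.map (algebraMap R R') (F i)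
  let S := Synt.RelGCIRing R n c F
  let S' := Synt.RelGCIRing R' n c F'
  let φ := Ideal.Quotient.mkₐ R (Ideal.span (Set.range F))
  haveI : Algebra.FiniteType R S := Algebra.FiniteType.of_surjective φ Ideal.Quotient.mk_surjective
  let ψ := fibrePresOf R' φ
  have hψ : Function.Surjective ψ := fibrePresOf_surjective R' φ Ideal.Quotient.mk_surjective
  have hker : RingHom.ker ψ.toRingHom = Ideal.span (Set.range F') := by
    rw [ker_fibrePresOf R' φ Ideal.Quotient.mk_surjective,
      show RingHom.ker φ.toRingHom = Ideal.span (Set.range F) from Ideal.mk_ker, Ideal.map_span, ← Set.range_comp]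
    rfl
  let e : (R' ⊗[R] S) ≃ₐ[R'] S' :=
    ((Ideal.quotientEquivAlgOfEq R' hker.symm).trans (Ideal.quotientKerAlgEquivOfSurjective hψ)).symm
  have hle : Ideal.span (Set.range F) ≤
      (Ideal.span (Set.range F')).comap (MvPolynomial.map (algebraMap R R')) := Ideal.span_le.2 (by
    rintro _ ⟨i, rfl⟩
    exact Ideal.subset_span ⟨i, rfl⟩)
  letI : Algebra S S' := (Ideal.quotientMap _ (MvPolynomial.map (algebraMap R R')) hle).toAlgebra
  haveI : IsScalarTower R S S' := IsScalarTower.of_algebraMap_eq (R := R) (S := S) (A := S') fun r => by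
    show Ideal.Quotient.mk (Ideal.span (Set.range F')) (MvPolynomial.C (algebraMap R R' r)) =
      Ideal.Quotient.mk (Ideal.span (Set.range F')) (MvPolynomial.map (algebraMap R R') (MvPolynomial.C r))
    rw [MvPolynomial.map_C]
  haveI : Algebra.IsPushout R R' S S' := by
    refine Algebra.IsPushout.of_equiv (h := (inferInstance : Algebra.IsPushout R R' S (R' ⊗[R] S))) e (RingHom.ext fun s => ?_)
    obtain ⟨x, rfl⟩ := Ideal.Quotient.mk_surjective s
    show e ((1 : R') ⊗ₜ[R] φ x) = Ideal.Quotient.mk (Ideal.span (Set.range F')) (MvPolynomial.map (algebraMap R R') x)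
    refine (AlgEquiv.symm_apply_eq _).2 ?_
    exact (fibrePresOf_map φ x).symm
  haveI : Algebra.FiniteType R' S' :=
    Algebra.FiniteType.of_surjective (Ideal.Quotient.mkₐ R' _) Ideal.Quotient.mk_surjective
  show FlatMor.fibreDimAt (Spec.map (CommRingCat.ofHom (algebraMap R' S'))) z ≤ _ ↔ _
  rw [fibreDimAt_baseChange (R := R) (S := S) z]
  exact Iff.rfl

/-- Descent of a relative complete intersection along a map of bases. -/
theorem isRelGCI_of_cofinal (hcn : c ≤ n) (F : Fin c → MvPolynomial (Fin n) R) (K : Ideal (MvPolynomial (Fin n) R))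
    (hKW : ∀ z : PrimeSpectrum (Synt.RelGCIRing R n c F),
      ¬ K.map (Ideal.Quotient.mk (Ideal.span (Set.range F))) ≤ z.asIdeal → z ∈ fibreDimLE R (Synt.RelGCIRing R n c F) (n - c))
    (hK : (1 : MvPolynomial (Fin n) R') ∈ Ideal.span (Set.range fun i => MvPolynomial.map (algebraMap R R') (F i)) ⊔
      K.map (MvPolynomial.map (algebraMap R R'))) :
    Synt.IsRelGCI R' n c fun i => MvPolynomial.map (algebraMap R R') (F i) := by
  let F' : Fin c → MvPolynomial (Fin n) R' := fun i => MvPolynomial.map (algebraMap R R') (F i)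
  let S := Synt.RelGCIRing R n c F
  let S' := Synt.RelGCIRing R' n c F'
  haveI : Algebra.FiniteType R' S' :=
    Algebra.FiniteType.of_surjective (Ideal.Quotient.mkₐ R' _) Ideal.Quotient.mk_surjective
  have hW : ∀ z : PrimeSpectrum S', Ideal.Quotient.mk (Ideal.span (Set.range F')) 1 ∉ z.asIdeal →
      z ∈ fibreDimLE R' S' (n - c) := by
    intro z _
    refine (mem_fibreDimLE_map F (n - c) z).2 (hKW _ fun hle' => z.2.ne_top ((Ideal.eq_top_iff_one _).2 (by
      have h1 := Ideal.mem_map_of_mem (Ideal.Quotient.mk (Ideal.span (Set.range F'))) hK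
      rw [map_one, Ideal.map_sup, Ideal.map_quotient_self, bot_sup_eq] at h1
      refine (?_ : (K.map (MvPolynomial.map (algebraMap R R'))).map (Ideal.Quotient.mk _) ≤ z.asIdeal) h1
      rw [Ideal.map_le_iff_le_comap, Ideal.map_le_iff_le_comap]
      intro k hk
      exact hle' (Ideal.mem_map_of_mem _ hk))))
  have hsnoc := isRelGCI_snoc hcn F' 1 hW
  let e' : S' ≃ₐ[R'] Synt.RelGCIRing R' (n + 1) (c + 1) (snocPres F' 1) :=
    ((IsLocalization.atUnits S' (Submonoid.powers (Ideal.Quotient.mk (Ideal.span (Set.range F')) 1)) (by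
      rintro _ ⟨k, rfl⟩; show IsUnit _; simp) :
        S' ≃ₐ[S'] Localization.Away (Ideal.Quotient.mk (Ideal.span (Set.range F')) 1)).restrictScalars R').trans (snocEquiv F' 1)
  intro p hp
  let ef : p.asIdeal.Fiber S' ≃ₐ[p.asIdeal.ResidueField] p.asIdeal.Fiber (Synt.RelGCIRing R' (n + 1) (c + 1) (snocPres F' 1)) :=
    Algebra.TensorProduct.congr AlgEquiv.refl e'
  haveI := hp
  haveI : Nontrivial (p.asIdeal.Fiber (Synt.RelGCIRing R' (n + 1) (c + 1) (snocPres F' 1))) := ef.symm.toEquiv.nontrivial
  obtain ⟨-, hd⟩ := hsnoc p inferInstance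
  refine ⟨hcn, ?_⟩
  rw [show n - c = n + 1 - (c + 1) by omega, ← hd]
  exact ringKrullDim_eq_of_ringEquiv (RingEquiv.ofBijective ef.toAlgHom.toRingHom ef.bijective)

end Groth.Agent.SyntLib
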