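import Groth.Agent.SyntLib.Cotangent

/-!
# The localised conormal module of a syntomic quotient is finite projective
-/

set_option autoImplicit false
set_option linter.style.haveILetI false
universe u
open Matrix RingTheory.Sequence MvPolynomial

namespace Groth.Agent.SyntLib

theorem cotangent_away_finite_projective {R : Type u} [CommRing R] {n : ℕ} (I : Ideal (MvPolynomial (Fin n) R))
    (hI : I.FG) (g : MvPolynomial (Fin n) R ⧸ I) (hg : Synt.IsSyntomic R (Localization.Away g)) :
    Module.Finite (Localization.Away g) (LocalizedModule (Submonoid.powers g) I.Cotangent) ∧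
      Module.Projective (Localization.Away g) (LocalizedModule (Submonoid.powers g) I.Cotangent) := by
  classical
  obtain ⟨h, rfl⟩ := Ideal.Quotient.mk_surjective g
  haveI := hg.1
  haveI := hg.2.1
  let P := MvPolynomial (Fin n) R
  let S := P ⧸ I
  let gb : S := Ideal.Quotient.mk I h
  let Sg := Localization.Away gb
  let M' := LocalizedModule (Submonoid.powers gb) I.Cotangent
  obtain ⟨m, G, hG⟩ := Submodule.fg_iff_exists_fin_generating_family.1 hI
  have hIG : I = Ideal.span (Set.range G) := hG.symm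
  have hGI : ∀ i, G i ∈ I := fun i => hIG ▸ Ideal.subset_span (Set.mem_range_self i)
  let T := Localization.Away h
  haveI : Algebra.FinitePresentation P T := IsLocalization.Away.finitePresentation h
  haveI : Algebra.FinitePresentation R T := Algebra.FinitePresentation.trans R P T
  have hM : Submonoid.map (Ideal.Quotient.mk I) (Submonoid.powers h) = Submonoid.powers gb := Submonoid.map_powers _ h
  let ψ₀ : T →+* Sg := IsLocalization.map (M := Submonoid.powers h) (S := T) (T := Submonoid.powers gb) Sg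
    (Ideal.Quotient.mk I) (hM ▸ Submonoid.le_comap_map _)
  have hψ₀ : ∀ x, ψ₀ (algebraMap P T x) = algebraMap S Sg (Ideal.Quotient.mk I x) := fun x =>
    IsLocalization.map_eq _ x
  let ψ : T →ₐ[R] Sg :=
    { ψ₀ with
      commutes' := fun r => by
        show ψ₀ (algebraMap R T r) = _
        rw [IsScalarTower.algebraMap_apply R P T, hψ₀, IsScalarTower.algebraMap_apply R S Sg]
        rfl }
  have hψs : Function.Surjective ψ := fun y => by
    obtain ⟨b, ⟨_, k, rfl⟩, rfl⟩ := IsLocalization.exists_mk'_eq (Submonoid.powers gb) y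
    obtain ⟨a, rfl⟩ := Ideal.Quotient.mk_surjective b
    refine ⟨IsLocalization.mk' T a (⟨h ^ k, k, rfl⟩ : Submonoid.powers h), ?_⟩
    show ψ₀ _ = _
    rw [IsLocalization.map_mk']
    congr 1
  have hψker : RingHom.ker ψ.toRingHom = Ideal.span (Set.range (algebraMap P T ∘ G)) := by
    rw [Set.range_comp, ← Ideal.map_span, ← hIG]
    refine (IsLocalization.ker_map (S := T) Sg (Ideal.Quotient.mk I) hM).trans ?_
    rw [Ideal.mk_ker]
  obtain ⟨r, z', hz', hz'span⟩ := exists_syz_gens ψ hψs (algebraMap P T ∘ G) hψker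
  have hlift : ∀ j, ∃ z : Fin m → P, (∑ l, z l * G l = 0) ∧
      ∃ u : T, IsUnit u ∧ ∀ l, algebraMap P T (z l) = u * z' j l := by
    intro j
    obtain ⟨b, hb⟩ := IsLocalization.exist_integer_multiples_of_finite (Submonoid.powers h) (z' j)
    choose a ha using hb
    have ha' : ∀ l, algebraMap P T (a l) = algebraMap P T b * z' j l := fun l => (ha l).trans (Algebra.smul_def _ _)
    have h0 : algebraMap P T (∑ l, a l * G l) = 0 := by
      simp only [map_sum, map_mul, ha', mul_assoc, ← Finset.mul_sum]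
      rw [show (∑ l, z' j l * algebraMap P T (G l)) = 0 from hz' j, mul_zero]
    obtain ⟨s, hs⟩ := (IsLocalization.map_eq_zero_iff (Submonoid.powers h) T _).1 h0
    refine ⟨fun l => s * a l, by simp only [mul_assoc, ← Finset.mul_sum]; exact hs,
      algebraMap P T (s * b : Submonoid.powers h), IsLocalization.map_units T (s * b), fun l => ?_⟩
    rw [map_mul, ha', Submonoid.coe_mul, map_mul, mul_assoc]
  choose z hz u hu hzu using hlift
  have hker0 : RingHom.ker (Ideal.Quotient.mkₐ R I).toRingHom = I := Ideal.mk_ker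
  obtain ⟨N, E, hE, hEz⟩ := exists_proj_matrix I G hIG z hz h fun q hq hIq hhq => by
    have := exists_indep_nhd (Ideal.Quotient.mkₐ R I) Ideal.Quotient.mk_surjective (hker0.symm ▸ hI) gb hg q
      (hker0.le.trans hIq) fun hmem => hhq (by
        obtain ⟨w, hw, hwe⟩ := (Ideal.mem_map_iff_of_surjective _ Ideal.Quotient.mk_surjective).1 hmem
        rw [← sub_sub_cancel w h]
        exact q.sub_mem hw (hIq (Ideal.Quotient.eq.1 hwe)))
    rw [hker0] at this
    exact this
  let ι : S →+* Sg := algebraMap S Sg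
  have hsyz : ∀ s : Fin m → P, ∑ l, s l * G l = 0 → ∀ k, algebraMap P T (Matrix.vecMul s E k) ∈ I.map (algebraMap P T) := by
    intro s hs k
    have hmem := hz'span (fun l => algebraMap P T (s l)) (by
      simp only [Function.comp_apply, ← map_mul, ← map_sum, hs, map_zero])
    have hall : ∀ v ∈ Submodule.span T (Set.range z'), ∀ k, Matrix.vecMul v (E.map (algebraMap P T)) k ∈ I.map (algebraMap P T) := by
      intro v hv
      induction hv using Submodule.span_induction with
      | mem v hv =>
        obtain ⟨j, rfl⟩ := hv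
        intro k
        refine (Ideal.unit_mul_mem_iff_mem _ (hu j)).1 ?_
        have h1 := Ideal.mem_map_of_mem (algebraMap P T) (hEz j k)
        simp only [Matrix.vecMul, dotProduct, map_sum, map_mul, hzu, mul_assoc] at h1
        simpa [Matrix.vecMul, dotProduct, Finset.mul_sum] using h1
      | zero => intro k; simp
      | add x y _ _ hx hy =>
        intro k
        rw [add_vecMul, Pi.add_apply]
        exact add_mem (hx k) (hy k)
      | smul t x _ hx =>
        intro k
        rw [smul_vecMul, Pi.smul_apply, smul_eq_mul]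
        exact Ideal.mul_mem_left _ t (hx k)
    have := hall _ hmem k
    simpa [Matrix.vecMul, dotProduct, map_sum, map_mul] using this
  have hι0 : ∀ x, algebraMap P T x ∈ I.map (algebraMap P T) → ι (Ideal.Quotient.mk I x) = 0 := by
    intro x hx
    show algebraMap S Sg (Ideal.Quotient.mk I x) = 0
    rw [← hψ₀]
    rw [hIG, Ideal.map_span, ← Set.range_comp, ← hψker] at hx
    exact hx
  -- the section
  let v : Fin m → I.Cotangent := fun l => I.toCotangent ⟨G l, hGI l⟩
  let p₀ : (Fin m → S) →ₗ[S] I.Cotangent := Fintype.linearCombination S v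
  have hp₀ : ∀ c : Fin m → P, p₀ (fun l => Ideal.Quotient.mk I (c l)) =
      I.toCotangent ⟨∑ l, c l * G l, Ideal.sum_mem _ fun l _ => Ideal.mul_mem_left _ _ (hGI l)⟩ := by
    intro c
    have : (⟨∑ l, c l * G l, Ideal.sum_mem _ fun l _ => Ideal.mul_mem_left _ _ (hGI l)⟩ : I) =
        ∑ l, c l • (⟨G l, hGI l⟩ : I) := Subtype.ext (by simp)
    rw [this, map_sum]
    simp only [p₀, Fintype.linearCombination_apply]
    exact Finset.sum_congr rfl fun l _ => by rw [map_smul, ← Ideal.Quotient.algebraMap_eq, algebraMap_smul]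
  have hp₀s : Function.Surjective p₀ := fun y => by
    obtain ⟨⟨x, hx⟩, rfl⟩ := Ideal.toCotangent_surjective I y
    obtain ⟨c, rfl⟩ := Ideal.mem_span_range_iff_exists_fun.1 (hIG ▸ hx)
    exact ⟨_, hp₀ c⟩
  let Eb : Matrix (Fin m) (Fin m) Sg := E.map (ι.comp (Ideal.Quotient.mk I))
  let χ : (Fin m → S) →ₗ[S] (Fin m → Sg) :=
    (Matrix.vecMulLinear Eb).restrictScalars S ∘ₗ LinearMap.pi fun l => (Algebra.linearMap S Sg) ∘ₗ LinearMap.proj l
  have hχ : ∀ (c : Fin m → P) k, χ (fun l => Ideal.Quotient.mk I (c l)) k = ι (Ideal.Quotient.mk I (Matrix.vecMul c E k)) := by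
    intro c k
    simp [χ, Eb, ι, Matrix.vecMul, dotProduct, map_sum, map_mul]
  have hχker : LinearMap.ker p₀ ≤ LinearMap.ker χ := by
    intro a ha
    choose c hc using fun l => Ideal.Quotient.mk_surjective (a l)
    obtain rfl : (fun l => Ideal.Quotient.mk I (c l)) = a := funext hc
    rw [LinearMap.mem_ker, hp₀, Ideal.toCotangent_eq_zero] at ha
    obtain ⟨b, hb, hcb⟩ := exists_coeff_of_mem_sq G (show (∑ l, c l * G l) ∈ Ideal.span (Set.range G) ^ 2 from hIG ▸ ha)
    refine LinearMap.mem_ker.2 (funext fun k => ?_)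
    rw [hχ]
    refine hι0 _ ?_
    have h1 := hsyz (c - b) (by simp only [Pi.sub_apply, sub_mul, Finset.sum_sub_distrib, ← hcb, sub_self]) k
    have h2 : Matrix.vecMul b E k ∈ I := by
      show ∑ l, b l * E l k ∈ I
      exact Ideal.sum_mem _ fun l _ => I.mul_mem_right _ (hIG ▸ hb l)
    have h3 := add_mem h1 (Ideal.mem_map_of_mem (algebraMap P T) h2)
    rwa [← map_add, sub_vecMul, Pi.sub_apply, sub_add_cancel] at h3
  let σ : I.Cotangent →ₗ[S] (Fin m → Sg) :=
    (Submodule.liftQ _ χ hχker) ∘ₗ (p₀.quotKerEquivOfSurjective hp₀s).symm.toLinearMap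
  have hσ : ∀ a, σ (p₀ a) = χ a := fun a => by
    show Submodule.liftQ _ χ hχker ((p₀.quotKerEquivOfSurjective hp₀s).symm (p₀ a)) = χ a
    rw [show (p₀.quotKerEquivOfSurjective hp₀s).symm (p₀ a) = Submodule.Quotient.mk a from
      (p₀.quotKerEquivOfSurjective hp₀s).symm_apply_eq.2 rfl, Submodule.liftQ_apply]
  let mkM : I.Cotangent →ₗ[S] M' := LocalizedModule.mkLinearMap _ _
  have hunits : ∀ x : Submonoid.powers gb, IsUnit (algebraMap S (Module.End S (Fin m → Sg)) x) := fun x => by
    have hx := (IsLocalization.map_units Sg x).map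
      (Algebra.lsmul S S (Fin m → Sg) : Sg →ₐ[S] Module.End S (Fin m → Sg))
    rwa [AlgHom.commutes] at hx
  let σ' : M' →ₗ[Sg] (Fin m → Sg) := (IsLocalizedModule.lift (Submonoid.powers gb) mkM σ hunits).extendScalarsOfIsLocalization (Submonoid.powers gb) Sg
  let p : (Fin m → Sg) →ₗ[Sg] M' := Fintype.linearCombination Sg (fun l => mkM (v l))
  have hpσ : ∀ x, p (σ' x) = algebraMap S Sg (gb ^ N) • x := by
    have hlin : p.restrictScalars S ∘ₗ σ'.restrictScalars S = gb ^ N • (LinearMap.id : M' →ₗ[S] M') := by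
      refine IsLocalizedModule.linearMap_ext (Submonoid.powers gb) mkM mkM (LinearMap.ext fun y => ?_)
      obtain ⟨a, rfl⟩ := hp₀s y
      choose c hc using fun l => Ideal.Quotient.mk_surjective (a l)
      obtain rfl : (fun l => Ideal.Quotient.mk I (c l)) = a := funext hc
      show p (σ' (mkM (p₀ _))) = gb ^ N • mkM (p₀ _)
      rw [show σ' (mkM (p₀ fun l => Ideal.Quotient.mk I (c l))) = σ (p₀ fun l => Ideal.Quotient.mk I (c l)) from
        IsLocalizedModule.lift_apply (Submonoid.powers gb) mkM σ hunits _, hσ]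
      have h1 : p (χ fun l => Ideal.Quotient.mk I (c l)) =
          mkM (p₀ fun l => Ideal.Quotient.mk I (Matrix.vecMul c E l)) := by
        simp only [p, p₀, Fintype.linearCombination_apply, map_sum, map_smul, hχ, ι, algebraMap_smul]
      rw [h1, ← map_smul, hp₀, hp₀]
      congr 1
      rw [show gb ^ N = Ideal.Quotient.mk I (h ^ N) from (map_pow _ _ _).symm,
        show Ideal.Quotient.mk I (h ^ N) • I.toCotangent ⟨_, _⟩ = h ^ N • I.toCotangent ⟨_, _⟩ from
          algebraMap_smul (R := P) S (h ^ N) _, ← map_smul, Ideal.toCotangent_eq]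
      show (∑ l, Matrix.vecMul c E l * G l) - h ^ N * ∑ l, c l * G l ∈ I ^ 2
      have h2 : ∑ l, Matrix.vecMul c E l * G l = ∑ i, c i * E.mulVec G i := by
        show Matrix.vecMul c E ⬝ᵥ G = c ⬝ᵥ E.mulVec G
        exact (Matrix.dotProduct_mulVec c E G).symm
      rw [h2, Finset.mul_sum, ← Finset.sum_sub_distrib]
      refine Ideal.sum_mem _ fun i _ => ?_
      rw [show c i * E.mulVec G i - h ^ N * (c i * G i) = -(c i * (h ^ N * G i - E.mulVec G i)) by ring]
      exact neg_mem (Ideal.mul_mem_left _ _ (hE i))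
    intro x
    rw [algebraMap_smul]
    exact LinearMap.congr_fun hlin x
  have hu : IsUnit (algebraMap S Sg (gb ^ N)) := IsLocalization.map_units Sg (⟨gb ^ N, N, rfl⟩ : Submonoid.powers gb)
  let i : M' →ₗ[Sg] (Fin m → Sg) := (↑hu.unit⁻¹ : Sg) • σ'
  have hpi : p ∘ₗ i = LinearMap.id := LinearMap.ext fun x => by
    show p ((↑hu.unit⁻¹ : Sg) • σ' x) = x
    rw [map_smul, hpσ, smul_smul, IsUnit.val_inv_mul, one_smul]
  exact ⟨Module.Finite.of_surjective p fun x => ⟨i x, LinearMap.congr_fun hpi x⟩, Module.Projective.of_split i p hpi⟩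

end Groth.Agent.SyntLib
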