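import Groth.Agent.SyntLib.Mor

/-!
# Standard syntomic neighbourhoods
-/

set_option autoImplicit false
set_option linter.style.haveILetI false
universe u

open IsLocalRing CategoryTheory AlgebraicGeometry Limits

namespace Groth.Agent.SyntLib

theorem synMor_resLE_iff {X S : Scheme.{u}} (f : X ⟶ S) (V : S.affineOpens) (U : X.affineOpens) (e : U.1 ≤ f ⁻¹ᵁ V.1) :
    SynMor (f.resLE V.1 U.1 e) ↔ Syn (f.appLE V.1 U.1 e).hom := by
  haveI : IsAffine (U.1 : Scheme.{u}) := U.2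
  haveI : IsAffine (V.1 : Scheme.{u}) := V.2
  rw [HasRingHomProperty.iff_of_isAffine (P := SynMor.{u})]
  exact syn_respectsIso.arrow_mk_iso_iff (arrowResLEAppIso f V.1 U.1 e)

/-- A syntomic chart gives syntomic maps on the smaller affine opens, over any affine open of the base. -/
theorem syn_appLE_of_le {X S : Scheme.{u}} (f : X ⟶ S) (U₀ : X.affineOpens) (V₀ : S.affineOpens)
    (e₀ : U₀.1 ≤ f ⁻¹ᵁ V₀.1) (h : Syn (f.appLE V₀.1 U₀.1 e₀).hom) (U : X.affineOpens) (V : S.affineOpens)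
    (hU : U.1 ≤ U₀.1) (e : U.1 ≤ f ⁻¹ᵁ V.1) : Syn (f.appLE V.1 U.1 e).hom := by
  let i := U₀.1.ι
  have key : ∀ (V' : S.Opens) (W : (U₀.1 : Scheme.{u}).Opens) (e' : W ≤ (i ≫ f) ⁻¹ᵁ V'),
      ∃ e'' : i ''ᵁ W ≤ f ⁻¹ᵁ V', (i ≫ f).appLE V' W e' = f.appLE V' (i ''ᵁ W) e'' := by
    intro V' W e'
    refine ⟨Set.image_subset_iff.mpr e', ?_⟩
    rw [Scheme.Hom.comp_appLE, f.app_eq_appLE, Scheme.Opens.ι_appLE]
    exact Scheme.Hom.appLE_map f _ _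
  have hh : SynMor (i ≫ f) := by
    rw [← isSyntomicMor_iff]
    intro y
    haveI : IsAffine (U₀.1 : Scheme.{u}) := U₀.2
    have e' : (⊤ : (U₀.1 : Scheme.{u}).Opens) ≤ (i ≫ f) ⁻¹ᵁ V₀.1 := fun z _ => e₀ z.2
    refine ⟨⟨⊤, isAffineOpen_top _⟩, V₀, e', trivial, ?_⟩
    show Syn ((i ≫ f).appLE V₀.1 ⊤ e').hom
    obtain ⟨e'', he⟩ := key V₀.1 ⊤ e'
    rw [he]
    have hgen : ∀ (O : X.Opens) (eO : O ≤ f ⁻¹ᵁ V₀.1), O = U₀.1 → Syn (f.appLE V₀.1 O eO).hom := by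
      intro O eO hO
      subst hO
      exact h
    exact hgen _ _ (by simp [i])
  have hW : IsAffineOpen (i ⁻¹ᵁ U.1) := U.2.preimage_of_isOpenImmersion i (by simpa [i] using hU)
  have hy : i ⁻¹ᵁ U.1 ≤ (i ≫ f) ⁻¹ᵁ V.1 := fun z hz => e hz
  have h1 := HasRingHomProperty.appLE SynMor.{u} (i ≫ f) hh V ⟨_, hW⟩ hy
  obtain ⟨e'', he⟩ := key V.1 (i ⁻¹ᵁ U.1) hy
  rw [he] at h1
  have hgen : ∀ (O : X.Opens) (eO : O ≤ f ⁻¹ᵁ V.1), O = U.1 → Syn (f.appLE V.1 O eO).hom →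
      Syn (f.appLE V.1 U.1 e).hom := by
    intro O eO hO hs
    subst hO
    exact hs
  exact hgen _ _ (by rw [Scheme.Hom.image_preimage_eq_opensRange_inf, Scheme.Opens.opensRange_ι, inf_eq_right.mpr hU]) h1

/-- Standard syntomic charts are syntomic. -/
theorem syn_of_standard {X S : Scheme.{u}} (f : X ⟶ S) (V : S.affineOpens) (U : X.affineOpens) (e : U.1 ≤ f ⁻¹ᵁ V.1)
    (h : Synt.IsStandardSyntomic (f.resLE V.1 U.1 e)) : Syn (f.appLE V.1 U.1 e).hom := by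
  obtain ⟨R, i1, n, c, F, hF, e₁, e₂, hcomm⟩ := h
  rw [← synMor_resLE_iff]
  have h1 : SynMor (Spec.map (CommRingCat.ofHom (algebraMap R (Synt.RelGCIRing R n c F)))) :=
    HasRingHomProperty.Spec_iff.mpr (syn_algebraMap.mpr (isSyntomic_relGCI hF))
  exact ((SynMor.{u}).arrow_mk_iso_iff (Arrow.isoMk e₁ e₂ hcomm)).mpr h1

/-- Syntomic charts contain standard syntomic ones. -/
theorem exists_standard_chart {X S : Scheme.{u}} (f : X ⟶ S) (V : S.affineOpens) (U : X.affineOpens)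
    (e : U.1 ≤ f ⁻¹ᵁ V.1) (h : Syn (f.appLE V.1 U.1 e).hom) (x : X) (hx : x ∈ U.1) :
    ∃ (U' : X.affineOpens) (e' : U'.1 ≤ f ⁻¹ᵁ V.1), x ∈ U'.1 ∧ Synt.IsStandardSyntomic (f.resLE V.1 U'.1 e') := by
  generalize hφ : f.appLE V.1 U.1 e = φ at h
  letI := φ.hom.toAlgebra
  obtain ⟨g, hg, n, c, F, hF, ⟨ψ⟩⟩ := exists_relGCI_of_isSyntomic (R := Γ(S, V.1)) (S := Γ(X, U.1)) h
    (U.2.primeIdealOf ⟨x, hx⟩).asIdeal
  have hxg : x ∈ X.basicOpen g := by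
    have h2 : U.2.primeIdealOf ⟨x, hx⟩ ∈ U.2.fromSpec ⁻¹ᵁ X.basicOpen g := by
      rw [U.2.fromSpec_preimage_basicOpen g]
      exact hg
    have h3 : U.2.fromSpec (U.2.primeIdealOf ⟨x, hx⟩) ∈ X.basicOpen g := h2
    rwa [U.2.fromSpec_primeIdealOf ⟨x, hx⟩] at h3
  let U' : X.affineOpens := ⟨X.basicOpen g, U.2.basicOpen g⟩
  have hle : X.basicOpen g ≤ U.1 := X.basicOpen_le g
  have e' : U'.1 ≤ f ⁻¹ᵁ V.1 := hle.trans e
  refine ⟨U', e', hxg, ?_⟩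
  letI := (X.presheaf.map (homOfLE hle).op).hom.toAlgebra
  haveI : IsLocalization.Away g Γ(X, X.basicOpen g) := U.2.isLocalization_basicOpen g
  let ω : Localization.Away g ≃+* Γ(X, X.basicOpen g) :=
    (IsLocalization.algEquiv (Submonoid.powers g) (Localization.Away g) Γ(X, X.basicOpen g)).toRingEquiv
  let ρ : Γ(X, X.basicOpen g) ≃+* Synt.RelGCIRing Γ(S, V.1) n c F := ω.symm.trans ψ.toRingEquiv
  have hρ : f.appLE V.1 U'.1 e' ≫ ρ.toCommRingCatIso.hom =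
      CommRingCat.ofHom (algebraMap Γ(S, V.1) (Synt.RelGCIRing Γ(S, V.1) n c F)) := by
    rw [← Scheme.Hom.appLE_map f e (homOfLE hle).op, hφ]
    ext a
    show ψ (ω.symm (algebraMap Γ(X, U.1) Γ(X, X.basicOpen g) (φ.hom a))) = algebraMap _ _ a
    rw [show ω.symm (algebraMap Γ(X, U.1) Γ(X, X.basicOpen g) (φ.hom a)) =
      algebraMap Γ(X, U.1) (Localization.Away g) (φ.hom a) from
        (IsLocalization.algEquiv (Submonoid.powers g) (Localization.Away g) Γ(X, X.basicOpen g)).symm.commutes (φ.hom a)]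
    refine Eq.trans (congrArg ψ ?_) (ψ.commutes a)
    exact (IsScalarTower.algebraMap_apply Γ(S, V.1) Γ(X, U.1) (Localization.Away g) a).symm
  refine ⟨Γ(S, V.1), inferInstance, n, c, F, hF, U'.2.isoSpec ≪≫ (Scheme.Spec.mapIso ρ.toCommRingCatIso.op).symm,
    V.2.isoSpec, ?_⟩
  rw [← hρ, Spec.map_comp, Iso.trans_hom, Iso.symm_hom, Functor.mapIso_inv, Iso.op_inv, Category.assoc]
  have hinv : Scheme.Spec.map ρ.toCommRingCatIso.inv.op ≫ Spec.map ρ.toCommRingCatIso.hom = 𝟙 _ := by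
    show Spec.map _ ≫ Spec.map _ = _
    rw [← Spec.map_comp, Quiver.Hom.unop_op, Iso.hom_inv_id, Spec.map_id]
    rfl
  rw [reassoc_of% hinv, ← cancel_mono V.2.fromSpec, Category.assoc, Category.assoc,
    IsAffineOpen.SpecMap_appLE_fromSpec f V.2 U'.2 e', IsAffineOpen.isoSpec_hom_fromSpec_assoc,
    IsAffineOpen.isoSpec_hom_fromSpec, Scheme.Hom.resLE_comp_ι]

end Groth.Agent.SyntLib
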