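import Groth.Agent.SyntLib.SmoothColimit

/-!
# Tensor products and stages of a directed system
-/

set_option autoImplicit false
set_option linter.style.haveILetI false
universe u

open scoped TensorProduct

noncomputable section

namespace Groth.Agent.SyntLib

/-- Base change of a directed system of algebras gives a system of stages. -/
theorem isStageSystem_baseChange {ι : Type u} [Preorder ι] [IsDirected ι (· ≤ ·)]
    (A₀ : Type u) [CommRing A₀] (G : ι → Type u) [∀ i, CommRing (G i)] [∀ i, Algebra A₀ (G i)]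
    (f : ∀ i j, i ≤ j → (G i →ₐ[A₀] G j)) (A : Type u) [CommRing A] [Algebra A₀ A]
    (g : ∀ i, G i →ₐ[A₀] A) (hg : ∀ i j (h : i ≤ j), (g j).comp (f i j h) = g i)
    (hsurj : ∀ a : A, ∃ i, ∃ x : G i, g i x = a)
    (hker : ∀ i (x : G i), g i x = 0 → ∃ j, ∃ h : i ≤ j, f i j h x = 0)
    (B₀ : Type u) [CommRing B₀] [Algebra A₀ B₀] :
    IsStageSystem (fun i => B₀ ⊗[A₀] G i) (fun i => Algebra.TensorProduct.map (AlgHom.id B₀ B₀) (g i)) := by
  classical
  let π : ∀ i, B₀ ⊗[A₀] G i →ₐ[B₀] B₀ ⊗[A₀] A := fun i => Algebra.TensorProduct.map (AlgHom.id B₀ B₀) (g i)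
  have hg' : ∀ i j (hij : i ≤ j) x, g j (f i j hij x) = g i x := fun i j hij x => AlgHom.congr_fun (hg i j hij) x
  have liftA : ∀ (s : Finset A) (i : ι), ∃ j, i ≤ j ∧ ∀ a ∈ s, ∃ y, g j y = a := by
    intro s
    induction s using Finset.induction_on with
    | empty => exact fun i => ⟨i, le_rfl, by simp⟩
    | @insert a s _ ih =>
      intro i
      obtain ⟨j, hij, hj⟩ := ih i
      obtain ⟨l, x, hx⟩ := hsurj a
      obtain ⟨k, hjk, hlk⟩ := directed_of (· ≤ ·) j l
      refine ⟨k, hij.trans hjk, fun a' ha' => ?_⟩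
      rcases Finset.mem_insert.1 ha' with rfl | ha'
      · exact ⟨f l k hlk x, (hg' l k hlk x).trans hx⟩
      · obtain ⟨y, hy⟩ := hj a' ha'
        exact ⟨f j k hjk y, (hg' j k hjk y).trans hy⟩
  have killA : ∀ (m : ℕ) (i : ι) (x : Fin m → G i), (∀ t, g i (x t) = 0) →
      ∃ (j : ι) (χ : G i →ₐ[A₀] G j), (g j).comp χ = g i ∧ ∀ t, χ (x t) = 0 := by
    intro m
    induction m with
    | zero => exact fun i _ _ => ⟨i, AlgHom.id A₀ (G i), AlgHom.comp_id _, fun t => t.elim0⟩
    | succ m ih =>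
      intro i x hx
      obtain ⟨j, χ, hχ, hj⟩ := ih i (fun t => x t.castSucc) fun t => hx _
      obtain ⟨k, hjk, hk⟩ := hker j (χ (x (Fin.last m))) (by
        rw [← AlgHom.comp_apply, hχ]; exact hx _)
      refine ⟨k, (f j k hjk).comp χ, by rw [← AlgHom.comp_assoc, hg, hχ], fun t => ?_⟩
      induction t using Fin.lastCases with
      | last => exact hk
      | cast t => rw [AlgHom.comp_apply, hj, map_zero]
  have kill1 : ∀ (i : ι) (t : B₀ ⊗[A₀] G i), π i t = 0 → ∃ (j : ι) (χ : G i →ₐ[A₀] G j), (g j).comp χ = g i ∧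
      Algebra.TensorProduct.map (AlgHom.id B₀ B₀) χ t = 0 := by
    intro i t ht
    obtain ⟨S, rfl⟩ := TensorProduct.exists_finset t
    let ev : (A →₀ A₀) →ₗ[A₀] A := Finsupp.linearCombination A₀ id
    have hev : Function.Surjective ev := fun a => ⟨Finsupp.single a 1, by simp [ev]⟩
    have hexact : Function.Exact (LinearMap.ker ev).subtype ev := LinearMap.exact_subtype_ker_map ev
    have hex := lTensor_exact (R := A₀) (M := (LinearMap.ker ev : Submodule A₀ (A →₀ A₀))) (N := A →₀ A₀) (P := A) (f := (LinearMap.ker ev).subtype) (g := ev) B₀ hexact hev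
    let T : B₀ ⊗[A₀] (A →₀ A₀) := ∑ p ∈ S, p.1 ⊗ₜ Finsupp.single (g i p.2) 1
    have hT : ev.lTensor B₀ T = 0 := by
      rw [← ht]
      simp [T, π, ev, map_sum]
    obtain ⟨u, hu⟩ := (hex T).1 hT
    obtain ⟨U, rfl⟩ := TensorProduct.exists_finset u
    obtain ⟨j, hij, hj⟩ := liftA (S.image (fun p => g i p.2) ∪ U.biUnion fun p => p.2.1.support) i
    let σ : A → G j := fun a => if ha : ∃ y, g j y = a then ha.choose else 0
    have hσ : ∀ a, (∃ y, g j y = a) → g j (σ a) = a := fun a ha => by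
      simp only [σ, dif_pos ha]
      exact ha.choose_spec
    let Φ : (A →₀ A₀) →ₗ[A₀] G j := Finsupp.linearCombination A₀ σ
    let e₁ := S.equivFin.symm
    let e₂ := U.equivFin.symm
    obtain ⟨k, χ, hχ, hk⟩ := killA (S.card + U.card) j
      (Fin.append (fun t => f i j hij (e₁ t).1.2 - σ (g i (e₁ t).1.2)) fun t => Φ (e₂ t).1.2.1) (fun t => by
        refine Fin.addCases (fun t => ?_) (fun t => ?_) t
        · rw [Fin.append_left, map_sub, hg', hσ _ (hj _ (Finset.mem_union_left _ (Finset.mem_image_of_mem _ (e₁ t).2))),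
            sub_self]
        · rw [Fin.append_right]
          have h0 : ev (e₂ t).1.2.1 = 0 := (e₂ t).1.2.2
          rw [← h0]
          simp only [Φ, ev, Finsupp.linearCombination_apply, Finsupp.sum, map_sum, map_smul]
          refine Finset.sum_congr rfl fun a ha => ?_
          rw [hσ a (hj a (Finset.mem_union_right _ (Finset.mem_biUnion.2 ⟨_, (e₂ t).2, ha⟩)))]
          rfl)
    refine ⟨k, χ.comp (f i j hij), by rw [← AlgHom.comp_assoc, hχ, hg], ?_⟩
    have h1 : Algebra.TensorProduct.map (AlgHom.id B₀ B₀) (χ.comp (f i j hij)) (∑ p ∈ S, p.1 ⊗ₜ[A₀] p.2) =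
        (χ.toLinearMap ∘ₗ Φ).lTensor B₀ T := by
      simp only [T, map_sum, Algebra.TensorProduct.map_tmul, LinearMap.lTensor_tmul, AlgHom.coe_id, id_eq]
      refine Finset.sum_congr rfl fun p hp => congrArg (p.1 ⊗ₜ[A₀] ·) ?_
      have := hk (Fin.castAdd _ (S.equivFin ⟨p, hp⟩))
      rw [Fin.append_left, map_sub, sub_eq_zero] at this
      simpa [Φ, e₁] using this
    rw [h1, ← hu]
    simp only [map_sum, LinearMap.lTensor_tmul]
    refine Finset.sum_eq_zero fun p hp => ?_
    have := hk (Fin.natAdd _ (U.equivFin ⟨p, hp⟩))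
    rw [Fin.append_right] at this
    simp only [e₂, Equiv.symm_apply_apply] at this
    simp [this]
  have hs : IsStageSystem (fun i => B₀ ⊗[A₀] G i) π := by
    constructor
    · intro i s
      have hx : ∀ (x : B₀ ⊗[A₀] A), ∃ s : Finset A, ∀ j, (∀ a ∈ s, ∃ y, g j y = a) → ∃ y, π j y = x := fun x => by
        obtain ⟨S, rfl⟩ := TensorProduct.exists_finset x
        refine ⟨S.image Prod.snd, fun j hj => ?_⟩
        choose! y hy using hj
        refine ⟨∑ p ∈ S, p.1 ⊗ₜ y p.2, ?_⟩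
        simp only [π, map_sum, Algebra.TensorProduct.map_tmul, AlgHom.coe_id, id_eq]
        exact Finset.sum_congr rfl fun p hp => by rw [hy _ (Finset.mem_image_of_mem _ hp)]
      choose sx hsx using hx
      obtain ⟨j, hij, hj⟩ := liftA (s.biUnion sx) i
      refine ⟨j, Algebra.TensorProduct.map (AlgHom.id B₀ B₀) (f i j hij), ?_, fun x hx' =>
        hsx x j fun a ha => hj a (Finset.mem_biUnion.2 ⟨x, hx', ha⟩)⟩
      rw [← Algebra.TensorProduct.map_comp, AlgHom.id_comp, hg]
    · intro i s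
      have key : ∀ (s : Finset (B₀ ⊗[A₀] G i)), (∀ x ∈ s, π i x = 0) → ∃ (j : ι) (χ : G i →ₐ[A₀] G j),
          (g j).comp χ = g i ∧ ∀ x ∈ s, Algebra.TensorProduct.map (AlgHom.id B₀ B₀) χ x = 0 := by
        intro s
        induction s using Finset.induction_on with
        | empty => exact fun _ => ⟨i, AlgHom.id A₀ (G i), AlgHom.comp_id _, by simp⟩
        | @insert x s _ ih =>
          intro hz
          obtain ⟨j, χ, hχ, hj⟩ := ih fun y hy => hz y (Finset.mem_insert_of_mem hy)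
          obtain ⟨k, η, hη, hk⟩ := kill1 j (Algebra.TensorProduct.map (AlgHom.id B₀ B₀) χ x) (by
            rw [← AlgHom.comp_apply]
            simp only [π]
            rw [← Algebra.TensorProduct.map_comp, AlgHom.id_comp, hχ]
            exact hz x (Finset.mem_insert_self _ _))
          refine ⟨k, η.comp χ, by rw [← AlgHom.comp_assoc, hη, hχ], fun y hy => ?_⟩
          rw [show AlgHom.id B₀ B₀ = (AlgHom.id B₀ B₀).comp (AlgHom.id B₀ B₀) from rfl,
            Algebra.TensorProduct.map_comp, AlgHom.comp_apply]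
          rcases Finset.mem_insert.1 hy with rfl | hy
          · exact hk
          · rw [hj y hy, map_zero]
      intro hz
      obtain ⟨j, χ, hχ, hj⟩ := key s hz
      refine ⟨j, Algebra.TensorProduct.map (AlgHom.id B₀ B₀) χ, ?_, hj⟩
      simp only [π]
      rw [← Algebra.TensorProduct.map_comp, AlgHom.id_comp, hχ]
  exact hs

variable {R₀ : Type u} [CommRing R₀] {ι : Type u} {R : ι → Type u} [∀ i, CommRing (R i)] [∀ i, Algebra R₀ (R i)]
  {R' : Type u} [CommRing R'] [Algebra R₀ R'] {π : ∀ i, R i →ₐ[R₀] R'} {M : Type u} [AddCommGroup M] [Module R₀ M]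

/-- Finitely many tensors lift to a later stage. -/
theorem IsStageSystem.liftTensor (hs : IsStageSystem R π) (i : ι) (s : Finset (R' ⊗[R₀] M)) :
    ∃ (j : ι) (ψ : R i →ₐ[R₀] R j), (π j).comp ψ = π i ∧ ∀ x ∈ s, ∃ y, (π j).toLinearMap.rTensor M y = x := by
  classical
  choose S hS using fun x : R' ⊗[R₀] M => TensorProduct.exists_finset x
  obtain ⟨j, ψ, hψ, hj⟩ := hs.lift i (s.biUnion fun x => (S x).image Prod.fst)
  refine ⟨j, ψ, hψ, fun x hx => ?_⟩
  choose! y hy using hj
  refine ⟨∑ p ∈ S x, y p.1 ⊗ₜ p.2, ?_⟩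
  refine Eq.trans ?_ (hS x).symm
  rw [map_sum]
  exact Finset.sum_congr rfl fun p hp => by
    rw [LinearMap.rTensor_tmul, AlgHom.toLinearMap_apply,
      hy _ (Finset.mem_biUnion.2 ⟨x, hx, Finset.mem_image_of_mem _ hp⟩)]

/-- A tensor that dies in the colimit dies at a later stage. -/
theorem IsStageSystem.killTensor (hs : IsStageSystem R π) (i : ι) (t : R i ⊗[R₀] M)
    (ht : (π i).toLinearMap.rTensor M t = 0) :
    ∃ (j : ι) (ψ : R i →ₐ[R₀] R j), (π j).comp ψ = π i ∧ ψ.toLinearMap.rTensor M t = 0 := by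
  classical
  obtain ⟨S, rfl⟩ := TensorProduct.exists_finset t
  let ev : (R' →₀ R₀) →ₗ[R₀] R' := Finsupp.linearCombination R₀ id
  have hev : Function.Surjective ev := fun a => ⟨Finsupp.single a 1, by simp [ev]⟩
  have hex := rTensor_exact (R := R₀) (M := LinearMap.ker ev) (N := R' →₀ R₀) (P := R')
    (f := (LinearMap.ker ev).subtype) (g := ev) M (LinearMap.exact_subtype_ker_map ev) hev
  let T : (R' →₀ R₀) ⊗[R₀] M := ∑ p ∈ S, Finsupp.single (π i p.1) 1 ⊗ₜ p.2
  have hT : ev.rTensor M T = 0 := by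
    rw [← ht]
    simp [T, ev, map_sum]
  obtain ⟨u, hu⟩ := (hex T).1 hT
  obtain ⟨U, rfl⟩ := TensorProduct.exists_finset u
  let s₁ : Finset R' := S.image (fun p => π i p.1) ∪ U.biUnion fun p => p.1.1.support
  obtain ⟨j, ψ₁, hψ₁, hj⟩ := hs.lift i s₁
  let σ : R' → R j := fun a => if ha : ∃ y, π j y = a then ha.choose else 0
  have hσ : ∀ a ∈ s₁, π j (σ a) = a := fun a ha => by
    simp only [σ, dif_pos (hj a ha)]
    exact (hj a ha).choose_spec
  let Φ : (R' →₀ R₀) →ₗ[R₀] R j := Finsupp.linearCombination R₀ σ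
  have hπ : ∀ x, π j (ψ₁ x) = π i x := fun x => AlgHom.congr_fun hψ₁ x
  obtain ⟨k, χ, hχ, hk⟩ := hs.kill j ((S.image fun p => ψ₁ p.1 - σ (π i p.1)) ∪ U.image fun p => Φ p.1.1) (by
    intro x hx
    rcases Finset.mem_union.1 hx with hx | hx
    · obtain ⟨p, hp, rfl⟩ := Finset.mem_image.1 hx
      rw [map_sub, hπ, hσ _ (Finset.mem_union_left _ (Finset.mem_image_of_mem _ hp)), sub_self]
    · obtain ⟨p, hp, rfl⟩ := Finset.mem_image.1 hx
      have h0 : ev p.1.1 = 0 := p.1.2
      rw [← h0]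
      simp only [Φ, ev, Finsupp.linearCombination_apply, Finsupp.sum, map_sum, map_smul]
      refine Finset.sum_congr rfl fun a ha => ?_
      rw [hσ a (Finset.mem_union_right _ (Finset.mem_biUnion.2 ⟨p, hp, ha⟩))]
      rfl)
  refine ⟨k, χ.comp ψ₁, by rw [← AlgHom.comp_assoc, hχ, hψ₁], ?_⟩
  have h1 : (χ.comp ψ₁).toLinearMap.rTensor M (∑ p ∈ S, p.1 ⊗ₜ[R₀] p.2) = (χ.toLinearMap ∘ₗ Φ).rTensor M T := by
    simp only [T, map_sum, LinearMap.rTensor_tmul]
    refine Finset.sum_congr rfl fun p hp => congrArg (· ⊗ₜ[R₀] p.2) ?_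
    have := hk _ (Finset.mem_union_left _ (Finset.mem_image_of_mem _ hp))
    rw [map_sub, sub_eq_zero] at this
    simpa [Φ] using this
  rw [h1, ← hu]
  simp only [map_sum, LinearMap.rTensor_tmul]
  refine Finset.sum_eq_zero fun p hp => ?_
  have := hk _ (Finset.mem_union_right _ (Finset.mem_image_of_mem _ hp))
  simp [this]

/-- Finitely many tensors that die in the colimit die at one stage. -/
theorem IsStageSystem.killTensors (hs : IsStageSystem R π) (i : ι) (s : Finset (R i ⊗[R₀] M))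
    (h : ∀ x ∈ s, (π i).toLinearMap.rTensor M x = 0) :
    ∃ (j : ι) (ψ : R i →ₐ[R₀] R j), (π j).comp ψ = π i ∧ ∀ x ∈ s, ψ.toLinearMap.rTensor M x = 0 := by
  classical
  induction s using Finset.induction_on with
  | empty => exact ⟨i, AlgHom.id R₀ (R i), AlgHom.comp_id _, by simp⟩
  | @insert x s _ ih =>
    obtain ⟨j, χ, hχ, hj⟩ := ih fun y hy => h y (Finset.mem_insert_of_mem hy)
    have hc : ∀ (a : ι) (φ : R j →ₐ[R₀] R a) z,
        (φ.comp χ).toLinearMap.rTensor M z = φ.toLinearMap.rTensor M (χ.toLinearMap.rTensor M z) := fun a φ z => by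
      rw [AlgHom.comp_toLinearMap, LinearMap.rTensor_comp, LinearMap.comp_apply]
    obtain ⟨k, η, hη, hk⟩ := hs.killTensor j (χ.toLinearMap.rTensor M x) (by
      refine Eq.trans ?_ (h x (Finset.mem_insert_self _ _))
      rw [← LinearMap.comp_apply, ← LinearMap.rTensor_comp, ← AlgHom.comp_toLinearMap, hχ])
    refine ⟨k, η.comp χ, by rw [← AlgHom.comp_assoc, hη, hχ], fun y hy => ?_⟩
    rw [hc]
    rcases Finset.mem_insert.1 hy with rfl | hy
    · exact hk
    · rw [hj y hy, map_zero]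

end Groth.Agent.SyntLib
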