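import Groth.Agent.SyntLib.Colimit
import Mathlib.RingTheory.Smooth.Basic
import Mathlib.RingTheory.Smooth.Kaehler
import Mathlib.RingTheory.Unramified.Basic
import Mathlib.RingTheory.Etale.Basic
import Mathlib.RingTheory.MvPolynomial.Basic
import Mathlib.Algebra.MvPolynomial.PDeriv

/-!
# Smoothness and étaleness descend to a stage of a directed system
-/

set_option autoImplicit false
set_option linter.style.haveILetI false
universe u

open MvPolynomial
open scoped TensorProduct

namespace Groth.Agent.SyntLib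

section Criteria

variable {R : Type u} [CommRing R] {n r : ℕ} (G : Fin r → MvPolynomial (Fin n) R)

theorem span_sq_eq : Ideal.span (Set.range G) ^ 2 =
    Ideal.span (Set.range fun t : Fin r × Fin r => G t.1 * G t.2) := by
  rw [pow_two, Ideal.span_mul_span']
  congr 1
  ext x
  simp only [Set.mem_mul, Set.mem_range, Prod.exists, exists_exists_eq_and]

theorem formallySmooth_iff_exists :
    Algebra.FormallySmooth R (MvPolynomial (Fin n) R ⧸ Ideal.span (Set.range G)) ↔
      ∃ h : Fin n → MvPolynomial (Fin n) R,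
        (∀ t, aeval h (G t) ∈ Ideal.span (Set.range fun t : Fin r × Fin r => G t.1 * G t.2)) ∧
        ∀ i, h i - X i ∈ Ideal.span (Set.range G) := by
  let J := Ideal.span (Set.range G)
  let f : MvPolynomial (Fin n) R →ₐ[R] MvPolynomial (Fin n) R ⧸ J := Ideal.Quotient.mkₐ R J
  have hf : Function.Surjective f := Ideal.Quotient.mk_surjective
  have hker : RingHom.ker f.toRingHom = J := Ideal.mk_ker
  rw [Algebra.FormallySmooth.iff_split_surjection f hf, ← span_sq_eq]
  constructor
  · rintro ⟨σ, hσ⟩
    choose h hh using fun i => Ideal.Quotient.mk_surjective (σ (f (X i)))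
    have hdiag : (Ideal.Quotient.mkₐ R (RingHom.ker f.toRingHom ^ 2)).comp (aeval h) = σ.comp f :=
      algHom_ext fun i => by
        rw [AlgHom.comp_apply, AlgHom.comp_apply, aeval_X]
        exact hh i
    refine ⟨h, fun t => ?_, fun i => ?_⟩
    · have h1 := congr($hdiag (G t))
      have h2 : f (G t) = 0 := Ideal.Quotient.eq_zero_iff_mem.2 (Ideal.subset_span ⟨t, rfl⟩)
      rw [AlgHom.comp_apply, AlgHom.comp_apply, h2, map_zero] at h1
      have := Ideal.Quotient.eq_zero_iff_mem.1 h1
      rwa [hker] at this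
    · have h1 := congr($hσ (f (X i)))
      rw [AlgHom.comp_apply, ← hh i] at h1
      have h2 : f (h i) = f (X i) := h1
      exact Ideal.Quotient.eq.1 h2
  · rintro ⟨h, h1, h2⟩
    have hfh : f.comp (aeval h) = f := algHom_ext fun i => by
      rw [AlgHom.comp_apply, aeval_X]
      exact Ideal.Quotient.eq.2 (h2 i)
    let σ₀ := (Ideal.Quotient.mkₐ R (RingHom.ker f.toRingHom ^ 2)).comp (aeval h)
    have hle : J ≤ RingHom.ker σ₀.toRingHom := Ideal.span_le.2 (by
      rintro _ ⟨t, rfl⟩
      refine Ideal.Quotient.eq_zero_iff_mem.2 ?_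
      rw [hker]
      exact h1 t)
    refine ⟨Ideal.Quotient.liftₐ J σ₀ fun a ha => hle ha, AlgHom.ext fun x => ?_⟩
    obtain ⟨p, rfl⟩ := hf x
    exact congr($hfh p)

theorem formallyUnramified_of_pderiv {S : Type u} [CommRing S] [Algebra R S]
    (q : MvPolynomial (Fin n) R →ₐ[R] S) (hq : Function.Surjective q) (G : Fin r → MvPolynomial (Fin n) R)
    (hG0 : ∀ t, q (G t) = 0) (c : Fin n → Fin r → MvPolynomial (Fin n) R)
    (hc : ∀ i k, q (if i = k then 1 else 0) = q (∑ t, c i t * pderiv k (G t))) :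
    Algebra.FormallyUnramified R S := by
  classical
  rw [Algebra.formallyUnramified_iff]
  let DS := KaehlerDifferential.D R S
  have hsum : ∀ p, DS (q p) = ∑ k, q (pderiv k p) • DS (q (X k)) := fun p => by
    induction p using MvPolynomial.induction_on with
    | C a =>
      rw [show q (C a) = algebraMap R S a from q.commutes a, DS.map_algebraMap]
      simp only [pderiv_C, map_zero, zero_smul, Finset.sum_const_zero]
    | add a b ha hb =>
      rw [map_add q, map_add DS, ha, hb, ← Finset.sum_add_distrib]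
      exact Finset.sum_congr rfl fun k _ => by rw [map_add, map_add q, add_smul]
    | mul_X a i ha =>
      rw [map_mul q, DS.leibniz, ha, Finset.smul_sum]
      simp only [pderiv_mul, map_add q, map_mul q, add_smul, Finset.sum_add_distrib, pderiv_X, mul_smul]
      rw [add_comm]
      congr 1
      · exact Finset.sum_congr rfl fun k _ => smul_comm _ _ _
      · rw [← Finset.smul_sum, Finset.sum_eq_single i]
        · rw [Pi.single_eq_same, map_one q, one_smul]
        · intro k _ hk
          rw [Pi.single_eq_of_ne hk.symm, map_zero q, zero_smul]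
        · simp
  have hG : ∀ t, ∑ k, q (pderiv k (G t)) • DS (q (X k)) = 0 := fun t => by
    rw [← hsum, hG0, map_zero]
  have hX : ∀ i, DS (q (X i)) = 0 := fun i => by
    have h1 : DS (q (X i)) = ∑ k, q (if i = k then 1 else 0) • DS (q (X k)) := by
      simp [apply_ite q, ite_smul]
    rw [h1]
    simp only [hc, map_sum, map_mul, Finset.sum_smul, mul_smul]
    rw [Finset.sum_comm]
    simp only [← Finset.smul_sum, hG, smul_zero, Finset.sum_const_zero]
  have hall : ∀ p, DS (q p) = 0 := fun p => by
    rw [hsum]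
    simp only [hX, smul_zero, Finset.sum_const_zero]
  refine (subsingleton_iff_forall_eq 0).2 fun w => ?_
  have hw : w ∈ (⊤ : Submodule S Ω[S⁄R]) := trivial
  rw [← KaehlerDifferential.span_range_derivation] at hw
  refine (Submodule.span_le.2 ?_ : Submodule.span S (Set.range DS) ≤ ⊥) hw
  rintro _ ⟨x, rfl⟩
  obtain ⟨p, rfl⟩ := hq x
  exact hall p

/-- The Jacobian criterion for being formally unramified. -/
theorem formallyUnramified_iff_exists :
    Algebra.FormallyUnramified R (MvPolynomial (Fin n) R ⧸ Ideal.span (Set.range G)) ↔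
      ∃ c : Fin n → Fin r → MvPolynomial (Fin n) R,
        ∀ i k, (if i = k then (1 : MvPolynomial (Fin n) R) else 0) - ∑ t, c i t * pderiv k (G t) ∈
          Ideal.span (Set.range G) := by
  classical
  let J := Ideal.span (Set.range G)
  let S := MvPolynomial (Fin n) R ⧸ J
  let q : MvPolynomial (Fin n) R →ₐ[R] S := Ideal.Quotient.mkₐ R J
  constructor
  · intro hu
    let grad : MvPolynomial (Fin n) R →ₗ[R] (Fin n → S) :=
      LinearMap.pi fun k => q.toLinearMap.comp (pderiv k).toLinearMap
    let W : Submodule S (Fin n → S) := Submodule.span S (Set.range fun t => grad (G t))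
    let D₀ : MvPolynomial (Fin n) R →ₗ[R] (Fin n → S) ⧸ W := (W.mkQ.restrictScalars R).comp grad
    have hgrad : ∀ a b, grad (a * b) = q a • grad b + q b • grad a := fun a b => funext fun k => by
      simp only [grad, LinearMap.pi_apply, LinearMap.comp_apply, AlgHom.toLinearMap_apply, Pi.add_apply,
        Pi.smul_apply, smul_eq_mul]
      change q (pderiv k (a * b)) = _
      rw [pderiv_mul, map_add, map_mul, map_mul]
      change _ = q a * q (pderiv k b) + q b * q (pderiv k a)
      ring
    have hker : J.restrictScalars R ≤ LinearMap.ker D₀ := by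
      intro x hx
      change x ∈ Ideal.span (Set.range G) at hx
      obtain ⟨a, rfl⟩ := Ideal.mem_span_range_iff_exists_fun.1 hx
      refine (Submodule.Quotient.mk_eq_zero W).2 ?_
      rw [map_sum]
      refine Submodule.sum_mem _ fun t _ => ?_
      rw [hgrad, show q (G t) = 0 from Ideal.Quotient.eq_zero_iff_mem.2 (Ideal.subset_span ⟨t, rfl⟩)]
      refine Submodule.add_mem _ ?_ (by rw [zero_smul S (grad (a t))]; exact W.zero_mem)
      exact W.smul_mem _ (Submodule.subset_span ⟨t, rfl⟩)
    let D₁ : S →ₗ[R] (Fin n → S) ⧸ W :=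
      (Submodule.liftQ (J.restrictScalars R) D₀ hker).comp
        (Submodule.Quotient.restrictScalarsEquiv R J).symm.toLinearMap
    have hD₁ : ∀ p, D₁ (q p) = D₀ p := fun p => rfl
    let D : Derivation R S ((Fin n → S) ⧸ W) := Derivation.mk' D₁ fun a b => by
      obtain ⟨a, rfl⟩ := Ideal.Quotient.mk_surjective a
      obtain ⟨b, rfl⟩ := Ideal.Quotient.mk_surjective b
      change D₁ (q a * q b) = q a • D₁ (q b) + q b • D₁ (q a)
      rw [← map_mul, hD₁, hD₁, hD₁]
      change W.mkQ (grad (a * b)) = _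
      rw [hgrad, map_add, map_smul, map_smul]
      rfl
    have hD : ∀ x, D x = 0 := fun x => by
      rw [← D.liftKaehlerDifferential_comp_D x, Subsingleton.elim (KaehlerDifferential.D R S x) 0, map_zero]
    have hmem : ∀ i, grad (X i) ∈ W := fun i => (Submodule.Quotient.mk_eq_zero W).1 (hD (q (X i)))
    choose c hc using fun i => Ideal.Quotient.mk_surjective.comp_left
      ((Submodule.mem_span_range_iff_exists_fun S).1 (hmem i)).choose
    refine ⟨c, fun i k => ?_⟩
    have h1 := congrFun ((Submodule.mem_span_range_iff_exists_fun S).1 (hmem i)).choose_spec k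
    rw [← hc i, Finset.sum_apply] at h1
    refine Ideal.Quotient.eq.1 ?_
    change q _ = q _
    rw [map_sum]
    have h2 : grad (X i) k = q (if i = k then 1 else 0) := by
      change q (pderiv k (X i)) = _
      rw [pderiv_X, Pi.single_apply]
    rw [← h2, ← h1]
    exact Finset.sum_congr rfl fun t _ => (map_mul q _ _).symm
  · rintro ⟨c, hc⟩
    refine formallyUnramified_of_pderiv (S := S) q Ideal.Quotient.mk_surjective G
      (fun t => Ideal.Quotient.eq_zero_iff_mem.2 (Ideal.subset_span ⟨t, rfl⟩)) c fun i k => ?_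
    exact Ideal.Quotient.eq.2 (hc i k)

end Criteria

section Stages

variable {R₀ : Type u} [CommRing R₀] {ι : Type u} {R : ι → Type u} [∀ i, CommRing (R i)] [∀ i, Algebra R₀ (R i)]
  {R' : Type u} [CommRing R'] [Algebra R₀ R'] {π : ∀ i, R i →ₐ[R₀] R'}

theorem IsStageSystem.exists_formallySmooth (hs : IsStageSystem R π) {n r : ℕ}
    (G₀ : Fin r → MvPolynomial (Fin n) R₀) (i : ι)
    (h : Algebra.FormallySmooth R'
      (MvPolynomial (Fin n) R' ⧸ Ideal.span (Set.range fun t => MvPolynomial.map (algebraMap R₀ R') (G₀ t)))) :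
    ∃ (j : ι) (ψ : R i →ₐ[R₀] R j), (π j).comp ψ = π i ∧
      ∀ (k : ι) (χ : R j →ₐ[R₀] R k), (π k).comp χ = π j → Algebra.FormallySmooth (R k)
        (MvPolynomial (Fin n) (R k) ⧸ Ideal.span (Set.range fun t => MvPolynomial.map (algebraMap R₀ (R k)) (G₀ t))) := by
  obtain ⟨p, hp1, hp2⟩ := (formallySmooth_iff_exists _).1 h
  obtain ⟨j₁, ψ₁, hψ₁, q, hq⟩ := hs.liftPoly i p
  have haev : ∀ {S T : Type u} [CommRing S] [CommRing T] [Algebra R₀ S] [Algebra R₀ T] (φ : S →ₐ[R₀] T)
      (a : Fin n → MvPolynomial (Fin n) S) (x : MvPolynomial (Fin n) R₀),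
      MvPolynomial.map φ.toRingHom (aeval a (MvPolynomial.map (algebraMap R₀ S) x)) =
        aeval (fun l => MvPolynomial.map φ.toRingHom (a l)) (MvPolynomial.map (algebraMap R₀ T) x) := by
    intro S T _ _ _ _ φ a x
    induction x using MvPolynomial.induction_on with
    | C b => simp
    | add u v hu hv => simp only [map_add, hu, hv]
    | mul_X u l hu => simp only [map_mul, MvPolynomial.map_X, aeval_X, hu]
  let gs := fun (j : ι) (t : Fin r) => MvPolynomial.map (algebraMap R₀ (R j)) (G₀ t)
  have hpair : ∀ (j : ι) (φ : R j →+* R'), φ.comp (algebraMap R₀ (R j)) = algebraMap R₀ R' →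
      (fun t : Fin r × Fin r => MvPolynomial.map φ (gs j t.1 * gs j t.2)) =
        fun t : Fin r × Fin r => MvPolynomial.map (algebraMap R₀ R') (G₀ t.1) *
          MvPolynomial.map (algebraMap R₀ R') (G₀ t.2) := fun j φ hφ => funext fun t => by
    simp only [gs, map_mul, MvPolynomial.map_map, hφ]
  obtain ⟨j₂, ψ₂, hψ₂, hj₂⟩ := hs.exists_forall_mem (Finset.univ : Finset (Fin r)) j₁
    (fun t => aeval q (gs j₁ t)) (fun t : Fin r × Fin r => gs j₁ t.1 * gs j₁ t.2) fun t _ => by
      have e := hpair j₁ (π j₁).toRingHom (π j₁).comp_algebraMap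
      have e' : (Set.range fun l : Fin r × Fin r => MvPolynomial.map (π j₁).toRingHom (gs j₁ l.1 * gs j₁ l.2)) =
          Set.range fun t : Fin r × Fin r => MvPolynomial.map (algebraMap R₀ R') (G₀ t.1) *
            MvPolynomial.map (algebraMap R₀ R') (G₀ t.2) := congrArg Set.range e
      rw [e']
      change MvPolynomial.map (π j₁).toRingHom (aeval q (MvPolynomial.map (algebraMap R₀ (R j₁)) (G₀ t))) ∈ _
      rw [haev (π j₁) q (G₀ t)]
      simp only [hq]
      exact hp1 t
  obtain ⟨j₃, ψ₃, hψ₃, hj₃⟩ := hs.exists_forall_mem (Finset.univ : Finset (Fin n)) j₂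
    (fun l => MvPolynomial.map ψ₂.toRingHom (q l) - X l) (gs j₂) fun l _ => by
      rw [map_sub, map_comp_stage ψ₂ hψ₂, hq, MvPolynomial.map_X]
      simp only [gs, map_base_colim]
      exact hp2 l
  refine ⟨j₃, ψ₃.comp (ψ₂.comp ψ₁), by rw [← AlgHom.comp_assoc, hψ₃, ← AlgHom.comp_assoc, hψ₂, hψ₁], ?_⟩
  intro k χ _
  let φ := χ.comp (ψ₃.comp ψ₂)
  refine (formallySmooth_iff_exists _).2 ⟨fun l => MvPolynomial.map φ.toRingHom (q l), fun t => ?_, fun l => ?_⟩
  · have h1 := span_map_mem ((χ.comp ψ₃).toRingHom) _ (hj₂ t (Finset.mem_univ t))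
    simp only [MvPolynomial.map_map] at h1
    have e : (χ.comp ψ₃).toRingHom.comp ψ₂.toRingHom = φ.toRingHom := rfl
    rw [e, haev φ q (G₀ t)] at h1
    refine (Ideal.span_mono (le_of_eq ?_)) h1
    congr 1
    funext u
    simp only [gs, map_mul, map_base_stage]
  · have h1 := span_map_mem χ.toRingHom _ (hj₃ l (Finset.mem_univ l))
    simp only [map_sub, MvPolynomial.map_X, MvPolynomial.map_map] at h1
    refine (Ideal.span_mono (le_of_eq ?_)) (show _ ∈ _ from h1)
    congr 1
    funext u
    simp only [gs, ← MvPolynomial.map_map, map_base_stage]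

theorem IsStageSystem.exists_formallyUnramified (hs : IsStageSystem R π) {n r : ℕ}
    (G₀ : Fin r → MvPolynomial (Fin n) R₀) (i : ι)
    (h : Algebra.FormallyUnramified R'
      (MvPolynomial (Fin n) R' ⧸ Ideal.span (Set.range fun t => MvPolynomial.map (algebraMap R₀ R') (G₀ t)))) :
    ∃ (j : ι) (ψ : R i →ₐ[R₀] R j), (π j).comp ψ = π i ∧ Algebra.FormallyUnramified (R j)
        (MvPolynomial (Fin n) (R j) ⧸ Ideal.span (Set.range fun t => MvPolynomial.map (algebraMap R₀ (R j)) (G₀ t))) := by
  classical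
  obtain ⟨c, hc⟩ := (formallyUnramified_iff_exists _).1 h
  obtain ⟨j₁, ψ₁, hψ₁, q, hq⟩ := hs.liftPoly i (fun it : Fin n × Fin r => c it.1 it.2)
  obtain ⟨j₂, ψ₂, hψ₂, hj₂⟩ := hs.exists_forall_mem (Finset.univ : Finset (Fin n × Fin n)) j₁
    (fun ik => (if ik.1 = ik.2 then 1 else 0) -
      ∑ t, q (ik.1, t) * pderiv ik.2 (MvPolynomial.map (algebraMap R₀ (R j₁)) (G₀ t)))
    (fun t => MvPolynomial.map (algebraMap R₀ (R j₁)) (G₀ t)) fun ik _ => by
      simp only [map_sub, map_sum, map_mul, apply_ite (MvPolynomial.map (π j₁).toRingHom), map_one, map_zero,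
        hq, ← MvPolynomial.pderiv_map, map_base_colim]
      exact hc ik.1 ik.2
  refine ⟨j₂, ψ₂.comp ψ₁, by rw [← AlgHom.comp_assoc, hψ₂, hψ₁], ?_⟩
  refine (formallyUnramified_iff_exists _).2 ⟨fun a t => MvPolynomial.map ψ₂.toRingHom (q (a, t)), fun a k => ?_⟩
  have h1 := hj₂ (a, k) (Finset.mem_univ _)
  simp only [map_sub, map_sum, map_mul, apply_ite (MvPolynomial.map ψ₂.toRingHom), map_one, map_zero,
    ← MvPolynomial.pderiv_map, map_base_stage] at h1
  exact h1

end Stages

end Groth.Agent.SyntLib
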