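import Groth.Agent.SyntLib.Descend
import Groth.Agent.SyntLib.Regular
import Groth.Agent.SyntLib.Hom

/-!
# Descending syntomic algebras to a stage of a directed system
-/

set_option autoImplicit false
set_option linter.style.haveILetI false
universe u

open MvPolynomial
open scoped TensorProduct

namespace Groth.Agent.SyntLib

theorem map_snocPres {R R' : Type u} [CommRing R] [CommRing R'] (π : R →+* R') {n c : ℕ}
    (F : Fin c → MvPolynomial (Fin n) R) (a : MvPolynomial (Fin n) R) :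
    (fun i => MvPolynomial.map π (snocPres F a i)) = snocPres (fun i => MvPolynomial.map π (F i)) (MvPolynomial.map π a) := by
  funext i
  induction i using Fin.lastCases with
  | last => simp [snocPres, map_rename]
  | cast i => simp [snocPres, map_rename]

theorem span_map_mem {R R' : Type u} [CommRing R] [CommRing R'] (π : R →+* R') {n : ℕ} {κ : Type} [Fintype κ]
    (G : κ → MvPolynomial (Fin n) R) {x : MvPolynomial (Fin n) R} (hx : x ∈ Ideal.span (Set.range G)) :
    MvPolynomial.map π x ∈ Ideal.span (Set.range fun t => MvPolynomial.map π (G t)) := by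
  have h := Ideal.mem_map_of_mem (MvPolynomial.map π) hx
  rwa [Ideal.map_span, ← Set.range_comp] at h

section Stages

variable {R₀ : Type u} [CommRing R₀] {ι : Type u} (R : ι → Type u) [∀ i, CommRing (R i)] [∀ i, Algebra R₀ (R i)]
  {R' : Type u} [CommRing R'] [Algebra R₀ R'] (π : ∀ i, R i →ₐ[R₀] R')

/-- Stages behave like a directed system with colimit `R'`. -/
structure IsStageSystem : Prop where
  lift : ∀ i (s : Finset R'), ∃ (j : ι) (ψ : R i →ₐ[R₀] R j), (π j).comp ψ = π i ∧ ∀ x ∈ s, ∃ y, π j y = x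
  kill : ∀ i (s : Finset (R i)), (∀ x ∈ s, π i x = 0) →
    ∃ (j : ι) (ψ : R i →ₐ[R₀] R j), (π j).comp ψ = π i ∧ ∀ x ∈ s, ψ x = 0

variable {R π}

theorem map_comp_stage {n : ℕ} {i j : ι} (ψ : R i →ₐ[R₀] R j) (h : (π j).comp ψ = π i)
    (p : MvPolynomial (Fin n) (R i)) :
    MvPolynomial.map (π j).toRingHom (MvPolynomial.map ψ.toRingHom p) = MvPolynomial.map (π i).toRingHom p := by
  rw [MvPolynomial.map_map, show (π j).toRingHom.comp ψ.toRingHom = (π i).toRingHom from by rw [← h]; rfl]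

theorem map_base_stage {n : ℕ} {i j : ι} (ψ : R i →ₐ[R₀] R j) (p : MvPolynomial (Fin n) R₀) :
    MvPolynomial.map ψ.toRingHom (MvPolynomial.map (algebraMap R₀ (R i)) p) = MvPolynomial.map (algebraMap R₀ (R j)) p := by
  rw [MvPolynomial.map_map, show ψ.toRingHom.comp (algebraMap R₀ (R i)) = algebraMap R₀ (R j) from ψ.comp_algebraMap]

theorem map_base_colim {n : ℕ} (i : ι) (p : MvPolynomial (Fin n) R₀) :
    MvPolynomial.map (π i).toRingHom (MvPolynomial.map (algebraMap R₀ (R i)) p) = MvPolynomial.map (algebraMap R₀ R') p := by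
  rw [MvPolynomial.map_map, show (π i).toRingHom.comp (algebraMap R₀ (R i)) = algebraMap R₀ R' from (π i).comp_algebraMap]

theorem IsStageSystem.liftPoly (hs : IsStageSystem R π) {n : ℕ} (i : ι) {κ : Type} [Fintype κ]
    (p : κ → MvPolynomial (Fin n) R') :
    ∃ (j : ι) (ψ : R i →ₐ[R₀] R j), (π j).comp ψ = π i ∧
      ∃ q : κ → MvPolynomial (Fin n) (R j), ∀ k, MvPolynomial.map (π j).toRingHom (q k) = p k := by
  classical
  obtain ⟨j, ψ, hψ, h⟩ := hs.lift i (Finset.univ.biUnion fun k => (p k).coeffs)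
  have : ∀ k, ∃ q, MvPolynomial.map (π j).toRingHom q = p k := fun k =>
    MvPolynomial.mem_range_map_iff_coeffs_subset.2 fun x hx => h x (Finset.mem_biUnion.2 ⟨k, Finset.mem_univ k, hx⟩)
  exact ⟨j, ψ, hψ, fun k => (this k).choose, fun k => (this k).choose_spec⟩

theorem IsStageSystem.killPoly (hs : IsStageSystem R π) {n : ℕ} (i : ι) {κ : Type} [Fintype κ]
    (p : κ → MvPolynomial (Fin n) (R i)) (hp : ∀ k, MvPolynomial.map (π i).toRingHom (p k) = 0) :
    ∃ (j : ι) (ψ : R i →ₐ[R₀] R j), (π j).comp ψ = π i ∧ ∀ k, MvPolynomial.map ψ.toRingHom (p k) = 0 := by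
  classical
  obtain ⟨j, ψ, hψ, h⟩ := hs.kill i (Finset.univ.biUnion fun k => (p k).coeffs) fun x hx => by
    obtain ⟨k, -, hk⟩ := Finset.mem_biUnion.1 hx
    obtain ⟨α, -, rfl⟩ := MvPolynomial.mem_coeffs_iff.1 hk
    have := congrArg (MvPolynomial.coeff α) (hp k)
    rwa [MvPolynomial.coeff_map, MvPolynomial.coeff_zero] at this
  refine ⟨j, ψ, hψ, fun k => ?_⟩
  ext α
  rw [MvPolynomial.coeff_map, MvPolynomial.coeff_zero]
  by_cases hα : (p k).coeff α = 0
  · rw [hα, map_zero]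
  · exact h _ (Finset.mem_biUnion.2 ⟨k, Finset.mem_univ k, MvPolynomial.mem_coeffs_iff.2 ⟨α, MvPolynomial.mem_support_iff.2 hα, rfl⟩⟩)

/-- A membership in the colimit holds at some stage. -/
theorem IsStageSystem.exists_mem (hs : IsStageSystem R π) {n : ℕ} (i : ι) {κ : Type} [Fintype κ]
    (x : MvPolynomial (Fin n) (R i)) (g : κ → MvPolynomial (Fin n) (R i))
    (h : MvPolynomial.map (π i).toRingHom x ∈ Ideal.span (Set.range fun t => MvPolynomial.map (π i).toRingHom (g t))) :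
    ∃ (j : ι) (ψ : R i →ₐ[R₀] R j), (π j).comp ψ = π i ∧
      MvPolynomial.map ψ.toRingHom x ∈ Ideal.span (Set.range fun t => MvPolynomial.map ψ.toRingHom (g t)) := by
  obtain ⟨c, hc⟩ := Ideal.mem_span_range_iff_exists_fun.1 h
  obtain ⟨j, ψ, hψ, c', hc'⟩ := hs.liftPoly i c
  obtain ⟨k, χ, hχ, h0⟩ := hs.killPoly (κ := Unit) j
    (fun _ => MvPolynomial.map ψ.toRingHom x - ∑ t, c' t * MvPolynomial.map ψ.toRingHom (g t)) fun _ => by
      simp only [map_sub, map_sum, map_mul, map_comp_stage ψ hψ, hc', hc, sub_self]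
  refine ⟨k, χ.comp ψ, by rw [← AlgHom.comp_assoc, hχ, hψ], ?_⟩
  have h1 := h0 ()
  rw [map_sub, map_sum, sub_eq_zero] at h1
  rw [show (χ.comp ψ).toRingHom = χ.toRingHom.comp ψ.toRingHom from rfl, ← MvPolynomial.map_map]
  simp only [← MvPolynomial.map_map]
  rw [h1]
  exact Ideal.sum_mem _ fun t _ => by rw [map_mul]; exact Ideal.mul_mem_left _ _ (Ideal.subset_span ⟨t, rfl⟩)

/-- Finitely many memberships hold at a common stage. -/
theorem IsStageSystem.exists_forall_mem (hs : IsStageSystem R π) {n : ℕ} {κ : Type} [Fintype κ] {μ : Type}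
    (s : Finset μ) : ∀ (i : ι) (x : μ → MvPolynomial (Fin n) (R i)) (g : κ → MvPolynomial (Fin n) (R i)),
    (∀ t ∈ s, MvPolynomial.map (π i).toRingHom (x t) ∈
      Ideal.span (Set.range fun l => MvPolynomial.map (π i).toRingHom (g l))) →
    ∃ (j : ι) (ψ : R i →ₐ[R₀] R j), (π j).comp ψ = π i ∧
      ∀ t ∈ s, MvPolynomial.map ψ.toRingHom (x t) ∈ Ideal.span (Set.range fun l => MvPolynomial.map ψ.toRingHom (g l)) := by
  classical
  induction s using Finset.induction_on with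
  | empty => exact fun i x g _ => ⟨i, AlgHom.id R₀ (R i), AlgHom.comp_id _, by simp⟩
  | @insert t s hts ih =>
    intro i x g h
    obtain ⟨j, ψ, hψ, hj⟩ := hs.exists_mem i (x t) g (h t (Finset.mem_insert_self _ _))
    obtain ⟨k, χ, hχ, hk⟩ := ih j (fun t => MvPolynomial.map ψ.toRingHom (x t))
      (fun l => MvPolynomial.map ψ.toRingHom (g l)) fun t' ht' => by
        simpa only [map_comp_stage ψ hψ] using h t' (Finset.mem_insert_of_mem ht')
    refine ⟨k, χ.comp ψ, by rw [← AlgHom.comp_assoc, hχ, hψ], fun t' ht' => ?_⟩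
    rw [show (χ.comp ψ).toRingHom = χ.toRingHom.comp ψ.toRingHom from rfl]
    simp only [← MvPolynomial.map_map]
    rcases Finset.mem_insert.1 ht' with rfl | ht'
    · exact span_map_mem χ.toRingHom (fun l => MvPolynomial.map ψ.toRingHom (g l)) hj
    · exact hk t' ht'

/-- A relative complete intersection over the colimit is one at some stage. -/
theorem IsStageSystem.exists_relGCI (hs : IsStageSystem R π) {n c : ℕ} (hcn : c ≤ n) (i : ι)
    (F : Fin c → MvPolynomial (Fin n) (R i))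
    (h : Synt.IsRelGCI R' n c fun l => MvPolynomial.map (π i).toRingHom (F l)) :
    ∃ (j : ι) (ψ : R i →ₐ[R₀] R j), (π j).comp ψ = π i ∧
      Synt.IsRelGCI (R j) n c fun l => MvPolynomial.map ψ.toRingHom (F l) := by
  classical
  letI : Algebra (R i) R' := (π i).toRingHom.toAlgebra
  let S := Synt.RelGCIRing (R i) n c F
  let S' := Synt.RelGCIRing R' n c fun l => MvPolynomial.map (algebraMap (R i) R') (F l)
  haveI : Algebra.FiniteType (R i) S := Algebra.FiniteType.of_surjective (Ideal.Quotient.mkₐ _ _) Ideal.Quotient.mk_surjective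
  haveI : Algebra.FiniteType R' S' := Algebra.FiniteType.of_surjective (Ideal.Quotient.mkₐ _ _) Ideal.Quotient.mk_surjective
  obtain ⟨K', hK'⟩ := (PrimeSpectrum.isClosed_iff_zeroLocus_ideal _).mp
    (isOpen_fibreDimLE (R i) S (n - c)).isClosed_compl
  let q₀ := Ideal.Quotient.mk (Ideal.span (Set.range F))
  let K := K'.comap q₀
  have hKmap : K.map q₀ = K' := Ideal.map_comap_of_surjective _ Ideal.Quotient.mk_surjective K'
  have hKW : ∀ z : PrimeSpectrum S, ¬ K.map q₀ ≤ z.asIdeal → z ∈ fibreDimLE (R i) S (n - c) := by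
    intro z hz
    rw [hKmap] at hz
    by_contra hzW
    have : z ∈ PrimeSpectrum.zeroLocus (K' : Set S) := hK' ▸ hzW
    exact hz this
  let J := Ideal.span (Set.range fun l => MvPolynomial.map (algebraMap (R i) R') (F l))
  have hone : (1 : MvPolynomial (Fin n) R') ∈ J ⊔ K.map (MvPolynomial.map (algebraMap (R i) R')) := by
    by_contra hne
    obtain ⟨M, hM, hle⟩ := Ideal.exists_le_maximal _ (fun h1 => hne ((Ideal.eq_top_iff_one _).1 h1))
    haveI := hM.isPrime
    have hJM : J ≤ M := le_sup_left.trans hle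
    haveI : (M.map (Ideal.Quotient.mk J)).IsPrime :=
      Ideal.map_isPrime_of_surjective Ideal.Quotient.mk_surjective (Ideal.mk_ker.trans_le hJM)
    let z : PrimeSpectrum S' := ⟨M.map (Ideal.Quotient.mk J), inferInstance⟩
    have hdim : ∀ (p : Ideal R') [p.IsPrime], z.asIdeal.comap (algebraMap R' S') = p →
        ringKrullDim (p.Fiber S') ≤ ((n - c : ℕ) : WithBot ℕ∞) := by
      intro p _ hp
      obtain ⟨Q, hQ, -⟩ := exists_fiber_prime p z.asIdeal hp
      exact (h ⟨p, inferInstance⟩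
        (nontrivial_of_ne (0 : p.Fiber S') 1 fun h0 => hQ.ne_top ((Ideal.eq_top_iff_one _).mpr (h0 ▸ Q.zero_mem)))).2.le
    have hz := (mem_fibreDimLE_map (R' := R') F (n - c) z).1 (mem_fibreDimLE_of_dim (n - c) z hdim)
    have hzK : PrimeSpectrum.comap (Ideal.quotientMap _ (MvPolynomial.map (algebraMap (R i) R')) (hle_map F)) z ∈
        PrimeSpectrum.zeroLocus (K' : Set S) := by
      intro k hk
      obtain ⟨k, rfl⟩ := Ideal.Quotient.mk_surjective k
      show Ideal.Quotient.mk J (MvPolynomial.map (algebraMap (R i) R') k) ∈ M.map (Ideal.Quotient.mk J)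
      exact Ideal.mem_map_of_mem _ (hle (Ideal.mem_sup_right (Ideal.mem_map_of_mem _ (show k ∈ K from hk))))
    rw [← hK'] at hzK
    exact hzK hz
  obtain ⟨u, hu, v, hv, huv⟩ := Submodule.mem_sup.1 hone
  obtain ⟨l, b, k, hbk⟩ := Submodule.mem_span_set'.1 hv
  choose k₀ hk₀ hk₀e using fun t => (k t).2
  obtain ⟨j, ψ, hψ, hj⟩ := hs.exists_mem (κ := Fin c ⊕ Fin l) i 1 (Sum.elim F k₀) (by
    rw [map_one, ← huv, ← hbk]
    refine Ideal.add_mem _ ((Ideal.span_le.2 ?_ : J ≤ _) hu) (Ideal.sum_mem _ fun t _ => ?_)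
    · rintro _ ⟨t, rfl⟩; exact Ideal.subset_span ⟨Sum.inl t, rfl⟩
    · rw [smul_eq_mul, ← hk₀e t]; exact Ideal.mul_mem_left _ _ (Ideal.subset_span ⟨Sum.inr t, rfl⟩))
  refine ⟨j, ψ, hψ, ?_⟩
  letI : Algebra (R i) (R j) := ψ.toRingHom.toAlgebra
  refine isRelGCI_of_cofinal hcn F K hKW ?_
  rw [map_one] at hj
  refine (Ideal.span_le.2 ?_ : _ ≤ _) hj
  rintro _ ⟨t | t, rfl⟩
  · exact Ideal.mem_sup_left (Ideal.subset_span ⟨t, rfl⟩)
  · exact Ideal.mem_sup_right (Ideal.mem_map_of_mem _ (hk₀ t))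

/-- A chart at a stage: a relative complete intersection cutting out the algebra away from `a`. -/
def Chart (n : ℕ) {r : ℕ} (G₀ : Fin r → MvPolynomial (Fin n) R₀) (j : ι) (a' : MvPolynomial (Fin n) R') : Prop :=
  ∃ (c : ℕ) (F : Fin c → MvPolynomial (Fin n) (R j)) (a : MvPolynomial (Fin n) (R j)),
    MvPolynomial.map (π j).toRingHom a = a' ∧ Synt.IsRelGCI (R j) (n + 1) (c + 1) (snocPres F a) ∧
    Ideal.span (Set.range F) ≤ Ideal.span (Set.range fun t => MvPolynomial.map (algebraMap R₀ (R j)) (G₀ t)) ∧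
    ∀ t, a * MvPolynomial.map (algebraMap R₀ (R j)) (G₀ t) ∈ Ideal.span (Set.range F)

theorem Chart.mono {n r : ℕ} {G₀ : Fin r → MvPolynomial (Fin n) R₀} {i j : ι} {a' : MvPolynomial (Fin n) R'}
    (ψ : R i →ₐ[R₀] R j) (hψ : (π j).comp ψ = π i) (h : Chart (π := π) n G₀ i a') : Chart (π := π) n G₀ j a' := by
  obtain ⟨c, F, a, ha, hrel, hFI, hkill⟩ := h
  refine ⟨c, fun l => MvPolynomial.map ψ.toRingHom (F l), MvPolynomial.map ψ.toRingHom a,
    by rw [map_comp_stage ψ hψ, ha], ?_, Ideal.span_le.2 ?_, fun t => ?_⟩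
  · rw [← map_snocPres]
    exact isRelGCI_map ψ.toRingHom hrel
  · rintro _ ⟨l, rfl⟩
    have := span_map_mem ψ.toRingHom _ (hFI (Ideal.subset_span (Set.mem_range_self l)))
    rw [SetLike.mem_coe]
    simpa only [map_base_stage] using this
  · have := span_map_mem ψ.toRingHom _ (hkill t)
    rwa [map_mul, map_base_stage] at this

theorem IsStageSystem.exists_chart (hs : IsStageSystem R π) {n r c : ℕ} (hcn : c ≤ n)
    (G₀ : Fin r → MvPolynomial (Fin n) R₀) (i : ι) (F' : Fin c → MvPolynomial (Fin n) R') (a' : MvPolynomial (Fin n) R')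
    (hrel : Synt.IsRelGCI R' (n + 1) (c + 1) (snocPres F' a'))
    (hFI : ∀ l, F' l ∈ Ideal.span (Set.range fun t => MvPolynomial.map (algebraMap R₀ R') (G₀ t)))
    (hkill : ∀ t, a' * MvPolynomial.map (algebraMap R₀ R') (G₀ t) ∈ Ideal.span (Set.range F')) :
    ∃ (j : ι) (ψ : R i →ₐ[R₀] R j), (π j).comp ψ = π i ∧ Chart (π := π) n G₀ j a' := by
  obtain ⟨i₁, ψ₁, hψ₁, q, hq⟩ := hs.liftPoly i (Sum.elim F' fun _ : Unit => a')
  let F₁ : Fin c → MvPolynomial (Fin n) (R i₁) := fun l => q (Sum.inl l)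
  let a₁ := q (Sum.inr ())
  obtain rfl : (fun l => MvPolynomial.map (π i₁).toRingHom (F₁ l)) = F' := funext fun l => hq (Sum.inl l)
  obtain rfl : MvPolynomial.map (π i₁).toRingHom a₁ = a' := hq (Sum.inr ())
  obtain ⟨i₂, ψ₂, hψ₂, hrel₂⟩ := hs.exists_relGCI (Nat.succ_le_succ hcn) i₁ (snocPres F₁ a₁)
    (by rw [map_snocPres]; exact hrel)
  rw [map_snocPres] at hrel₂
  let F₂ := fun l => MvPolynomial.map ψ₂.toRingHom (F₁ l)
  let a₂ := MvPolynomial.map ψ₂.toRingHom a₁
  obtain ⟨i₃, ψ₃, hψ₃, h3⟩ := hs.exists_forall_mem Finset.univ i₂ F₂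
    (fun t => MvPolynomial.map (algebraMap R₀ (R i₂)) (G₀ t)) fun l _ => by
      simp only [F₂, map_comp_stage ψ₂ hψ₂, map_base_colim]
      exact hFI l
  obtain ⟨i₄, ψ₄, hψ₄, h4⟩ := hs.exists_forall_mem Finset.univ i₃
    (fun t => MvPolynomial.map ψ₃.toRingHom a₂ * MvPolynomial.map (algebraMap R₀ (R i₃)) (G₀ t))
    (fun l => MvPolynomial.map ψ₃.toRingHom (F₂ l)) fun t _ => by
      simp only [F₂, a₂, map_mul, map_comp_stage ψ₃ hψ₃, map_comp_stage ψ₂ hψ₂, map_base_colim]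
      exact hkill t
  refine ⟨i₄, ψ₄.comp (ψ₃.comp (ψ₂.comp ψ₁)),
    by rw [← AlgHom.comp_assoc, hψ₄, ← AlgHom.comp_assoc, hψ₃, ← AlgHom.comp_assoc, hψ₂, hψ₁],
    c, fun l => MvPolynomial.map ψ₄.toRingHom (MvPolynomial.map ψ₃.toRingHom (F₂ l)),
    MvPolynomial.map ψ₄.toRingHom (MvPolynomial.map ψ₃.toRingHom a₂), ?_, ?_, Ideal.span_le.2 ?_, fun t => ?_⟩
  · rw [map_comp_stage ψ₄ hψ₄, map_comp_stage ψ₃ hψ₃, map_comp_stage ψ₂ hψ₂]
  · rw [← map_snocPres]
    refine isRelGCI_map ψ₄.toRingHom ?_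
    rw [← map_snocPres]
    exact isRelGCI_map ψ₃.toRingHom hrel₂
  · rintro _ ⟨l, rfl⟩
    have := span_map_mem ψ₄.toRingHom _ (h3 l (Finset.mem_univ _))
    rw [SetLike.mem_coe]
    simpa only [map_base_stage] using this
  · have := h4 t (Finset.mem_univ _)
    simpa only [map_mul, map_base_stage] using this

/-- A syntomic algebra over the colimit is syntomic at some stage. -/
theorem IsStageSystem.exists_syntomic (hs : IsStageSystem R π) {n r : ℕ} (G₀ : Fin r → MvPolynomial (Fin n) R₀) (i : ι)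
    (h : Synt.IsSyntomic R' (MvPolynomial (Fin n) R' ⧸
      Ideal.span (Set.range fun t => MvPolynomial.map (algebraMap R₀ R') (G₀ t)))) :
    ∃ j, Synt.IsSyntomic (R j) (MvPolynomial (Fin n) (R j) ⧸
      Ideal.span (Set.range fun t => MvPolynomial.map (algebraMap R₀ (R j)) (G₀ t))) := by
  classical
  let J' := Ideal.span (Set.range fun t => MvPolynomial.map (algebraMap R₀ R') (G₀ t))
  let φ := Ideal.Quotient.mkₐ R' J'
  have hker : RingHom.ker φ.toRingHom = J' := Ideal.mk_ker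
  choose c F a hcn haq _ _ hrel hFI hkill using fun q : PrimeSpectrum (MvPolynomial (Fin n) R' ⧸ J') =>
    exists_regular_away φ Ideal.Quotient.mk_surjective h q.asIdeal
  have htop : Ideal.span (Set.range fun q => φ (a q)) = ⊤ := by
    by_contra hne
    obtain ⟨M, hM, hle⟩ := Ideal.exists_le_maximal _ hne
    exact haq ⟨M, hM.isPrime⟩ (hle (Ideal.subset_span ⟨⟨M, hM.isPrime⟩, rfl⟩))
  obtain ⟨L, w, hw⟩ : ∃ (L : Finset (PrimeSpectrum (MvPolynomial (Fin n) R' ⧸ J'))) (w : _ → MvPolynomial (Fin n) R'),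
      (∑ q ∈ L, w q * a q) - 1 ∈ J' := by
    obtain ⟨d, hd⟩ := Finsupp.mem_ideal_span_range_iff_exists_finsupp.1 ((Ideal.eq_top_iff_one _).1 htop)
    choose w hw using fun q => Ideal.Quotient.mk_surjective (d q)
    refine ⟨d.support, w, ?_⟩
    rw [← Ideal.Quotient.eq_zero_iff_mem, map_sub, map_sum, map_one, sub_eq_zero, ← hd, Finsupp.sum]
    exact Finset.sum_congr rfl fun q _ => by rw [map_mul, hw]; rfl
  have hall : ∀ (s : Finset (PrimeSpectrum (MvPolynomial (Fin n) R' ⧸ J'))) (i : ι),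
      ∃ (j : ι) (ψ : R i →ₐ[R₀] R j), (π j).comp ψ = π i ∧ ∀ q ∈ s, Chart (π := π) n G₀ j (a q) := by
    intro s
    induction s using Finset.induction_on with
    | empty => exact fun i => ⟨i, AlgHom.id R₀ (R i), AlgHom.comp_id _, by simp⟩
    | @insert q s _ ih =>
      intro i
      obtain ⟨j, ψ, hψ, hj⟩ := ih i
      obtain ⟨k, χ, hχ, hk⟩ := hs.exists_chart (hcn q) G₀ j (F q) (a q) (hrel q)
        (fun l => hker.le (hFI q (Ideal.subset_span (Set.mem_range_self l))))
        (fun t => hkill q _ (hker.ge (Ideal.subset_span ⟨t, rfl⟩)))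
      refine ⟨k, χ.comp ψ, by rw [← AlgHom.comp_assoc, hχ, hψ], fun q' hq' => ?_⟩
      rcases Finset.mem_insert.1 hq' with rfl | hq'
      · exact hk
      · exact (hj q' hq').mono χ hχ
  obtain ⟨i₁, -, -, hch⟩ := hall L i
  let e := L.equivFin.symm
  choose c₁ F₁ a₁ ha₁ hrel₁ hFI₁ hkill₁ using fun t : Fin L.card => hch (e t).1 (e t).2
  obtain ⟨i₂, ψ₂, hψ₂, h2⟩ := hs.exists_mem (κ := Fin L.card ⊕ Fin r) i₁ 1
    (Sum.elim a₁ fun t => MvPolynomial.map (algebraMap R₀ (R i₁)) (G₀ t)) (by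
      rw [map_one, show (1 : MvPolynomial (Fin n) R') = (∑ q ∈ L, w q * a q) - ((∑ q ∈ L, w q * a q) - 1) by ring]
      refine Ideal.sub_mem _ (Ideal.sum_mem _ fun q hq => Ideal.mul_mem_left _ _ ?_) ((Ideal.span_le.2 ?_ : J' ≤ _) hw)
      · refine Ideal.subset_span ⟨Sum.inl (L.equivFin ⟨q, hq⟩), ?_⟩
        show MvPolynomial.map (π i₁).toRingHom (a₁ _) = a q
        rw [ha₁, Equiv.symm_apply_apply]
      · rintro _ ⟨t, rfl⟩
        exact Ideal.subset_span ⟨Sum.inr t, map_base_colim i₁ (G₀ t)⟩)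
  refine ⟨i₂, ?_⟩
  let J := Ideal.span (Set.range fun t => MvPolynomial.map (algebraMap R₀ (R i₂)) (G₀ t))
  let φ₂ := Ideal.Quotient.mkₐ (R i₂) J
  refine isSyntomic_of_cover (Set.range fun t => φ₂ (MvPolynomial.map ψ₂.toRingHom (a₁ t))) ?_ ?_
  · rw [Ideal.eq_top_iff_one, ← map_one φ₂]
    rw [map_one] at h2
    have h3 := Ideal.mem_map_of_mem φ₂.toRingHom h2
    rw [Ideal.map_span, ← Set.range_comp] at h3
    refine (Ideal.span_le.2 ?_ : _ ≤ _) h3
    rintro _ ⟨t | t, rfl⟩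
    · exact Ideal.subset_span ⟨t, rfl⟩
    · show φ₂ (MvPolynomial.map ψ₂.toRingHom (MvPolynomial.map (algebraMap R₀ (R i₁)) (G₀ t))) ∈ _
      rw [map_base_stage, show φ₂ (MvPolynomial.map (algebraMap R₀ (R i₂)) (G₀ t)) = 0 from
        Ideal.Quotient.eq_zero_iff_mem.2 (Ideal.subset_span ⟨t, rfl⟩)]
      exact zero_mem _
  · rintro _ ⟨t, rfl⟩
    let F₂ := fun l => MvPolynomial.map ψ₂.toRingHom (F₁ t l)
    obtain ⟨e'⟩ := exists_pres_away φ₂ Ideal.Quotient.mk_surjective F₂ (MvPolynomial.map ψ₂.toRingHom (a₁ t))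
      (by
        rw [show RingHom.ker φ₂.toRingHom = J from Ideal.mk_ker]
        refine Ideal.span_le.2 ?_
        rintro _ ⟨l, rfl⟩
        have := span_map_mem ψ₂.toRingHom _ (hFI₁ t (Ideal.subset_span (Set.mem_range_self l)))
        rw [SetLike.mem_coe]
        simpa only [map_base_stage] using this)
      (fun x hx => by
        rw [show RingHom.ker φ₂.toRingHom = J from Ideal.mk_ker] at hx
        obtain ⟨d, rfl⟩ := Ideal.mem_span_range_iff_exists_fun.1 hx
        rw [Finset.mul_sum]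
        refine Ideal.sum_mem _ fun s _ => ?_
        rw [mul_left_comm]
        refine Ideal.mul_mem_left _ _ ?_
        have := span_map_mem ψ₂.toRingHom _ (hkill₁ t s)
        rwa [map_mul, map_base_stage] at this)
    refine isSyntomic_of_algEquiv e'.symm (isSyntomic_relGCI ?_)
    rw [← map_snocPres]
    exact isRelGCI_map ψ₂.toRingHom (hrel₁ t)

end Stages

end Groth.Agent.SyntLib
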