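import Groth.Agent.SyntLib.Descend

/-!
# The square of a base change of presented algebras
-/

set_option autoImplicit false
set_option linter.style.haveILetI false
universe u

open MvPolynomial CategoryTheory AlgebraicGeometry
open scoped TensorProduct

namespace Groth.Agent.SyntLib

attribute [local instance] Algebra.TensorProduct.rightAlgebra

theorem isPullback_relGCI {R R' : Type u} [CommRing R] [CommRing R'] [Algebra R R'] {n c : ℕ}
    (F : Fin c → MvPolynomial (Fin n) R) :
    IsPullback
      (Spec.map (CommRingCat.ofHom (Ideal.quotientMap _ (MvPolynomial.map (algebraMap R R')) (hle_map F))) :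
        Spec (CommRingCat.of (Synt.RelGCIRing R' n c fun i => MvPolynomial.map (algebraMap R R') (F i))) ⟶
          Spec (CommRingCat.of (Synt.RelGCIRing R n c F)))
      (Spec.map (CommRingCat.ofHom (algebraMap R' (Synt.RelGCIRing R' n c fun i => MvPolynomial.map (algebraMap R R') (F i)))))
      (Spec.map (CommRingCat.ofHom (algebraMap R (Synt.RelGCIRing R n c F))))
      (Spec.map (CommRingCat.ofHom (algebraMap R R'))) := by
  let F' : Fin c → MvPolynomial (Fin n) R' := fun i => MvPolynomial.map (algebraMap R R') (F i)
  let S := Synt.RelGCIRing R n c F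
  let S' := Synt.RelGCIRing R' n c F'
  let φ := Ideal.Quotient.mkₐ R (Ideal.span (Set.range F))
  let ψ := fibrePresOf R' φ
  have hψ : Function.Surjective ψ := fibrePresOf_surjective R' φ Ideal.Quotient.mk_surjective
  have hker : RingHom.ker ψ.toRingHom = Ideal.span (Set.range F') := by
    rw [ker_fibrePresOf R' φ Ideal.Quotient.mk_surjective,
      show RingHom.ker φ.toRingHom = Ideal.span (Set.range F) from Ideal.mk_ker, Ideal.map_span, ← Set.range_comp]
    rfl
  let e : (R' ⊗[R] S) ≃ₐ[R'] S' :=
    ((Ideal.quotientEquivAlgOfEq R' hker.symm).trans (Ideal.quotientKerAlgEquivOfSurjective hψ)).symm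
  letI : Algebra S S' := (Ideal.quotientMap _ (MvPolynomial.map (algebraMap R R')) (hle_map F)).toAlgebra
  haveI : IsScalarTower R S S' := IsScalarTower.of_algebraMap_eq (R := R) (S := S) (A := S') fun r => by
    show Ideal.Quotient.mk (Ideal.span (Set.range F')) (MvPolynomial.C (algebraMap R R' r)) =
      Ideal.Quotient.mk (Ideal.span (Set.range F')) (MvPolynomial.map (algebraMap R R') (MvPolynomial.C r))
    rw [MvPolynomial.map_C]
  haveI : Algebra.IsPushout R R' S S' := by
    refine Algebra.IsPushout.of_equiv (h := (inferInstance : Algebra.IsPushout R R' S (R' ⊗[R] S))) e (RingHom.ext fun s => ?_)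
    obtain ⟨x, rfl⟩ := Ideal.Quotient.mk_surjective s
    show e ((1 : R') ⊗ₜ[R] φ x) = Ideal.Quotient.mk (Ideal.span (Set.range F')) (MvPolynomial.map (algebraMap R R') x)
    refine (AlgEquiv.symm_apply_eq _).2 ?_
    exact (fibrePresOf_map φ x).symm
  exact (isPullback_SpecMap_of_isPushout _ _ _ _ (CommRingCat.isPushout_of_isPushout R R' S S')).flip

end Groth.Agent.SyntLib
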