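import Groth.Agent.CotT.CI
import Groth.Agent.CotT.RegQuot
import Groth.Agent.SerreReg.Regular
import Groth.Agent.RegLoc.QuotientRegular
import Groth.Prelude.Def_RegImm
import Mathlib.RingTheory.EssentialFiniteness
import Mathlib.Data.Fin.Tuple.Basic

/-!
# Complete intersections: numerical criterion and independence of the presentation
-/

set_option autoImplicit false
set_option linter.style.haveILetI false
universe u

open IsLocalRing RingTheory.Sequence

namespace Groth.Agent.SyntLib

/-- The kernel of `π` is generated by `dim R - dim S` elements. -/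
def NumCI {R S : Type u} [CommRing R] [CommRing S] (π : R →+* S) : Prop :=
  ∃ rs : List R, RingHom.ker π = Ideal.ofList rs ∧ ringKrullDim R = ringKrullDim S + (rs.length : WithBot ℕ∞)

theorem ringKrullDim_eq_quotient {R S : Type u} [CommRing R] [CommRing S] (π : R →+* S) (hπ : Function.Surjective π)
    {I : Ideal R} (hI : RingHom.ker π = I) : ringKrullDim (R ⧸ I) = ringKrullDim S := by
  subst hI
  exact ringKrullDim_eq_of_ringEquiv (RingHom.quotientKerEquivOfSurjective hπ)

theorem isRegular_iff_weakly {R : Type u} [CommRing R] [IsLocalRing R] [IsNoetherianRing R] (rs : List R)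
    (hrs : Ideal.ofList rs ≠ ⊤) : IsRegular R rs ↔ IsWeaklyRegular R rs :=
  ⟨fun h => h.toIsWeaklyRegular, fun h => ⟨h, by rw [smul_eq_mul, Ideal.mul_top]; exact Ne.symm hrs⟩⟩

/-- Over a regular local ring the numerical criterion means that the kernel is generated by a regular sequence. -/
theorem numCI_iff_regular {R S : Type u} [CommRing R] [IsRegularLocalRing R] [CommRing S] [Nontrivial S] (π : R →+* S)
    (hπ : Function.Surjective π) :
    NumCI π ↔ ∃ rs : List R, IsRegular R rs ∧ RingHom.ker π = Ideal.ofList rs := by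
  constructor
  · rintro ⟨rs, hker, hdim⟩
    have hne : Ideal.ofList rs ≠ ⊤ := hker ▸ RingHom.ker_ne_top π
    refine ⟨rs, (isRegular_iff_weakly rs hne).mpr (CotT.isWeaklyRegular_of_dim rs hne ?_), hker⟩
    rw [ringKrullDim_eq_quotient π hπ hker, hdim, add_comm]
  · rintro ⟨rs, hreg, hker⟩
    have hne : Ideal.ofList rs ≠ ⊤ := hker ▸ RingHom.ker_ne_top π
    refine ⟨rs, hker, ?_⟩
    rw [← CotT.dim_of_isWeaklyRegular rs hne hreg.toIsWeaklyRegular, ringKrullDim_eq_quotient π hπ hker, add_comm]

theorem numCI_congr {R R' S : Type u} [CommRing R] [CommRing R'] [CommRing S] (e : R' ≃+* R) (π : R →+* S) :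
    NumCI π ↔ NumCI (π.comp e.toRingHom) := by
  constructor
  · rintro ⟨rs, hker, hdim⟩
    refine ⟨rs.map e.symm, ?_, by rw [List.length_map, ringKrullDim_eq_of_ringEquiv e, hdim]⟩
    rw [← RingHom.comap_ker, hker]
    exact (Ideal.map_symm (I := Ideal.ofList rs) e).symm.trans (Ideal.map_ofList (e.symm : R →+* R') rs)
  · rintro ⟨rs, hker, hdim⟩
    refine ⟨rs.map e, ?_, by rw [List.length_map, ← ringKrullDim_eq_of_ringEquiv e, hdim]⟩
    refine Eq.trans ?_ (Ideal.map_ofList e.toRingHom rs)
    rw [← hker, ← RingHom.comap_ker]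
    exact (Ideal.map_comap_of_surjective e.toRingHom e.surjective _).symm

/-- Regular quotients can be used in place of the ring. -/
theorem numCI_of_quot {R S : Type u} [CommRing R] [IsRegularLocalRing R] [CommRing S] (π : R →+* S) {x : R}
    (hx : x ∈ RingHom.ker π) (hxm : x ∈ maximalIdeal R) (hx2 : x ∉ maximalIdeal R ^ 2)
    (π' : R ⧸ Ideal.span {x} →+* S) (hπ' : π'.comp (Ideal.Quotient.mk (Ideal.span {x})) = π) (hI : RingHom.ker π ≠ ⊤)
    (h : NumCI π) : NumCI π' := by
  classical
  obtain ⟨rs, hker, hdim⟩ := h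
  obtain ⟨hR', hxreg⟩ := SerreReg.isRegularLocalRing_quot hxm hx2
  obtain ⟨c, hc⟩ := Finsupp.mem_span_iff_linearCombination R ({r | r ∈ rs} : Set R) x |>.mp (show x ∈ Ideal.ofList rs from hker ▸ hx)
  have hc' : ∃ j : {r | r ∈ rs}, IsUnit (c j) := by
    by_contra hcon
    push Not at hcon
    refine hx2 ?_
    rw [← hc, Finsupp.linearCombination_apply, pow_two]
    refine Ideal.sum_mem _ fun j _ => Ideal.mul_mem_mul (hcon j) ?_
    exact le_maximalIdeal hI (hker ▸ Ideal.subset_span j.2)
  obtain ⟨⟨r0, hr0⟩, hu⟩ := hc'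
  have hker' : RingHom.ker π' = Ideal.ofList ((rs.erase r0).map (Ideal.Quotient.mk (Ideal.span {x}))) := by
    rw [← Ideal.map_comap_of_surjective _ Ideal.Quotient.mk_surjective (RingHom.ker π'), RingHom.comap_ker, hπ',
      ← Ideal.map_ofList, hker]
    refine le_antisymm (Ideal.map_le_iff_le_comap.mpr (Ideal.span_le.mpr fun r hr => ?_))
      (Ideal.map_mono (Ideal.span_mono fun r hr => List.mem_of_mem_erase hr))
    rw [SetLike.mem_coe, Ideal.comap_map_of_surjective _ Ideal.Quotient.mk_surjective, ← RingHom.ker_eq_comap_bot, Ideal.mk_ker]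
    by_cases hrr : r = r0
    · subst hrr
      have hmem : c ⟨r, hr0⟩ * r ∈ Ideal.ofList (rs.erase r) ⊔ Ideal.span {x} := by
        have hsum := hc
        rw [Finsupp.linearCombination_apply, Finsupp.sum,
          ← Finset.sum_erase_add _ _ (Finsupp.mem_support_iff.mpr hu.ne_zero : (⟨r, hr0⟩ : {r | r ∈ rs}) ∈ c.support)] at hsum
        have h1 : c ⟨r, hr0⟩ * r = x - ∑ j ∈ c.support.erase ⟨r, hr0⟩, c j • (j : R) := by
          rw [eq_sub_iff_add_eq, add_comm]; exact hsum
        rw [h1]
        refine sub_mem (Submodule.mem_sup_right (Ideal.mem_span_singleton_self x)) (Submodule.mem_sup_left ?_)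
        refine Ideal.sum_mem _ fun j hj => Ideal.mul_mem_left _ _ (Ideal.subset_span ?_)
        exact (List.mem_erase_of_ne fun h => (Finset.mem_erase.mp hj).1 (Subtype.ext h)).mpr j.2
      exact (Ideal.unit_mul_mem_iff_mem _ hu).mp hmem
    · exact Submodule.mem_sup_left (Ideal.subset_span ((List.mem_erase_of_ne hrr).mpr hr))
  refine ⟨_, hker', ?_⟩
  have hd := CotT.dim_of_isWeaklyRegular [x]
    (by rw [Ideal.ofList_singleton, ne_eq, Ideal.span_singleton_eq_top]; exact hxm)
    ((isWeaklyRegular_cons_iff R x []).mpr ⟨hxreg, IsWeaklyRegular.nil _ _⟩)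
  rw [Ideal.ofList_singleton, hdim] at hd
  have hlen : rs.length = (rs.erase r0).length + 1 := by
    have := List.length_erase_of_mem hr0
    have := List.length_pos_of_mem hr0
    omega
  rw [List.length_map]
  have := hR'
  obtain ⟨a, ha⟩ := SerreReg.exists_dim_nat (R ⧸ Ideal.span {x})
  rw [hlen, ha] at hd
  rw [ha]
  generalize ringKrullDim S = D at hd ⊢
  induction D using WithBot.recBotCoe with
  | bot =>
    rw [WithBot.bot_add] at hd
    exact absurd hd (by simp)
  | coe D =>
    induction D using ENat.recTopCoe with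
    | top =>
      have hd2 : (((1 + a : ℕ) : ℕ∞) : WithBot ℕ∞) =
          (((⊤ : ℕ∞) + (((rs.erase r0).length + 1 : ℕ) : ℕ∞) : ℕ∞) : WithBot ℕ∞) := by
        rw [WithBot.coe_add, Nat.cast_add, WithBot.coe_add]
        simpa only [List.length_singleton, Nat.cast_add, Nat.cast_one, WithBot.coe_add, WithBot.coe_one, WithBot.coe_natCast] using hd
      rw [WithBot.coe_inj, top_add] at hd2
      exact absurd hd2 (ENat.natCast_ne_top _)
    | coe D =>
      simp only [List.length_singleton, Nat.cast_one] at hd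
      have hd' : 1 + a = D + ((rs.erase r0).length + 1) := by exact_mod_cast hd
      exact_mod_cast (show a = D + (rs.erase r0).length by omega)

/-- Independence of the regular cover. -/
theorem numCI_comp_iff : ∀ (N : ℕ) {T R S : Type u} [CommRing T] [IsRegularLocalRing T] [CommRing R] [IsRegularLocalRing R]
    [CommRing S] [Nontrivial S] (ρ : T →+* R) (π : R →+* S), (maximalIdeal T).spanFinrank ≤ N →
    Function.Surjective ρ → Function.Surjective π → (NumCI π ↔ NumCI (π.comp ρ)) := by
  intro N
  induction N with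
  | zero =>
    intro T R S _ _ _ _ _ _ ρ π hN hρ hπ
    have hm : maximalIdeal T = ⊥ :=
      (Submodule.spanFinrank_eq_zero_iff_eq_bot (IsNoetherian.noetherian _)).1 (Nat.le_zero.1 hN)
    have hk : RingHom.ker ρ = ⊥ := le_bot_iff.1 ((le_maximalIdeal (RingHom.ker_ne_top ρ)).trans hm.le)
    exact numCI_congr (RingEquiv.ofBijective ρ ⟨(RingHom.injective_iff_ker_eq_bot ρ).mpr hk, hρ⟩) π
  | succ N ih =>
    intro T R S _ _ _ _ _ _ ρ π hN hρ hπ
    by_cases hbot : RingHom.ker ρ = ⊥
    · exact numCI_congr (RingEquiv.ofBijective ρ ⟨(RingHom.injective_iff_ker_eq_bot ρ).mpr hbot, hρ⟩) π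
    set n := RingHom.ker ρ with hndef
    have hn : n ≠ ⊤ := RingHom.ker_ne_top ρ
    haveI : IsRegularRing R := CotT.isRegularRing_of_local R
    haveI : IsRegularRing (T ⧸ n) := IsRegularRing.of_ringEquiv (RingHom.quotientKerEquivOfSurjective hρ).symm
    obtain ⟨x, hx, hx2⟩ : ∃ x ∈ n, x ∉ maximalIdeal T ^ 2 := by
      by_contra h
      push Not at h
      refine hbot (Submodule.eq_bot_of_le_smul_of_le_jacobson_bot (maximalIdeal T) n (IsNoetherian.noetherian _) ?_
        (maximalIdeal_le_jacobson _))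
      exact fun y hy => RegLoc.inf_sq_le_mul_of_regular_quotient n hn ⟨hy, h y hy⟩
    have hxm : x ∈ maximalIdeal T := le_maximalIdeal hn hx
    obtain ⟨hT', hxreg⟩ := SerreReg.isRegularLocalRing_quot hxm hx2
    have := hT'
    have hdrop := SerreReg.spanFinrank_quot_succ_le hxm hx2
    let ρ' : T ⧸ Ideal.span {x} →+* R := Ideal.Quotient.lift _ ρ fun y hy =>
      (RingHom.mem_ker).mp ((Ideal.span_singleton_le_iff_mem n).mpr hx hy)
    have hρ' : Function.Surjective ρ' := Ideal.Quotient.lift_surjective_of_surjective _ _ hρ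
    rw [ih ρ' π (by omega) hρ' hπ]
    constructor
    · rintro ⟨rs, hker, hdim⟩
      choose g hg using fun z : T ⧸ Ideal.span {x} => Ideal.Quotient.mk_surjective z
      refine ⟨x :: rs.map g, ?_, ?_⟩
      · rw [Ideal.ofList_cons, ← RingHom.comap_ker]
        have : RingHom.ker (π.comp ρ') = (Ideal.ofList (rs.map g)).map (Ideal.Quotient.mk _) := by
          rw [hker, Ideal.map_ofList, List.map_map]
          congr 1
          exact (List.map_id rs).symm.trans (List.map_congr_left fun z _ => (hg z).symm)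
        calc Ideal.comap ρ (RingHom.ker π) = (RingHom.ker (π.comp ρ')).comap (Ideal.Quotient.mk _) := by
              rw [RingHom.comap_ker, RingHom.comap_ker]; rfl
          _ = _ := by
              rw [this, Ideal.comap_map_of_surjective _ Ideal.Quotient.mk_surjective, ← RingHom.ker_eq_comap_bot,
                Ideal.mk_ker, sup_comm]
      · have hd := CotT.dim_of_isWeaklyRegular [x]
          (by rw [Ideal.ofList_singleton, ne_eq, Ideal.span_singleton_eq_top]; exact hxm)
          ((isWeaklyRegular_cons_iff T x []).mpr ⟨hxreg, IsWeaklyRegular.nil _ _⟩)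
        rw [Ideal.ofList_singleton, hdim] at hd
        rw [← hd, List.length_singleton, List.length_cons, List.length_map, Nat.cast_add]
        abel
    · refine numCI_of_quot (π.comp ρ) ?_ hxm hx2 (π.comp ρ') rfl (RingHom.ker_ne_top _)
      show π (ρ x) = 0
      rw [RingHom.mem_ker.mp hx, map_zero]

variable (k : Type u) [Field k]

/-- Every element is a fraction of values with unit denominator. -/
def Generates {n : ℕ} {R : Type u} [CommRing R] [Algebra k R] (φ : MvPolynomial (Fin n) k →ₐ[k] R) : Prop :=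
  ∀ r : R, ∃ a b, IsUnit (φ b) ∧ r * φ b = φ a

theorem exists_generates (R : Type u) [CommRing R] [Algebra k R] [Algebra.EssFiniteType k R] :
    ∃ (n : ℕ) (g : Fin n → R), Generates k (MvPolynomial.aeval g : MvPolynomial (Fin n) k →ₐ[k] R) := by
  classical
  let s := Algebra.EssFiniteType.finset k R
  refine ⟨s.card, fun i => (s.equivFin.symm i : R), fun r => ?_⟩
  have hrange : Algebra.adjoin k (s : Set R) ≤ (MvPolynomial.aeval (fun i => (s.equivFin.symm i : R)) :
      MvPolynomial (Fin s.card) k →ₐ[k] R).range := Algebra.adjoin_le fun x hx =>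
    ⟨MvPolynomial.X (s.equivFin ⟨x, hx⟩), by
      show MvPolynomial.aeval _ (MvPolynomial.X _) = x
      rw [MvPolynomial.aeval_X, Equiv.symm_apply_apply]⟩
  obtain ⟨⟨⟨a, ha⟩, ⟨⟨b, hb⟩, hbu⟩⟩, hab⟩ := IsLocalization.surj (Algebra.EssFiniteType.submonoid k R) r
  obtain ⟨a', ha'⟩ := hrange ha
  obtain ⟨b', hb'⟩ := hrange hb
  refine ⟨a', b', ?_, ?_⟩
  · rw [show MvPolynomial.aeval (fun i => (s.equivFin.symm i : R)) b' = b from hb']; exact hbu
  · rw [show MvPolynomial.aeval (fun i => (s.equivFin.symm i : R)) b' = b from hb',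
      show MvPolynomial.aeval (fun i => (s.equivFin.symm i : R)) a' = a from ha']
    exact hab

variable {k}

theorem generates_of_range_le {n m : ℕ} {R : Type u} [CommRing R] [Algebra k R] {φ : MvPolynomial (Fin n) k →ₐ[k] R}
    {ψ : MvPolynomial (Fin m) k →ₐ[k] R} (h : φ.range ≤ ψ.range) (hφ : Generates k φ) : Generates k ψ := fun r => by
  obtain ⟨a, b, hb, hab⟩ := hφ r
  obtain ⟨a', ha'⟩ := h ⟨a, rfl⟩
  obtain ⟨b', hb'⟩ := h ⟨b, rfl⟩
  exact ⟨a', b', by rw [show ψ b' = φ b from hb']; exact hb, by rw [show ψ b' = φ b from hb', show ψ a' = φ a from ha']; exact hab⟩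

/-- The prime of the polynomial ring under the closed point. -/
noncomputable abbrev presPrime {n : ℕ} {R : Type u} [CommRing R] [IsLocalRing R] [Algebra k R] (φ : MvPolynomial (Fin n) k →ₐ[k] R) :
    Ideal (MvPolynomial (Fin n) k) :=
  (maximalIdeal R).comap φ.toRingHom

/-- The localised presentation. -/
noncomputable def presMap {n : ℕ} {R : Type u} [CommRing R] [IsLocalRing R] [Algebra k R]
    (φ : MvPolynomial (Fin n) k →ₐ[k] R) : Localization.AtPrime (presPrime φ) →+* R :=
  IsLocalization.lift (M := (presPrime φ).primeCompl) (g := φ.toRingHom) fun y => by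
    by_contra hy
    exact y.2 hy

theorem presMap_algebraMap {n : ℕ} {R : Type u} [CommRing R] [IsLocalRing R] [Algebra k R]
    (φ : MvPolynomial (Fin n) k →ₐ[k] R) (a : MvPolynomial (Fin n) k) :
    presMap φ (algebraMap _ _ a) = φ a :=
  IsLocalization.lift_eq _ a

theorem presMap_surjective {n : ℕ} {R : Type u} [CommRing R] [IsLocalRing R] [Algebra k R]
    {φ : MvPolynomial (Fin n) k →ₐ[k] R} (h : Generates k φ) : Function.Surjective (presMap φ) := fun r => by
  obtain ⟨a, b, hb, hab⟩ := h r
  refine ⟨IsLocalization.mk' _ a (⟨b, fun hm => hm hb⟩ : (presPrime φ).primeCompl), ?_⟩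
  exact (IsLocalization.lift_mk'_spec _ _ _ _).mpr (by rw [mul_comm]; exact hab.symm)

theorem numCI_pres_congr {n : ℕ} {S : Type u} [CommRing S] {Q Q' : Ideal (MvPolynomial (Fin n) k)} [Q.IsPrime] [Q'.IsPrime]
    (hQ : Q = Q') (f : Localization.AtPrime Q →+* S) (g : Localization.AtPrime Q' →+* S)
    (hfg : ∀ a : MvPolynomial (Fin n) k, f (algebraMap (MvPolynomial (Fin n) k) (Localization.AtPrime Q) a) =
      g (algebraMap (MvPolynomial (Fin n) k) (Localization.AtPrime Q') a)) (h : NumCI f) : NumCI g := by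
  subst hQ
  rwa [← IsLocalization.ringHom_ext Q.primeCompl (RingHom.ext hfg)]

theorem presMap_comp {n : ℕ} {R S : Type u} [CommRing R] [IsLocalRing R] [Algebra k R] [CommRing S] [IsLocalRing S]
    [Algebra k S] (φ : MvPolynomial (Fin n) k →ₐ[k] R) (π : R →ₐ[k] S) (hπ : Function.Surjective π) :
    presPrime φ = presPrime (π.comp φ) := by
  have : IsLocalHom π.toRingHom := IsLocalHom.of_surjective _ hπ
  ext a
  simp only [presPrime, Ideal.mem_comap, mem_maximalIdeal, mem_nonunits_iff]
  exact not_congr ⟨fun h => h.map π.toRingHom, fun h => IsUnit.of_map π.toRingHom _ h⟩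

theorem numCI_presMap_iff {n : ℕ} {R S : Type u} [CommRing R] [IsRegularLocalRing R] [Algebra k R] [CommRing S]
    [IsLocalRing S] [Algebra k S] (φ : MvPolynomial (Fin n) k →ₐ[k] R) (hφ : Generates k φ) (π : R →ₐ[k] S)
    (hπ : Function.Surjective π) : NumCI π.toRingHom ↔ NumCI (presMap (π.comp φ)) := by
  haveI : IsRegularLocalRing (Localization.AtPrime (presPrime φ)) := IsRegularRing.isRegularLocalRing_localization _
  rw [numCI_comp_iff _ (presMap φ) π.toRingHom le_rfl (presMap_surjective hφ) hπ]
  have hQ := presMap_comp φ π hπ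
  have he : ∀ a : MvPolynomial (Fin n) k, (π.toRingHom.comp (presMap φ)) (algebraMap _ (Localization.AtPrime (presPrime φ)) a) =
      presMap (π.comp φ) (algebraMap _ (Localization.AtPrime (presPrime (π.comp φ))) a) := fun a => by
    rw [RingHom.comp_apply, presMap_algebraMap, presMap_algebraMap]
    rfl
  exact ⟨numCI_pres_congr hQ _ _ he, numCI_pres_congr hQ.symm _ _ fun a => (he a).symm⟩

/-- Two regular covers of the same ring. -/
theorem numCI_iff {R R' S : Type u} [CommRing R] [IsRegularLocalRing R] [Algebra k R] [Algebra.EssFiniteType k R]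
    [CommRing R'] [IsRegularLocalRing R'] [Algebra k R'] [Algebra.EssFiniteType k R'] [CommRing S] [IsLocalRing S]
    [Algebra k S] (π : R →ₐ[k] S) (π' : R' →ₐ[k] S) (hπ : Function.Surjective π) (hπ' : Function.Surjective π') :
    NumCI π.toRingHom ↔ NumCI π'.toRingHom := by
  obtain ⟨n, g, hg⟩ := exists_generates k R
  obtain ⟨m, g', hg'⟩ := exists_generates k R'
  choose h hh using fun i => hπ (π' (g' i))
  choose h' hh' using fun i => hπ' (π (g i))
  let φ : MvPolynomial (Fin (n + m)) k →ₐ[k] R := MvPolynomial.aeval (Fin.append g h)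
  let φ' : MvPolynomial (Fin (n + m)) k →ₐ[k] R' := MvPolynomial.aeval (Fin.append h' g')
  have hφ : Generates k φ := generates_of_range_le (by
    rintro _ ⟨a, rfl⟩
    refine ⟨MvPolynomial.rename (Fin.castAdd m) a, ?_⟩
    show φ _ = MvPolynomial.aeval g a
    simp only [φ, MvPolynomial.aeval_rename]
    congr 2
    exact funext fun i => Fin.append_left g h i) hg
  have hφ' : Generates k φ' := generates_of_range_le (by
    rintro _ ⟨a, rfl⟩
    refine ⟨MvPolynomial.rename (Fin.natAdd n) a, ?_⟩
    show φ' _ = MvPolynomial.aeval g' a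
    simp only [φ', MvPolynomial.aeval_rename]
    congr 2
    exact funext fun i => Fin.append_right h' g' i) hg'
  have hcomp : π.comp φ = π'.comp φ' := by
    refine MvPolynomial.algHom_ext fun i => ?_
    induction i using Fin.addCases with
    | left i => simp [φ, φ', hh']
    | right i => simp [φ, φ', hh]
  rw [numCI_presMap_iff φ hφ π hπ, numCI_presMap_iff φ' hφ' π' hπ', hcomp]

/-- Complete intersections, by any presentation. -/
theorem isCIOver_iff_numCI {R S : Type u} [CommRing R] [IsRegularLocalRing R] [Algebra k R] [Algebra.EssFiniteType k R]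
    [CommRing S] [IsLocalRing S] [Algebra k S] (π : R →ₐ[k] S) (hπ : Function.Surjective π) :
    Synt.IsCIOver k S ↔ NumCI π.toRingHom := by
  constructor
  · rintro ⟨R', _, _, _, hR', rs, hmem, hreg, ⟨e⟩⟩
    haveI := hR'
    let π' : R' →ₐ[k] S := (e.symm.toAlgHom).comp (Ideal.Quotient.mkₐ k _)
    have hπ' : Function.Surjective π' := e.symm.surjective.comp Ideal.Quotient.mk_surjective
    refine (numCI_iff π π' hπ hπ').mpr ((numCI_iff_regular π'.toRingHom hπ').mpr ⟨rs, hreg, ?_⟩)
    ext a
    simp [π', Ideal.Quotient.eq_zero_iff_mem]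
  · intro h
    obtain ⟨rs, hreg, hker⟩ := (numCI_iff_regular π.toRingHom hπ).mp h
    exact ⟨R, inferInstance, inferInstance, inferInstance, inferInstance, rs,
      fun r hr => le_maximalIdeal (RingHom.ker_ne_top π.toRingHom) (hker ▸ Ideal.subset_span hr), hreg,
      ⟨((Ideal.quotientEquivAlgOfEq k hker.symm).trans (Ideal.quotientKerAlgEquivOfSurjective hπ)).symm⟩⟩

end Groth.Agent.SyntLib
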