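import Groth.Agent.SyntLib.Open

/-!
# Local equations with control of the prefixes
-/

set_option autoImplicit false
set_option linter.style.haveILetI false
universe u

open IsLocalRing RingTheory.Sequence MvPolynomial CategoryTheory AlgebraicGeometry
open scoped TensorProduct

namespace Groth.Agent.SyntLib

variable {R : Type u} [CommRing R] {n : ℕ}

/-- Local equations at a point where the algebra is flat with complete intersection fibre. -/
theorem exists_local_eqs' {S : Type u} [CommRing S] [Algebra R S] (φ : MvPolynomial (Fin n) R →ₐ[R] S)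
    (hφ : Function.Surjective φ) (hI : (RingHom.ker φ.toRingHom).FG) (p : Ideal R) [p.IsPrime]
    (Q : Ideal (p.Fiber S)) [Q.IsPrime] (q : Ideal S) [q.IsPrime]
    (hQ : Q.comap (Algebra.TensorProduct.includeRight : S →ₐ[R] p.Fiber S).toRingHom = q)
    [Module.Flat R (Localization.AtPrime q)] (hci : Synt.IsCIOver p.ResidueField (Localization.AtPrime Q)) :
    ∃ (c : ℕ) (F : Fin c → MvPolynomial (Fin n) R) (g : MvPolynomial (Fin n) R),
      Ideal.span (Set.range F) ≤ RingHom.ker φ.toRingHom ∧ φ g ∉ q ∧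
      (∀ i ∈ RingHom.ker φ.toRingHom, g * i ∈ Ideal.span (Set.range F)) ∧
      c ≤ n ∧ ∀ (i : ℕ) (hi : i ≤ c), ∃ z : PrimeSpectrum (Synt.RelGCIRing R n i (F ∘ Fin.castLE hi)),
        z.asIdeal.comap (Ideal.Quotient.mk (Ideal.span (Set.range (F ∘ Fin.castLE hi)))) = q.comap φ.toRingHom ∧
        z ∈ fibreDimLE R (Synt.RelGCIRing R n i (F ∘ Fin.castLE hi)) (n - i) := by
  let I := RingHom.ker φ.toRingHom
  let φI := fibrePresOf p.ResidueField φ
  let Qx := Q.comap φI.toRingHom
  have hQx : Qx.comap (red (R := R) p.ResidueField n) = q.comap φ.toRingHom := by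
    rw [← hQ]
    ext x
    show φI (red (R := R) p.ResidueField n x) ∈ Q ↔ _
    rw [fibrePresOf_map]
    rfl
  obtain ⟨rs, hreg, hrs⟩ := (isCIOver_atPrime_iff φI (fibrePresOf_surjective _ φ hφ) Q).mp hci
  rw [ker_fibrePresOf _ φ hφ] at hrs
  let A := Localization.AtPrime (Qx.comap (red (R := R) p.ResidueField n))
  let B := Localization.AtPrime Qx
  obtain ⟨ψ, hψ, hker, hψx⟩ := exists_fibre_local p Qx
  let IA := I.map (algebraMap (MvPolynomial (Fin n) R) A)
  have hψI : IA.map ψ = Ideal.ofList rs := by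
    rw [← hrs, Ideal.map_map, Ideal.map_map]
    congr 1
    exact RingHom.ext hψx
  -- lifting the equations
  have hlift : ∀ i : Fin rs.length, ∃ (a : MvPolynomial (Fin n) R) (u y : A), a ∈ I ∧ IsUnit u ∧
      algebraMap _ A a = u * y ∧ ψ y = rs.get i := by
    intro i
    obtain ⟨y, hy, hyi⟩ := (Ideal.mem_map_iff_of_surjective ψ hψ).mp (hψI ▸ Ideal.subset_span (List.get_mem rs i) : rs.get i ∈ IA.map ψ)
    obtain ⟨⟨⟨a, ha⟩, s⟩, hs⟩ := (IsLocalization.mem_map_algebraMap_iff (Qx.comap (red (R := R) p.ResidueField n)).primeCompl A).mp hy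
    exact ⟨a, algebraMap (MvPolynomial (Fin n) R) A s, y, ha, IsLocalization.map_units A s,
      by rw [mul_comm]; exact hs.symm, hyi⟩
  choose F u y hFI hu hFy hyi using hlift
  have hFle : Ideal.span (Set.range F) ≤ I := Ideal.span_le.mpr (by rintro _ ⟨i, rfl⟩; exact hFI i)
  let JA := (Ideal.span (Set.range F)).map (algebraMap (MvPolynomial (Fin n) R) A)
  have hJψ : JA.map ψ = Ideal.ofList rs := by
    refine le_antisymm (hψI ▸ Ideal.map_mono (Ideal.map_mono hFle)) (Ideal.span_le.mpr fun x hx => ?_)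
    obtain ⟨i, rfl⟩ := List.get_of_mem hx
    rw [SetLike.mem_coe, ← hyi i]
    refine Ideal.mem_map_of_mem _ ((Ideal.unit_mul_mem_iff_mem _ (hu i)).mp ?_)
    rw [← hFy i]
    exact Ideal.mem_map_of_mem _ (Ideal.subset_span (Set.mem_range_self i))
  -- flatness of the quotient
  haveI hflat : Module.Flat R (A ⧸ IA) := by
    obtain ⟨χ, hχ, hkχ, -⟩ := exists_local_quot (R := R) φ hφ q
    let A' := Localization.AtPrime (q.comap φ.toRingHom)
    haveI : Module.Flat R (A' ⧸ I.map (algebraMap (MvPolynomial (Fin n) R) A')) := by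
      have heq : I.map (algebraMap (MvPolynomial (Fin n) R) A') = RingHom.ker χ.toRingHom := hkχ.symm
      exact Module.Flat.of_linearEquiv
        ((Ideal.quotientEquivAlgOfEq R heq).trans (Ideal.quotientKerAlgEquivOfSurjective hχ)).toLinearEquiv
    have key : ∀ (P₁ P₂ : Ideal (MvPolynomial (Fin n) R)) (_ : P₁.IsPrime) (_ : P₂.IsPrime), P₁ = P₂ →
        Module.Flat R (Localization.AtPrime P₂ ⧸ I.map (algebraMap (MvPolynomial (Fin n) R) (Localization.AtPrime P₂))) →
        Module.Flat R (Localization.AtPrime P₁ ⧸ I.map (algebraMap (MvPolynomial (Fin n) R) (Localization.AtPrime P₁))) := by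
      intro P₁ P₂ h₁ h₂ heq hf
      subst heq
      exact hf
    exact key _ _ inferInstance inferInstance hQx ‹_›
  -- Nakayama
  have hIJ : IA ≤ JA := by
    refine Submodule.le_of_le_smul_of_le_jacobson_bot (I := maximalIdeal A) (hI.map _)
      (IsLocalRing.jacobson_eq_maximalIdeal ⊥ bot_ne_top).ge fun x hx => ?_
    have h1 : x ∈ (JA.map ψ).comap ψ := by
      rw [Ideal.mem_comap, hJψ, ← hψI]
      exact Ideal.mem_map_of_mem _ hx
    rw [Ideal.comap_map_of_surjective ψ hψ, ← RingHom.ker_eq_comap_bot, hker] at h1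
    obtain ⟨j, hj, k, hk, rfl⟩ := Submodule.mem_sup.mp h1
    refine Submodule.add_mem_sup hj ?_
    have hkI : k ∈ IA := (Submodule.add_mem_iff_right IA (Ideal.map_mono hFle hj)).mp hx
    have hkp : k ∈ p • (⊤ : Submodule R A) := (InjFibre.mem_smul_top_iff p k).mp (by
      rw [smul_eq_mul, Ideal.mul_top]; exact hk)
    have hex : Function.Exact ((Submodule.subtype IA).restrictScalars R) (Ideal.Quotient.mkₐ R IA).toLinearMap := by
      intro a
      constructor
      · intro ha
        exact ⟨⟨a, Ideal.Quotient.eq_zero_iff_mem.mp ha⟩, rfl⟩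
      · rintro ⟨b, rfl⟩
        exact Ideal.Quotient.eq_zero_iff_mem.mpr b.2
    have h2 := LocalCrit.mem_smul_of_map_mem_of_mulMap_injective ((Submodule.subtype IA).restrictScalars R)
      Subtype.val_injective (Ideal.Quotient.mkₐ R IA).toLinearMap Ideal.Quotient.mk_surjective hex p
      (LocalCrit.mulMap_injective p) (x := (⟨k, hkI⟩ : IA)) hkp
    have h3 := (Submodule.mem_smul_top_iff (p.map (algebraMap R A)) IA ⟨k, hkI⟩).mp
      ((InjFibre.mem_smul_top_iff (B := A) p (⟨k, hkI⟩ : IA)).mpr h2)
    refine Submodule.smul_mono_left ?_ h3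
    refine Ideal.map_le_iff_le_comap.mpr fun r hr => ?_
    rw [Ideal.mem_comap]
    refine le_maximalIdeal (RingHom.ker_ne_top ψ) ?_
    rw [hker]
    exact Ideal.mem_map_of_mem _ hr
  obtain ⟨g, hg, hgI⟩ := exists_mul_mem (Qx.comap (red (R := R) p.ResidueField n)) hI hIJ
  -- the fibre dimensions of the prefixes
  haveI : IsNoetherianRing B := IsLocalization.isNoetherianRing Qx.primeCompl B inferInstance
  have hψF : ∀ j : Fin rs.length, algebraMap _ B (red (R := R) p.ResidueField n (F j)) = ψ (u j) * rs.get j := by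
    intro j
    rw [← hψx, hFy, map_mul, hyi]
  have hpre : ∀ (i : ℕ) (hi : i ≤ rs.length), i ≤ n ∧
      ∃ z : PrimeSpectrum (Synt.RelGCIRing R n i (F ∘ Fin.castLE hi)),
        z.asIdeal.comap (Ideal.Quotient.mk (Ideal.span (Set.range (F ∘ Fin.castLE hi)))) =
          Qx.comap (red (R := R) p.ResidueField n) ∧
        z ∈ fibreDimLE R (Synt.RelGCIRing R n i (F ∘ Fin.castLE hi)) (n - i) := by
    intro i hi
    have hkmk : RingHom.ker (Ideal.Quotient.mkₐ R (Ideal.span (Set.range (F ∘ Fin.castLE hi)))).toRingHom =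
        Ideal.span (Set.range (F ∘ Fin.castLE hi)) := Ideal.mk_ker
    refine exists_point_fibreDimLE (c := i) (Ideal.Quotient.mkₐ R (Ideal.span (Set.range (F ∘ Fin.castLE hi))))
      Ideal.Quotient.mk_surjective p Qx
      (by
        rw [hkmk, hQx]
        intro x hx
        have hx' : x ∈ RingHom.ker φ.toRingHom :=
          hFle (Ideal.span_mono (Set.range_comp_subset_range _ F) hx)
        rw [Ideal.mem_comap, show φ.toRingHom x = 0 from hx']
        exact q.zero_mem)
      fun P hP hPw => by
        haveI := hP.1.1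
        rw [hkmk] at hP
        have hd : Disjoint (Qx.primeCompl : Set (MvPolynomial (Fin n) p.ResidueField)) (P : Set _) :=
          Set.disjoint_left.mpr fun x hx hxP => hx (hPw hxP)
        haveI := IsLocalization.isPrime_of_isPrime_disjoint Qx.primeCompl B P inferInstance hd
        have hw : IsWeaklyRegular B (rs.take i) := by
          have h := hreg.toIsWeaklyRegular
          rw [← List.take_append_drop i rs, isWeaklyRegular_append_iff] at h
          exact h.1
        have h1 := Catenary.length_le_height hw (P.map (algebraMap _ B)) fun x hx => by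
          obtain ⟨j, hj, rfl⟩ := List.mem_iff_getElem.mp hx
          rw [List.getElem_take]
          simp only [List.length_take] at hj
          have hj' : j < i := lt_of_lt_of_le hj (min_le_left _ _)
          refine ((Ideal.unit_mul_mem_iff_mem (P.map (algebraMap _ B)) ((hu (Fin.castLE hi ⟨j, hj'⟩)).map ψ)).mp ?_)
          show ψ (u (Fin.castLE hi ⟨j, hj'⟩)) * rs.get (Fin.castLE hi ⟨j, hj'⟩) ∈ _
          rw [← hψF]
          exact Ideal.mem_map_of_mem _ (hP.1.2 (Ideal.mem_map_of_mem _ (Ideal.subset_span ⟨⟨j, hj'⟩, rfl⟩)))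
        rw [List.length_take, min_eq_left hi] at h1
        refine h1.trans (le_of_eq ?_)
        rw [← IsLocalization.height_under Qx.primeCompl (P.map (algebraMap _ B))]
        exact congrArg _ (IsLocalization.under_map_of_isPrime_disjoint Qx.primeCompl B inferInstance hd)
  refine ⟨rs.length, F, g, hFle, fun hgq => hg (hQx.symm ▸ hgq), hgI, (hpre _ le_rfl).1, fun i hi => ?_⟩
  rw [← hQx]
  exact (hpre i hi).2

end Groth.Agent.SyntLib
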