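import Groth.Agent.SyntLib.Regular
import Groth.Agent.SyntLib.Spread
import Groth.Agent.SyntLib.Cotangent

/-!
# Syntomic algebras cut out by a basis of the conormal module are relative complete intersections
-/

set_option autoImplicit false
set_option linter.style.haveILetI false
universe u

open MvPolynomial

namespace Groth.Agent.SyntLib

/-- Two families that generate `J` near `q` and are independent modulo `qJ` have the same size. -/
theorem card_eq_of_local_indep {B : Type u} [CommRing B] (q J : Ideal B) [q.IsPrime] {m c : ℕ}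
    (h : Fin m → B) (F : Fin c → B) (hhJ : ∀ i, h i ∈ J) (hFJ : ∀ j, F j ∈ J) (u a : B) (hu : u ∉ q) (ha : a ∉ q)
    (hhgen : ∀ x ∈ J, u * x ∈ Ideal.span (Set.range h)) (hFgen : ∀ x ∈ J, a * x ∈ Ideal.span (Set.range F))
    (hh : ∀ b : Fin m → B, ∑ i, b i * h i ∈ q * J → ∀ i, b i ∈ q)
    (hF : ∀ b : Fin c → B, ∑ i, b i * F i ∈ q * J → ∀ i, b i ∈ q) : m = c := by
  have key : ∀ {m c : ℕ} (h : Fin m → B) (F : Fin c → B) (_ : ∀ j, F j ∈ J) (a : B) (_ : a ∉ q)
      (_ : ∀ i, a * h i ∈ Ideal.span (Set.range F))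
      (_ : ∀ b : Fin m → B, ∑ i, b i * h i ∈ q * J → ∀ i, b i ∈ q), m ≤ c := by
    intro m c h F hFJ a ha hgen hh
    choose C hC using fun i => Ideal.mem_span_range_iff_exists_fun.1 (hgen i)
    let π := Ideal.Quotient.mk q
    haveI : Nontrivial (B ⧸ q) := Ideal.Quotient.nontrivial_iff.2 (Ideal.IsPrime.ne_top ‹_›)
    let f : (Fin m → B ⧸ q) →ₗ[B ⧸ q] (Fin c → B ⧸ q) := ((Matrix.of C).map π).vecMulLinear
    have hf : Function.Injective f := (injective_iff_map_eq_zero f).2 fun x hx => by
      choose b hb using fun i => Ideal.Quotient.mk_surjective (x i)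
      obtain rfl : (fun i => π (b i)) = x := funext hb
      have hCq : ∀ j, ∑ i, b i * C i j ∈ q := fun j => by
        rw [← Ideal.Quotient.eq_zero_iff_mem, map_sum]
        have := congrFun hx j
        simpa [f, Matrix.vecMul, dotProduct] using this
      have h1 : ∑ i, (a * b i) * h i ∈ q * J := by
        rw [show ∑ i, (a * b i) * h i = ∑ j, (∑ i, b i * C i j) * F j by
          simp only [Finset.sum_mul, mul_assoc]
          rw [Finset.sum_comm]
          exact Finset.sum_congr rfl fun i _ => by rw [← Finset.mul_sum, hC i]; ring]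
        exact Ideal.sum_mem _ fun j _ => Ideal.mul_mem_mul (hCq j) (hFJ j)
      funext i
      exact Ideal.Quotient.eq_zero_iff_mem.2 (((inferInstance : q.IsPrime).mem_or_mem (hh _ h1 i)).resolve_left ha)
    simpa using card_le_of_injective (B ⧸ q) f hf
  exact le_antisymm (key h F hFJ a ha (fun i => hFgen _ (hhJ i)) hh) (key F h hhJ u hu (fun j => hhgen _ (hFJ j)) hF)

/-- Independence modulo `J²` gives independence modulo `qJ`. -/
theorem indep_mod_prime {B : Type u} [CommRing B] (q J : Ideal B) [q.IsPrime] (hJq : J ≤ q) {c : ℕ}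
    (F : Fin c → B) (a : B) (ha : a ∉ q) (hFgen : ∀ x ∈ J, a * x ∈ Ideal.span (Set.range F))
    (hind : ∀ b : Fin c → B, ∑ j, b j * F j ∈ J ^ 2 → ∀ j, ∃ k : ℕ, a ^ k * b j ∈ J)
    (b : Fin c → B) (hb : ∑ i, b i * F i ∈ q * J) (j : Fin c) : b j ∈ q := by
  have hqJ : ∀ x ∈ q * J, ∃ t : Fin c → B, (∀ j, t j ∈ q) ∧ ∑ j, t j * F j = a * x := by
    intro x hx
    induction hx using Submodule.mul_induction_on' with
    | mem_mul_mem p hp y hy =>
      obtain ⟨s, hs⟩ := Ideal.mem_span_range_iff_exists_fun.1 (hFgen y hy)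
      exact ⟨fun j => p * s j, fun j => q.mul_mem_right _ hp, by
        simp only [mul_assoc, ← Finset.mul_sum, hs]; ring⟩
    | add x _ y _ hx hy =>
      obtain ⟨t, ht, htx⟩ := hx
      obtain ⟨t', ht', hty⟩ := hy
      exact ⟨t + t', fun j => q.add_mem (ht j) (ht' j), by
        simp only [Pi.add_apply, add_mul, Finset.sum_add_distrib, htx, hty, mul_add]⟩
  obtain ⟨t, ht, hta⟩ := hqJ _ hb
  obtain ⟨k, hk⟩ := hind (fun j => a * b j - t j) (by
    simp only [sub_mul, Finset.sum_sub_distrib, mul_assoc, ← Finset.mul_sum, hta, sub_self]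
    exact zero_mem _) j
  have h2 := ((inferInstance : q.IsPrime).mem_or_mem (hJq hk)).resolve_left
    fun h => ha ((inferInstance : q.IsPrime).mem_of_pow_mem k h)
  have h3 := q.add_mem h2 (ht j)
  rw [sub_add_cancel] at h3
  exact ((inferInstance : q.IsPrime).mem_or_mem h3).resolve_left ha

/-- A syntomic algebra cut out by a basis of its conormal module is a relative complete intersection. -/
theorem isRelGCI_of_conormal {R : Type u} [CommRing R] {N m : ℕ} {C : Type u} [CommRing C] [Algebra R C]
    (φ : MvPolynomial (Fin N) R →ₐ[R] C) (hφ : Function.Surjective φ) (hC : Synt.IsSyntomic R C)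
    (h : Fin m → MvPolynomial (Fin N) R) (hh : ∀ i, φ (h i) = 0) (u : MvPolynomial (Fin N) R) (hu : φ u = 1)
    (hgen : ∀ x ∈ RingHom.ker φ.toRingHom, u * x ∈ Ideal.span (Set.range h))
    (hindep : ∀ (q : Ideal (MvPolynomial (Fin N) R)), q.IsPrime → RingHom.ker φ.toRingHom ≤ q →
      ∀ b : Fin m → MvPolynomial (Fin N) R, ∑ i, b i * h i ∈ q * RingHom.ker φ.toRingHom → ∀ i, b i ∈ q) :
    Synt.IsRelGCI R (N + 1) (m + 1) (snocPres h u) := by
  let J := RingHom.ker φ.toRingHom
  intro p hp
  let κ := p.asIdeal.ResidueField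
  let f : Fin m → MvPolynomial (Fin N) κ := fun i => red κ N (h i)
  let g := red κ N u
  have hG : (fun i => red κ (N + 1) (snocPres h u i)) =
      Fin.snoc (fun i => rename Fin.castSucc (f i)) (rename Fin.castSucc g * X (Fin.last N) - 1) := by
    funext i
    induction i using Fin.lastCases with
    | last => simp [snocPres, g, red, map_rename]
    | cast i => simp [snocPres, f, red, map_rename]
  haveI := hp
  have hmin : ∀ P ∈ (Ideal.span (Set.range f)).minimalPrimes, g ∉ P → (m : ℕ∞) ≤ P.height := by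
    intro P hP hgP
    haveI := hP.1.1
    let q := P.comap (red (R := R) κ N)
    have hhq : ∀ i, h i ∈ q := fun i => hP.1.2 (Ideal.subset_span ⟨i, rfl⟩)
    have huq : u ∉ q := hgP
    have hJq : J ≤ q := fun x hx => ((inferInstance : q.IsPrime).mem_or_mem
      ((Ideal.span_le.2 (by rintro _ ⟨i, rfl⟩; exact hhq i) : Ideal.span (Set.range h) ≤ q) (hgen x hx))).resolve_left huq
    haveI : (q.map φ.toRingHom).IsPrime := Ideal.map_isPrime_of_surjective hφ hJq
    obtain ⟨c, F, a, -, haq, -, hreg, hrel, hFI, hkill⟩ := exists_regular_away φ hφ hC (q.map φ.toRingHom)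
    have ha : a ∉ q := fun hmem => haq (Ideal.mem_map_of_mem φ.toRingHom hmem)
    have hFJ : ∀ j, F j ∈ J := fun j => hFI (Ideal.subset_span (Set.mem_range_self j))
    obtain rfl : m = c := card_eq_of_local_indep q J h F hh hFJ u a huq ha hgen hkill
      (hindep q inferInstance hJq)
      (indep_mod_prime q J hJq F a ha hkill (indep_of_regular_away J a F hkill hFI hreg))
    let a' := red κ N a
    have ha' : a' ∉ P := ha
    let ρ := awayPres (⊥ : Ideal (MvPolynomial (Fin N) κ)) a'
    let T := Localization.Away (Ideal.Quotient.mk (⊥ : Ideal (MvPolynomial (Fin N) κ)) a')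
    let P₀ := P.map (Ideal.Quotient.mk (⊥ : Ideal (MvPolynomial (Fin N) κ)))
    haveI : P₀.IsPrime := Ideal.map_isPrime_of_surjective Ideal.Quotient.mk_surjective
      (Ideal.mk_ker.trans_le bot_le)
    have hP₀ : P₀.comap (Ideal.Quotient.mk (⊥ : Ideal (MvPolynomial (Fin N) κ))) = P := by
      rw [Ideal.comap_map_of_surjective _ Ideal.Quotient.mk_surjective, ← RingHom.ker_eq_comap_bot, Ideal.mk_ker,
        sup_eq_left.2 bot_le]
    let a₀ := Ideal.Quotient.mk (⊥ : Ideal (MvPolynomial (Fin N) κ)) a'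
    have ha₀ : a₀ ∉ P₀ := fun hmem => ha' (by rw [← hP₀]; exact hmem)
    have hd : Disjoint ((Submonoid.powers a₀ : Submonoid (MvPolynomial (Fin N) κ ⧸ (⊥ : Ideal (MvPolynomial (Fin N) κ)))) :
        Set (MvPolynomial (Fin N) κ ⧸ (⊥ : Ideal (MvPolynomial (Fin N) κ))))
        (P₀ : Set (MvPolynomial (Fin N) κ ⧸ (⊥ : Ideal (MvPolynomial (Fin N) κ)))) :=
      (Ideal.disjoint_powers_iff_notMem a₀ (Ideal.IsPrime.isRadical inferInstance)).mpr ha₀
    let PT := P₀.map (algebraMap _ T)
    haveI : PT.IsPrime := IsLocalization.isPrime_of_isPrime_disjoint _ T P₀ ‹_› hd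
    have hPT : PT.comap (algebraMap _ T) = P₀ :=
      IsLocalization.comap_map_of_isPrime_disjoint _ T ‹_› hd
    have hheight : PT.height = P.height := by
      rw [← IsLocalization.height_under (Submonoid.powers (Ideal.Quotient.mk (⊥ : Ideal (MvPolynomial (Fin N) κ)) a')) PT,
        show PT.under (MvPolynomial (Fin N) κ ⧸ (⊥ : Ideal (MvPolynomial (Fin N) κ))) = P₀ from hPT]
      exact RingEquiv.height_map (RingEquiv.quotientBot (MvPolynomial (Fin N) κ)).symm P
    let P' := PT.comap ρ.toRingHom
    have hren : ∀ x ∈ P, rename Fin.castSucc x ∈ P' := fun x hx => by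
      show ρ (rename Fin.castSucc x) ∈ PT
      rw [awayPres_rename]
      exact Ideal.mem_map_of_mem _ (Ideal.mem_map_of_mem _ hx)
    let r := rename Fin.castSucc a' * X (Fin.last N) - 1
    have hr : r ∈ P' := by
      show ρ r ∈ PT
      rw [map_sub, map_mul, awayPres_rename, awayPres_last, map_one, IsLocalization.Away.mul_invSelf, sub_self]
      exact zero_mem _
    have hkerρ : RingHom.ker ρ.toRingHom = Ideal.span {r} := by
      rw [ker_awayPres, awayIdeal, Ideal.map_bot, bot_sup_eq]
    let e : (MvPolynomial (Fin (N + 1)) κ ⧸ Ideal.span {r}) ≃+* T :=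
      (Ideal.quotEquivOfEq hkerρ.symm).trans (RingHom.quotientKerEquivOfSurjective (awayPres_surjective _ a'))
    have hP'le : P'.height ≤ P.height + 1 := by
      refine (Ideal.height_le_height_add_one_of_mem hr).trans ?_
      have hmap : Ideal.map e (P'.map (Ideal.Quotient.mk (Ideal.span {r}))) = PT := by
        refine (Ideal.map_map (Ideal.Quotient.mk (Ideal.span {r})) e.toRingHom).trans ?_
        rw [show (e.toRingHom.comp (Ideal.Quotient.mk (Ideal.span {r}))) = ρ.toRingHom from
          RingHom.ext fun x => rfl]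
        exact Ideal.map_comap_of_surjective _ (awayPres_surjective _ a') PT
      rw [← RingEquiv.height_map e, hmap, hheight]
    let G : Fin (m + 1) → MvPolynomial (Fin (N + 1)) κ := fun i => red κ (N + 1) (snocPres F a i)
    have hGP : Ideal.span (Set.range G) ≤ P' := Ideal.span_le.2 (by
      rintro _ ⟨i, rfl⟩
      induction i using Fin.lastCases with
      | last => simpa [G, snocPres, red, map_rename, a', r] using hr
      | cast i => simpa [G, snocPres, red, map_rename] using hren _ (show red κ N (F i) ∈ P from hJq (hFJ i)))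
    have hker : RingHom.ker (fibrePres κ (Ideal.span (Set.range (snocPres F a)))).toRingHom = Ideal.span (Set.range G) :=
      ker_fibrePres_span κ (snocPres F a)
    have hnt : Nontrivial (p.asIdeal.Fiber (Synt.RelGCIRing R (N + 1) (m + 1) (snocPres F a))) := by
      refine not_subsingleton_iff_nontrivial.mp fun hs => (inferInstance : P'.IsPrime).ne_top
        ((Ideal.eq_top_iff_one _).mpr (hGP ?_))
      rw [← hker]
      exact hs.elim _ _
    obtain ⟨hcn, hdim⟩ := hrel p hnt
    have h1 := height_eq_of_gci (S := p.asIdeal.Fiber (Synt.RelGCIRing R (N + 1) (m + 1) (snocPres F a))) hcn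
      (fibrePres κ (Ideal.span (Set.range (snocPres F a)))) G (fibrePres_surjective κ _) hker hdim hGP
    have h2 := h1.trans hP'le
    push_cast at h2
    exact (ENat.add_le_add_iff_right ENat.one_ne_top).mp h2
  let φ' : MvPolynomial (Fin (N + 1)) κ →ₐ[κ] p.asIdeal.Fiber (Synt.RelGCIRing R (N + 1) (m + 1) (snocPres h u)) :=
    fibrePres κ (Ideal.span (Set.range (snocPres h u)))
  have hker' : RingHom.ker φ'.toRingHom = Ideal.span (Set.range fun i => red κ (N + 1) (snocPres h u i)) :=
    ker_fibrePres_span κ (snocPres h u)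
  rw [hG] at hker'
  obtain ⟨hcn', hdim⟩ := dim_of_snoc (T' := p.asIdeal.Fiber (Synt.RelGCIRing R (N + 1) (m + 1) (snocPres h u))) φ'
    (fibrePres_surjective κ _) f g hker' hmin
  refine ⟨by omega, ?_⟩
  rw [hdim, show N + 1 - (m + 1) = N - m by omega]

end Groth.Agent.SyntLib
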